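import Mathlib
import Cfsg.Agent.ChevalleyStructure.LieAbs

/-!
# S3689, `BoxNT`: graded Lie algebras with a non-degenerate trace form (helper86)

`unip_eq_one` : if `g` is a unitriangular automorphism and `g ^ k`, `g` have the same traces `tr (g ad y)`, `k ≠ 1` in
the field, then `g = 1`.
-/

set_option autoImplicit false
set_option linter.unusedVariables false
set_option linter.unusedSectionVars false

namespace Cfsg.Agent.Cam.Odd.NT

open Matrix Cfsg.Agent.ChevalleyStructure.LieAbs

variable {ι K : Type*} [Fintype ι] [DecidableEq ι] [Field K]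

/-- matrices of degree at least `n` -/
def Fl (lv : ι → ℤ) (n : ℤ) (X : Matrix ι ι K) : Prop := ∀ i k, X i k ≠ 0 → lv k + n ≤ lv i

/-- vectors of degree at least `n` -/
def Vl (lv : ι → ℤ) (n : ℤ) (v : ι → K) : Prop := ∀ i, v i ≠ 0 → n ≤ lv i

/-- the product is graded -/
def Gr (A : ι → Matrix ι ι K) (lv : ι → ℤ) : Prop := ∀ j i k, A j i k ≠ 0 → lv i = lv j + lv k

variable {lv : ι → ℤ} {A : ι → Matrix ι ι K}

theorem Fl.mono {m n : ℤ} {X : Matrix ι ι K} (h : Fl lv n X) (hm : m ≤ n) : Fl lv m X :=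
  fun i k hx => by have := h i k hx; omega

theorem Fl.add {n : ℤ} {X Y : Matrix ι ι K} (hX : Fl lv n X) (hY : Fl lv n Y) : Fl lv n (X + Y) := by
  intro i k h
  by_cases h1 : X i k = 0
  · rw [Matrix.add_apply, h1, zero_add] at h
    exact hY i k h
  · exact hX i k h1

theorem Fl.smul {n : ℤ} {X : Matrix ι ι K} (hX : Fl lv n X) (c : K) : Fl lv n (c • X) :=
  fun i k h => hX i k (right_ne_zero_of_mul h)

theorem Fl.mul {m n : ℤ} {X Y : Matrix ι ι K} (hX : Fl lv m X) (hY : Fl lv n Y) : Fl lv (m + n) (X * Y) := by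
  intro i k h
  rw [Matrix.mul_apply] at h
  obtain ⟨j, -, hj⟩ := Finset.exists_ne_zero_of_sum_ne_zero h
  have h1 := hX i j (left_ne_zero_of_mul hj)
  have h2 := hY j k (right_ne_zero_of_mul hj)
  omega

theorem Fl.one : Fl lv 0 (1 : Matrix ι ι K) := by
  intro i k h
  by_cases h1 : i = k
  · rw [h1, add_zero]
  · exact absurd (Matrix.one_apply_ne h1) h

theorem Fl.zero (n : ℤ) : Fl lv n (0 : Matrix ι ι K) := fun i k h => absurd rfl h

theorem Fl.trace {n : ℤ} {X : Matrix ι ι K} (hX : Fl lv n X) (hn : 1 ≤ n) : X.trace = 0 := by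
  refine Finset.sum_eq_zero fun i _ => ?_
  by_contra h
  have := hX i i h
  omega

theorem Fl.mulVec {a n : ℤ} {X : Matrix ι ι K} {v : ι → K} (hX : Fl lv n X) (hv : Vl lv a v) :
    Vl lv (a + n) (X *ᵥ v) := by
  intro i h
  obtain ⟨j, -, hj⟩ := Finset.exists_ne_zero_of_sum_ne_zero (s := Finset.univ) (f := fun j => X i j * v j) h
  have h1 := hX i j (left_ne_zero_of_mul hj)
  have h2 := hv j (right_ne_zero_of_mul hj)
  omega

theorem Gr.fl (hG : Gr A lv) {a : ℤ} {v : ι → K} (hv : Vl lv a v) : Fl lv a (adv A v) := by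
  intro i k h
  rw [adv, Matrix.sum_apply] at h
  obtain ⟨j, -, hj⟩ := Finset.exists_ne_zero_of_sum_ne_zero h
  rw [Matrix.smul_apply, smul_eq_mul] at hj
  have h1 := hv j (left_ne_zero_of_mul hj)
  have h2 := hG j i k (right_ne_zero_of_mul hj)
  omega

theorem Gr.neg (hG : Gr A lv) : Gr A fun i => -lv i := fun j i k h => by
  have := hG j i k h
  show -lv i = -lv j + -lv k
  omega

theorem Vl.single (j : ι) {a : ℤ} (h : a ≤ lv j) : Vl lv a (Pi.single j (1 : K)) := by
  intro i hi
  by_cases h1 : i = j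
  · rwa [h1]
  · exact absurd (Pi.single_eq_of_ne h1 _) hi

theorem trace_adv (X : Matrix ι ι K) (y : ι → K) :
    (X * adv A y).trace = ∑ j, y j * (X * adv A (Pi.single j 1)).trace := by
  rw [adv, Finset.mul_sum, Matrix.trace_sum]
  refine Finset.sum_congr rfl fun j _ => ?_
  rw [adv_single_one, Matrix.mul_smul, Matrix.trace_smul, smul_eq_mul]

/-- the orthogonal of a term of the filtration -/
theorem perp (hG : Gr A lv) (hκ : ∀ z, (∀ y, (adv A z * adv A y).trace = 0) → z = 0) {c : ℤ} {z : ι → K}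
    (h : ∀ y, Vl lv (-c) y → (adv A z * adv A y).trace = 0) : Vl lv (c + 1) z := by
  let z' : ι → K := fun i => if lv i ≤ c then z i else 0
  have h1 : Vl lv (c + 1) (z - z') := by
    intro i hi
    by_contra hc
    apply hi
    rw [Pi.sub_apply]
    show z i - (if lv i ≤ c then z i else 0) = 0
    rw [if_pos (by omega), sub_self]
  have h2 : Vl (fun i => -lv i) (-c) z' := by
    intro i hi
    by_contra hc
    apply hi
    have hc' : ¬ -c ≤ -lv i := hc
    show (if lv i ≤ c then z i else 0) = 0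
    rw [if_neg (by omega)]
  have h3 : z' = 0 := by
    refine hκ z' fun y => ?_
    rw [trace_adv]
    refine Finset.sum_eq_zero fun j _ => mul_eq_zero_of_right _ ?_
    by_cases hj : -c ≤ lv j
    · have e : adv A z' = adv A z - adv A (z - z') := by rw [← adv_sub, sub_sub_cancel]
      rw [e, Matrix.sub_mul, Matrix.trace_sub, h _ (Vl.single j hj),
        ((hG.fl h1).mul (hG.fl (Vl.single j hj))).trace (by omega), sub_zero]
    · exact ((hG.neg.fl h2).mul (hG.neg.fl (Vl.single (a := c + 1) j (by show c + 1 ≤ -lv j; omega)))).trace (by omega)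
  rwa [h3, sub_zero] at h1

/-- one step -/
theorem step (hJ : ∀ x, Jac A x) (hG : Gr A lv) (hκ : ∀ z, (∀ y, (adv A z * adv A y).trace = 0) → z = 0)
    {N : Matrix ι ι K} (hg : ∀ v, (1 + N) * adv A v = adv A ((1 + N) *ᵥ v) * (1 + N)) {n : ℤ} (hn : 1 ≤ n)
    (hN : Fl lv n N) (h : ∀ y, Vl lv (-n) y → (N * adv A y).trace = 0) : Fl lv (n + 1) N := by
  intro i k hik
  have hx : Vl lv (lv k) (Pi.single k (1 : K)) := Vl.single k le_rfl
  set x : ι → K := Pi.single k 1 with hxd
  have hz : Vl lv (lv k + n) (N *ᵥ x) := hN.mulVec hx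
  have e : adv A (N *ᵥ x) = N * adv A x - adv A x * N - adv A (N *ᵥ x) * N := by
    have h1 := hg x
    rw [Matrix.add_mulVec, Matrix.one_mulVec, adv_add] at h1
    calc adv A (N *ᵥ x) = (adv A x + adv A (N *ᵥ x)) * (1 + N) - adv A x - adv A x * N - adv A (N *ᵥ x) * N := by
          noncomm_ring
      _ = _ := by rw [← h1]; noncomm_ring
  have h2 : Vl lv (lv k + n + 1) (N *ᵥ x) := by
    refine perp hG hκ fun y hy => ?_
    have h3 := h _ (by
      have h4 := (hG.fl hx).mulVec hy
      rwa [show -(lv k + n) + lv k = -n by ring] at h4)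
    rw [hJ x y, Matrix.mul_sub, Matrix.trace_sub] at h3
    have h5 := (((hG.fl hz).mul hN).mul (hG.fl hy)).trace (by omega)
    rw [e, Matrix.sub_mul, Matrix.sub_mul, Matrix.trace_sub, Matrix.trace_sub, h5, sub_zero, Matrix.mul_assoc,
      Matrix.mul_assoc, Matrix.trace_mul_comm (adv A x), Matrix.mul_assoc]
    exact h3
  have h3 : (N *ᵥ x) i = N i k := by
    rw [hxd, Matrix.mulVec_single_one]
    rfl
  have h4 := h2 i (by rwa [h3])
  omega

theorem pow_fl {N : Matrix ι ι K} {n : ℤ} (hn : 1 ≤ n) (hN : Fl lv n N) (k : ℕ) :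
    Fl lv (n + 1) ((1 + N) ^ k - 1 - (k : K) • N) := by
  induction k with
  | zero =>
    rw [pow_zero, sub_self, Nat.cast_zero, zero_smul, sub_zero]
    exact Fl.zero _
  | succ k ih =>
    have e : (1 + N) ^ (k + 1) - 1 - ((k + 1 : ℕ) : K) • N =
        ((1 + N) ^ k - 1 - (k : K) • N) * (1 + N) + (k : K) • (N * N) := by
      rw [pow_succ, Nat.cast_succ, add_smul, one_smul, Matrix.sub_mul, Matrix.sub_mul, Matrix.smul_mul, Matrix.mul_add N,
        smul_add, Matrix.mul_one, Matrix.one_mul]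
      abel
    rw [e]
    exact ((ih.mul (Fl.one.add (hN.mono (by omega)))).mono (by omega)).add (((hN.mul hN).mono (by omega)).smul _)

/-- **unitriangular automorphisms** -/
theorem unip_eq_one (hJ : ∀ x, Jac A x) (hG : Gr A lv) (hκ : ∀ z, (∀ y, (adv A z * adv A y).trace = 0) → z = 0)
    {g : Matrix ι ι K} (hg : ∀ v, g * adv A v = adv A (g *ᵥ v) * g) (h1 : Fl lv 1 (g - 1)) {k : ℕ} (hk : (k : K) ≠ 1)
    (h : ∀ y, (g ^ k * adv A y).trace = (g * adv A y).trace) : g = 1 := by
  obtain ⟨N, rfl⟩ : ∃ N, g = 1 + N := ⟨g - 1, by abel⟩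
  rw [add_sub_cancel_left] at h1
  have h2 : ∀ n : ℕ, Fl lv (n + 1) N := by
    intro n
    induction n with
    | zero => exact h1.mono (by omega)
    | succ n ih =>
      push_cast
      refine step hJ hG hκ hg (by omega) ih fun y hy => ?_
      have h3 := ((pow_fl (by omega) ih k).mul (hG.fl hy)).trace (by omega)
      have h4 := h y
      rw [Matrix.sub_mul, Matrix.sub_mul, Matrix.trace_sub, Matrix.trace_sub, h4, Matrix.add_mul, Matrix.trace_add,
        Matrix.smul_mul, Matrix.trace_smul, smul_eq_mul] at h3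
      refine (mul_eq_zero.1 (?_ : ((k : K) - 1) * (N * adv A y).trace = 0)).resolve_left (sub_ne_zero.2 hk)
      linear_combination -h3
  have h3 : N = 0 := by
    ext i j
    by_contra hij
    have h4 := h2 (lv i - lv j).toNat i j hij
    omega
  rw [h3, add_zero]

end Cfsg.Agent.Cam.Odd.NT
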