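import Cfsg.Agent.R2.T1.Inf.LMat
import Cfsg.Agent.DS.Nt.Kac

/-!
# S3689, `BoxNT`: tables for the roots of `E₇` (helper86)
-/

set_option autoImplicit false
set_option linter.unusedVariables false
set_option maxRecDepth 100000

namespace Cfsg.Agent.Cam.Odd.NT

open Cfsg Cfsg.Lie
open Cfsg.Agent.ChevalleyStructure Cfsg.Agent.ChevalleyStructure.Columns Cfsg.Agent.ChevalleyStructure.RootVec
open Cfsg.Agent.Nodes.RGDChev Cfsg.Agent.R2.T1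

/-- the height of a root -/
def hg (r : ℕ) : ℤ := ∑ j ∈ Finset.range 7, rt chevE7 r j

/-- the height of a basis vector -/
def lvl : chevE7.Idx → ℤ := Sum.elim (fun _ => 0) fun r : Fin chevE7.nroots => hg r.val

theorem hg_cf {r s u : ℕ} (hr : r < 126) (h : cf r s u ≠ 0) : hg u = hg r + hg s := by
  have h1 : (chevE7.chainEntry r s)[0]? = some (u, cf r s u) := by rw [F7_eq, cf_ne hr h]; rfl
  have h2 := (chainEntry_get RootVecTab.checked_E7 h1).2.2.2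
  rw [hg, hg, hg, ← Finset.sum_add_distrib]
  refine Finset.sum_congr rfl fun j _ => (h2 j).trans ?_
  push_cast
  ring

theorem hg_neg (r : ℕ) (hr : r < 126) : hg (125 - r) = -hg r := by
  have h1 : chevE7.neg r = 125 - r := neg7 hr
  rw [hg, hg, ← Finset.sum_neg_distrib, ← h1]
  exact Finset.sum_congr rfl fun j _ => rt_neg RootVecTab.checked_E7 hr j

theorem hg_pos (r : ℕ) (hr : r < 126) (h : ∀ j < 7, 0 ≤ rt chevE7 r j) : 1 ≤ hg r := by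
  obtain ⟨i, hi, h1⟩ := exists_rt_ne_zero RootVecTab.checked_E7 (D := chevE7) hr
  have hi' : i < 7 := hi
  have h2 := Finset.single_le_sum (f := rt chevE7 r) (fun j hj => h j (Finset.mem_range.1 hj)) (Finset.mem_range.2 hi')
  have h3 := h i hi'
  rw [hg]
  omega

/-- an entry of the table -/
def en (a b c d e f g h i j k l m n : ℤ) : List ℤ × List ℤ := ([a, b, c, d, e, f, g], [h, i, j, k, l, m, n])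

/-- the coordinates of the roots on the simple roots, and their values on the simple coroots -/
def dat : List (List ℤ × List ℤ) :=
  [en (-2) (-2) (-3) (-4) (-3) (-2) (-1) (-1) 0 0 0 0 0 0, en (-1) (-2) (-3) (-4) (-3) (-2) (-1) 1 0 (-1) 0 0 0 0,
   en (-1) (-2) (-2) (-4) (-3) (-2) (-1) 0 0 1 (-1) 0 0 0, en (-1) (-2) (-2) (-3) (-3) (-2) (-1) 0 (-1) 0 1 (-1) 0 0,
   en (-1) (-2) (-2) (-3) (-2) (-2) (-1) 0 (-1) 0 0 1 (-1) 0, en (-1) (-2) (-2) (-3) (-2) (-1) (-1) 0 (-1) 0 0 0 1 (-1),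
   en (-1) (-2) (-2) (-3) (-2) (-1) 0 0 (-1) 0 0 0 0 1, en (-1) (-1) (-2) (-3) (-3) (-2) (-1) 0 1 0 0 (-1) 0 0,
   en (-1) (-1) (-2) (-3) (-2) (-2) (-1) 0 1 0 (-1) 1 (-1) 0, en (-1) (-1) (-2) (-3) (-2) (-1) (-1) 0 1 0 (-1) 0 1 (-1),
   en (-1) (-1) (-2) (-3) (-2) (-1) 0 0 1 0 (-1) 0 0 1, en (-1) (-1) (-2) (-2) (-2) (-2) (-1) 0 0 (-1) 1 0 (-1) 0,
   en (-1) (-1) (-2) (-2) (-2) (-1) (-1) 0 0 (-1) 1 (-1) 1 (-1), en (-1) (-1) (-2) (-2) (-2) (-1) 0 0 0 (-1) 1 (-1) 0 1,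
   en (-1) (-1) (-2) (-2) (-1) (-1) (-1) 0 0 (-1) 0 1 0 (-1), en (-1) (-1) (-2) (-2) (-1) (-1) 0 0 0 (-1) 0 1 (-1) 1,
   en (-1) (-1) (-2) (-2) (-1) 0 0 0 0 (-1) 0 0 1 0, en (-1) (-1) (-1) (-2) (-2) (-2) (-1) (-1) 0 1 0 0 (-1) 0,
   en (-1) (-1) (-1) (-2) (-2) (-1) (-1) (-1) 0 1 0 (-1) 1 (-1), en (-1) (-1) (-1) (-2) (-2) (-1) 0 (-1) 0 1 0 (-1) 0 1,
   en (-1) (-1) (-1) (-2) (-1) (-1) (-1) (-1) 0 1 (-1) 1 0 (-1), en (-1) (-1) (-1) (-2) (-1) (-1) 0 (-1) 0 1 (-1) 1 (-1) 1,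
   en (-1) (-1) (-1) (-2) (-1) 0 0 (-1) 0 1 (-1) 0 1 0, en (-1) (-1) (-1) (-1) (-1) (-1) (-1) (-1) (-1) 0 1 0 0 (-1),
   en (-1) (-1) (-1) (-1) (-1) (-1) 0 (-1) (-1) 0 1 0 (-1) 1, en (-1) (-1) (-1) (-1) (-1) 0 0 (-1) (-1) 0 1 (-1) 1 0,
   en (-1) (-1) (-1) (-1) 0 0 0 (-1) (-1) 0 0 1 0 0, en (-1) 0 (-1) (-1) (-1) (-1) (-1) (-1) 1 0 0 0 0 (-1),
   en (-1) 0 (-1) (-1) (-1) (-1) 0 (-1) 1 0 0 0 (-1) 1, en (-1) 0 (-1) (-1) (-1) 0 0 (-1) 1 0 0 (-1) 1 0,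
   en (-1) 0 (-1) (-1) 0 0 0 (-1) 1 0 (-1) 1 0 0, en (-1) 0 (-1) 0 0 0 0 (-1) 0 (-1) 1 0 0 0,
   en (-1) 0 0 0 0 0 0 (-2) 0 1 0 0 0 0, en 0 (-1) (-1) (-2) (-2) (-2) (-1) 1 0 0 0 0 (-1) 0,
   en 0 (-1) (-1) (-2) (-2) (-1) (-1) 1 0 0 0 (-1) 1 (-1), en 0 (-1) (-1) (-2) (-2) (-1) 0 1 0 0 0 (-1) 0 1,
   en 0 (-1) (-1) (-2) (-1) (-1) (-1) 1 0 0 (-1) 1 0 (-1), en 0 (-1) (-1) (-2) (-1) (-1) 0 1 0 0 (-1) 1 (-1) 1,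
   en 0 (-1) (-1) (-2) (-1) 0 0 1 0 0 (-1) 0 1 0, en 0 (-1) (-1) (-1) (-1) (-1) (-1) 1 (-1) (-1) 1 0 0 (-1),
   en 0 (-1) (-1) (-1) (-1) (-1) 0 1 (-1) (-1) 1 0 (-1) 1, en 0 (-1) (-1) (-1) (-1) 0 0 1 (-1) (-1) 1 (-1) 1 0,
   en 0 (-1) (-1) (-1) 0 0 0 1 (-1) (-1) 0 1 0 0, en 0 (-1) 0 (-1) (-1) (-1) (-1) 0 (-1) 1 0 0 0 (-1),
   en 0 (-1) 0 (-1) (-1) (-1) 0 0 (-1) 1 0 0 (-1) 1, en 0 (-1) 0 (-1) (-1) 0 0 0 (-1) 1 0 (-1) 1 0,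
   en 0 (-1) 0 (-1) 0 0 0 0 (-1) 1 (-1) 1 0 0, en 0 (-1) 0 0 0 0 0 0 (-2) 0 1 0 0 0,
   en 0 0 (-1) (-1) (-1) (-1) (-1) 1 1 (-1) 0 0 0 (-1), en 0 0 (-1) (-1) (-1) (-1) 0 1 1 (-1) 0 0 (-1) 1,
   en 0 0 (-1) (-1) (-1) 0 0 1 1 (-1) 0 (-1) 1 0, en 0 0 (-1) (-1) 0 0 0 1 1 (-1) (-1) 1 0 0,
   en 0 0 (-1) 0 0 0 0 1 0 (-2) 1 0 0 0, en 0 0 0 (-1) (-1) (-1) (-1) 0 1 1 (-1) 0 0 (-1),
   en 0 0 0 (-1) (-1) (-1) 0 0 1 1 (-1) 0 (-1) 1, en 0 0 0 (-1) (-1) 0 0 0 1 1 (-1) (-1) 1 0,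
   en 0 0 0 (-1) 0 0 0 0 1 1 (-2) 1 0 0, en 0 0 0 0 (-1) (-1) (-1) 0 0 0 1 (-1) 0 (-1),
   en 0 0 0 0 (-1) (-1) 0 0 0 0 1 (-1) (-1) 1, en 0 0 0 0 (-1) 0 0 0 0 0 1 (-2) 1 0,
   en 0 0 0 0 0 (-1) (-1) 0 0 0 0 1 (-1) (-1), en 0 0 0 0 0 (-1) 0 0 0 0 0 1 (-2) 1,
   en 0 0 0 0 0 0 (-1) 0 0 0 0 0 1 (-2), en 0 0 0 0 0 0 1 0 0 0 0 0 (-1) 2,
   en 0 0 0 0 0 1 0 0 0 0 0 (-1) 2 (-1), en 0 0 0 0 0 1 1 0 0 0 0 (-1) 1 1,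
   en 0 0 0 0 1 0 0 0 0 0 (-1) 2 (-1) 0, en 0 0 0 0 1 1 0 0 0 0 (-1) 1 1 (-1),
   en 0 0 0 0 1 1 1 0 0 0 (-1) 1 0 1, en 0 0 0 1 0 0 0 0 (-1) (-1) 2 (-1) 0 0,
   en 0 0 0 1 1 0 0 0 (-1) (-1) 1 1 (-1) 0, en 0 0 0 1 1 1 0 0 (-1) (-1) 1 0 1 (-1),
   en 0 0 0 1 1 1 1 0 (-1) (-1) 1 0 0 1, en 0 0 1 0 0 0 0 (-1) 0 2 (-1) 0 0 0,
   en 0 0 1 1 0 0 0 (-1) (-1) 1 1 (-1) 0 0, en 0 0 1 1 1 0 0 (-1) (-1) 1 0 1 (-1) 0,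
   en 0 0 1 1 1 1 0 (-1) (-1) 1 0 0 1 (-1), en 0 0 1 1 1 1 1 (-1) (-1) 1 0 0 0 1,
   en 0 1 0 0 0 0 0 0 2 0 (-1) 0 0 0, en 0 1 0 1 0 0 0 0 1 (-1) 1 (-1) 0 0,
   en 0 1 0 1 1 0 0 0 1 (-1) 0 1 (-1) 0, en 0 1 0 1 1 1 0 0 1 (-1) 0 0 1 (-1),
   en 0 1 0 1 1 1 1 0 1 (-1) 0 0 0 1, en 0 1 1 1 0 0 0 (-1) 1 1 0 (-1) 0 0,
   en 0 1 1 1 1 0 0 (-1) 1 1 (-1) 1 (-1) 0, en 0 1 1 1 1 1 0 (-1) 1 1 (-1) 0 1 (-1),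
   en 0 1 1 1 1 1 1 (-1) 1 1 (-1) 0 0 1, en 0 1 1 2 1 0 0 (-1) 0 0 1 0 (-1) 0,
   en 0 1 1 2 1 1 0 (-1) 0 0 1 (-1) 1 (-1), en 0 1 1 2 1 1 1 (-1) 0 0 1 (-1) 0 1,
   en 0 1 1 2 2 1 0 (-1) 0 0 0 1 0 (-1), en 0 1 1 2 2 1 1 (-1) 0 0 0 1 (-1) 1,
   en 0 1 1 2 2 2 1 (-1) 0 0 0 0 1 0, en 1 0 0 0 0 0 0 2 0 (-1) 0 0 0 0,
   en 1 0 1 0 0 0 0 1 0 1 (-1) 0 0 0, en 1 0 1 1 0 0 0 1 (-1) 0 1 (-1) 0 0,
   en 1 0 1 1 1 0 0 1 (-1) 0 0 1 (-1) 0, en 1 0 1 1 1 1 0 1 (-1) 0 0 0 1 (-1),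
   en 1 0 1 1 1 1 1 1 (-1) 0 0 0 0 1, en 1 1 1 1 0 0 0 1 1 0 0 (-1) 0 0,
   en 1 1 1 1 1 0 0 1 1 0 (-1) 1 (-1) 0, en 1 1 1 1 1 1 0 1 1 0 (-1) 0 1 (-1),
   en 1 1 1 1 1 1 1 1 1 0 (-1) 0 0 1, en 1 1 1 2 1 0 0 1 0 (-1) 1 0 (-1) 0,
   en 1 1 1 2 1 1 0 1 0 (-1) 1 (-1) 1 (-1), en 1 1 1 2 1 1 1 1 0 (-1) 1 (-1) 0 1,
   en 1 1 1 2 2 1 0 1 0 (-1) 0 1 0 (-1), en 1 1 1 2 2 1 1 1 0 (-1) 0 1 (-1) 1,
   en 1 1 1 2 2 2 1 1 0 (-1) 0 0 1 0, en 1 1 2 2 1 0 0 0 0 1 0 0 (-1) 0,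
   en 1 1 2 2 1 1 0 0 0 1 0 (-1) 1 (-1), en 1 1 2 2 1 1 1 0 0 1 0 (-1) 0 1,
   en 1 1 2 2 2 1 0 0 0 1 (-1) 1 0 (-1), en 1 1 2 2 2 1 1 0 0 1 (-1) 1 (-1) 1,
   en 1 1 2 2 2 2 1 0 0 1 (-1) 0 1 0, en 1 1 2 3 2 1 0 0 (-1) 0 1 0 0 (-1),
   en 1 1 2 3 2 1 1 0 (-1) 0 1 0 (-1) 1, en 1 1 2 3 2 2 1 0 (-1) 0 1 (-1) 1 0,
   en 1 1 2 3 3 2 1 0 (-1) 0 0 1 0 0, en 1 2 2 3 2 1 0 0 1 0 0 0 0 (-1),
   en 1 2 2 3 2 1 1 0 1 0 0 0 (-1) 1, en 1 2 2 3 2 2 1 0 1 0 0 (-1) 1 0,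
   en 1 2 2 3 3 2 1 0 1 0 (-1) 1 0 0, en 1 2 2 4 3 2 1 0 0 (-1) 1 0 0 0,
   en 1 2 3 4 3 2 1 (-1) 0 1 0 0 0 0, en 2 2 3 4 3 2 1 1 0 0 0 0 0 0]

theorem dat_eq : ((List.range 126).map fun s =>
    ((List.range 7).map (rt chevE7 s), (List.range 7).map fun i => car chevE7 i s)) = dat := by decide +kernel

/-- signs -/
def sg (a x : ℤ) : ℤ := if x % 5 = a then 1 else if x % 5 = 5 - a then -1 else 0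

/-- the signed sums of the roots -/
def sm (c : List ℤ) (a : ℤ) (i : ℕ) : ℤ :=
  (dat.map fun x => sg a (List.zipWith (· * ·) x.1 c).sum * x.2.getD i 0).sum

/-- the greatest common divisor of the signed sums -/
def gc (c : List ℤ) : ℕ :=
  ((List.range 7).map fun i => Nat.gcd (sm c 1 i).natAbs (sm c 2 i).natAbs).foldr Nat.gcd 0

theorem chk_gc' : ((List.range 3).all fun a0 => (List.range 3).all fun a1 => (List.range 2).all fun a2 =>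
    (List.range 2).all fun a3 => (List.range 2).all fun a4 => (List.range 3).all fun a5 => (List.range 6).all fun a6 =>
    decide (5 < 2 * a0 + 2 * a1 + 3 * a2 + 4 * a3 + 3 * a4 + 2 * a5 + a6) ||
      (decide (a0 + a1 + a2 + a3 + a4 + a5 + a6 % 5 = 0) ||
      decide (gc [(a0 : ℕ), (a1 : ℕ), (a2 : ℕ), (a3 : ℕ), (a4 : ℕ), (a5 : ℕ), (a6 : ℕ)] ∣ 36))) = true := by
  decide +kernel

theorem chk_gc {a0 a1 a2 a3 a4 a5 a6 : ℕ} (h : 2 * a0 + 2 * a1 + 3 * a2 + 4 * a3 + 3 * a4 + 2 * a5 + a6 ≤ 5) :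
    (a0 = 0 ∧ a1 = 0 ∧ a2 = 0 ∧ a3 = 0 ∧ a4 = 0 ∧ a5 = 0 ∧ a6 % 5 = 0) ∨
      gc [(a0 : ℕ), (a1 : ℕ), (a2 : ℕ), (a3 : ℕ), (a4 : ℕ), (a5 : ℕ), (a6 : ℕ)] ∣ 36 := by
  have h0 := List.all_eq_true.1 chk_gc' a0 (List.mem_range.2 (by omega))
  have h1 := List.all_eq_true.1 h0 a1 (List.mem_range.2 (by omega))
  have h2 := List.all_eq_true.1 h1 a2 (List.mem_range.2 (by omega))
  have h3 := List.all_eq_true.1 h2 a3 (List.mem_range.2 (by omega))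
  have h4 := List.all_eq_true.1 h3 a4 (List.mem_range.2 (by omega))
  have h5 := List.all_eq_true.1 h4 a5 (List.mem_range.2 (by omega))
  have h6 := List.all_eq_true.1 h5 a6 (List.mem_range.2 (by omega))
  rw [Bool.or_eq_true, Bool.or_eq_true, decide_eq_true_eq, decide_eq_true_eq, decide_eq_true_eq] at h6
  rcases h6 with h6 | h6 | h6
  · omega
  · exact Or.inl (by omega)
  · exact Or.inr h6

theorem dvd_foldr {p : ℕ} : ∀ {l : List ℕ}, (∀ x ∈ l, p ∣ x) → p ∣ l.foldr Nat.gcd 0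
  | [], _ => dvd_zero p
  | x :: l, h => Nat.dvd_gcd (h x List.mem_cons_self) (dvd_foldr fun y hy => h y (List.mem_cons_of_mem _ hy))

theorem sum_range_list (f : ℕ → ℤ) (n : ℕ) : ((List.range n).map f).sum = ∑ s : Fin n, f s := by
  rw [Fin.sum_univ_eq_sum_range]
  induction n with
  | zero => rfl
  | succ n ih => rw [List.range_succ, List.map_append, List.sum_append, ih, Finset.sum_range_succ]; simp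

theorem sm_eq (c : Fin 7 → ℕ) (a : ℤ) {i : ℕ} (hi : i < 7) :
    sm [c 0, c 1, c 2, c 3, c 4, c 5, c 6] a i =
      ∑ s : Fin chevE7.nroots, sg a (∑ j, vec chevE7 7 s.val j * (c j : ℤ)) * car chevE7 i s.val := by
  rw [sm, ← dat_eq, List.map_map]
  refine (sum_range_list _ 126).trans (Finset.sum_congr rfl fun s _ => ?_)
  show sg a (List.zipWith (· * ·) ((List.range 7).map (rt chevE7 s)) _).sum *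
    ((List.range 7).map fun i => car chevE7 i s).getD i 0 = _
  have e1 : (List.zipWith (· * ·) ((List.range 7).map (rt chevE7 s)) [(c 0 : ℤ), c 1, c 2, c 3, c 4, c 5, c 6]).sum =
      ∑ j, vec chevE7 7 s.val j * (c j : ℤ) := by
    rw [Fin.sum_univ_seven]
    simp only [List.range_succ, List.range_zero, List.nil_append, List.cons_append, List.map_cons, List.map_nil,
      List.zipWith_cons_cons, List.zipWith_nil_left, List.sum_cons, List.sum_nil]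
    show _ = rt chevE7 s 0 * _ + rt chevE7 s 1 * _ + rt chevE7 s 2 * _ + rt chevE7 s 3 * _ + rt chevE7 s 4 * _ +
      rt chevE7 s 5 * _ + rt chevE7 s 6 * _
    ring
  have e2 : ((List.range 7).map fun i => car chevE7 i s).getD i 0 = car chevE7 i s := by
    rw [List.getD_eq_getElem _ _ (by simpa using hi)]
    simp
  rw [e1, e2]

theorem sum72 : ∑ s : Fin chevE7.nroots, car chevE7 0 s.val * car chevE7 0 s.val = 72 := by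
  have h : (dat.map fun x => x.2.getD 0 0 * x.2.getD 0 0).sum = 72 := by decide +kernel
  rw [← dat_eq, List.map_map] at h
  exact (sum_range_list _ 126).symm.trans h

theorem zpow_sub_inv {K : Type} [Field K] {ζ : K} (hζ : IsPrimitiveRoot ζ 5) (x : ℤ) :
    ζ ^ x - (ζ ^ x)⁻¹ = (sg 1 x : K) * (ζ - ζ ^ 4) + (sg 2 x : K) * (ζ ^ 2 - ζ ^ 3) ∧
    (ζ ^ x) ^ 2 - ((ζ ^ x) ^ 2)⁻¹ = (sg 1 x : K) * (ζ ^ 2 - ζ ^ 3) - (sg 2 x : K) * (ζ - ζ ^ 4) := by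
  have h5 : ζ ^ 5 = 1 := hζ.pow_eq_one
  have h1 : ζ ^ x = ζ ^ (x % 5) := DS.Nt.zpow_congr hζ (by norm_num) (by omega)
  have i0 : ∀ a b : ℕ, (a + b) % 5 = 0 → (ζ ^ a)⁻¹ = ζ ^ b := fun a b h => by
    refine inv_eq_of_mul_eq_one_right ?_
    rw [← pow_add, ← Nat.div_add_mod (a + b) 5, h, add_zero, pow_mul, h5, one_pow]
  have h2 : x % 5 = 0 ∨ x % 5 = 1 ∨ x % 5 = 2 ∨ x % 5 = 3 ∨ x % 5 = 4 := by omega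
  rw [h1, sg, sg]
  rcases h2 with h | h | h | h | h <;> rw [h]
  · norm_num
  · have e : ζ ^ (1 : ℤ) = ζ ^ 1 := zpow_natCast ζ 1
    rw [e, ← pow_mul, i0 1 4 rfl, i0 (1 * 2) 3 rfl]
    norm_num
  · have e : ζ ^ (2 : ℤ) = ζ ^ 2 := zpow_natCast ζ 2
    rw [e, ← pow_mul, i0 2 3 rfl, i0 (2 * 2) 1 rfl]
    norm_num
  · have e : ζ ^ (3 : ℤ) = ζ ^ 3 := zpow_natCast ζ 3
    rw [e, ← pow_mul, i0 3 2 rfl, i0 (3 * 2) 4 rfl]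
    norm_num
    linear_combination ζ * h5
  · have e : ζ ^ (4 : ℤ) = ζ ^ 4 := zpow_natCast ζ 4
    rw [e, ← pow_mul, i0 4 1 rfl, i0 (4 * 2) 2 rfl]
    norm_num
    linear_combination ζ ^ 3 * h5

end Cfsg.Agent.Cam.Odd.NT
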