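import Cfsg.Agent.Cam.Odd.Iface
import Cfsg.Agent.Cam.Odd.NTAbs
import Cfsg.Agent.R2.T1.Five.Adj
import Cfsg.Agent.R2.T1.Inf.Cen
import Cfsg.Agent.H378.UnipCent
import Cfsg.Agent.Cam.Odd.NTTab

/-!
# S3689, the small cases in odd characteristic: `BoxNT` (helper86)

`lam g y = tr (g ad y)` is an equivariant family of linear forms on the adjoint module of `E₇`, which is self-dual.
-/

set_option autoImplicit false
set_option linter.unusedVariables false
set_option linter.unusedSectionVars false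
set_option maxRecDepth 100000

namespace Cfsg.Agent.Cam.Odd.NT

open Cfsg Cfsg.Lie Matrix
open Cfsg.Agent.ChevalleyStructure Cfsg.Agent.ChevalleyStructure.LieAbs Cfsg.Agent.ChevalleyStructure.LieAut
  Cfsg.Agent.ChevalleyStructure.JacAll Cfsg.Agent.ChevalleyStructure.Columns Cfsg.Agent.ChevalleyStructure.RootVec
open Cfsg.Agent.Tits.Roots Cfsg.Agent.Nodes.BNOf Cfsg.Agent.Nodes.RGDChev Cfsg.Agent.KFacts.RgdChevCoord
open Cfsg.Agent.R2.T1 Cfsg.Agent.R2.T1.Five
open Cfsg.Agent.H469.Exc Cfsg.Agent.DS.Ex Cfsg.Agent.H129.TorusChar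
open Cfsg.Agent.Cam.Ex (tE7)

section lie

variable {K : Type} [Field K]

/-- the matrix of an element -/
def mx (g : ↥(chevE7.group K)) : Matrix chevE7.Idx chevE7.Idx K := ((g : GL chevE7.Idx K) : Matrix chevE7.Idx chevE7.Idx K)

theorem mx_mul (a b : ↥(chevE7.group K)) : mx (a * b) = mx a * mx b := rfl

theorem mx_one : mx (1 : ↥(chevE7.group K)) = 1 := rfl

theorem mx_pow (a : ↥(chevE7.group K)) (n : ℕ) : mx (a ^ n) = mx a ^ n := by
  induction n with
  | zero => rw [pow_zero, pow_zero, mx_one]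
  | succ n ih => rw [pow_succ, pow_succ, mx_mul, ih]

theorem mx_adx (g : ↥(chevE7.group K)) (v : chevE7.Idx → K) : mx g * adx K v = adx K (mx g *ᵥ v) * mx g :=
  group_mul_adv chevE7 inl7 K g g.2 v

theorem kf_mx (g : ↥(chevE7.group K)) (x y : chevE7.Idx → K) : kf K (mx g *ᵥ x) (mx g *ᵥ y) = kf K x y := by
  obtain ⟨g, rfl⟩ := ad_surjective g
  have h := kf_L g x y
  rwa [R2.T1.L_apply, R2.T1.L_apply] at h

theorem mx_surj (g : ↥(chevE7.group K)) (y : chevE7.Idx → K) : mx g *ᵥ (mx g⁻¹ *ᵥ y) = y := by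
  rw [Matrix.mulVec_mulVec, ← mx_mul, mul_inv_cancel, mx_one, Matrix.one_mulVec]

/-- the linear form attached to `g` -/
noncomputable def lam (g : ↥(chevE7.group K)) : (chevE7.Idx → K) →ₗ[K] K where
  toFun y := (mx g * adx K y).trace
  map_add' x y := by rw [adx_add, Matrix.mul_add, Matrix.trace_add]
  map_smul' c y := by rw [adx_smul, Matrix.mul_smul, Matrix.trace_smul, RingHom.id_apply]

theorem lam_apply (g : ↥(chevE7.group K)) (y : chevE7.Idx → K) : lam g y = (mx g * adx K y).trace := rfl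

theorem lam_conj (c g : ↥(chevE7.group K)) (y : chevE7.Idx → K) : lam (c * g * c⁻¹) (mx c *ᵥ y) = lam g y := by
  have e : adx K (mx c *ᵥ y) * mx c = mx c * adx K y := (mx_adx c y).symm
  rw [lam_apply, lam_apply, mx_mul, mx_mul, Matrix.mul_assoc, Matrix.mul_assoc, Matrix.trace_mul_comm, Matrix.mul_assoc,
    Matrix.mul_assoc, e, ← Matrix.mul_assoc (mx c⁻¹), ← mx_mul, inv_mul_cancel, mx_one, Matrix.one_mul]

theorem lam_congr (c : ↥(chevE7.group K)) {g g' : ↥(chevE7.group K)} (h : lam g = lam g') :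
    lam (c * g * c⁻¹) = lam (c * g' * c⁻¹) := by
  refine LinearMap.ext fun y => ?_
  rw [← mx_surj c y, lam_conj, lam_conj, h]

/-- from forms to vectors -/
theorem exists_vec (h2 : (2 : K) ≠ 0) {b n : ↥(chevE7.group K)} (h : lam (n * b * n⁻¹) ≠ lam b) :
    ∃ m, (∀ c, c * b = b * c → mx c *ᵥ m = m) ∧ mx n *ᵥ m ≠ m := by
  have hi : Function.Injective (kf K) := by
    rw [injective_iff_map_eq_zero]
    intro y hy
    exact kf_nondeg h2 fun x => by rw [kf_comm, hy]; rfl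
  have hs : Function.Surjective (kf K) :=
    (LinearMap.injective_iff_surjective_of_finrank_eq_finrank (Subspace.dual_finrank_eq (K := K)).symm).1 hi
  obtain ⟨m, hm⟩ := hs (lam b)
  have h1 : ∀ c, kf K (mx c *ᵥ m) = lam (c * b * c⁻¹) := fun c => by
    refine LinearMap.ext fun y => ?_
    rw [← mx_surj c y, lam_conj, kf_mx, hm]
  refine ⟨m, fun c hc => hi ?_, fun hn => h ?_⟩
  · rw [h1, hc, mul_inv_cancel_right, hm]
  · rw [← h1, hn, hm]

/-- the trace form is non-degenerate -/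
theorem kil (h2 : (2 : K) ≠ 0) (h3 : (3 : K) ≠ 0) (z : chevE7.Idx → K) (h : ∀ y, (adx K z * adx K y).trace = 0) :
    z = 0 := by
  let W : Submodule K (chevE7.Idx → K) :=
    { carrier := {z | ∀ y, (adx K z * adx K y).trace = 0}
      zero_mem' := fun y => by
        have e : adx K (0 : chevE7.Idx → K) = 0 := adv_zero _
        rw [e, Matrix.zero_mul, Matrix.trace_zero]
      add_mem' := fun {a b} ha hb y => by rw [adx_add, Matrix.add_mul, Matrix.trace_add, ha y, hb y, add_zero]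
      smul_mem' := fun c a ha y => by rw [adx_smul, Matrix.smul_mul, Matrix.trace_smul, ha y, smul_zero] }
  have hW : ∀ g : Gh K, ∀ w ∈ W, L K g w ∈ W := by
    intro g w hw y
    have e : y = L K g (L K g⁻¹ y) := by
      rw [← Module.End.mul_apply, ← map_mul, mul_inv_cancel, map_one, Module.End.one_apply]
    have h1 := BF_inv (z := 1) (g := g) (by rw [mul_one, one_mul]) w (L K g⁻¹ y)
    rw [← e, BF_apply, BF_apply, map_one, Matrix.one_mul, Matrix.one_mul] at h1
    rw [h1]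
    exact hw _
  by_contra hz
  have h0 : W ≠ ⊥ := fun e => hz ((Submodule.eq_bot_iff W).1 e z h)
  have h1 : eh K (⟨0, by decide +kernel⟩ : Fin chevE7.rank) ∈ W := by rw [irrL_aux h2 hW h0]; trivial
  have h4 := h1 (eh K ⟨0, by decide +kernel⟩)
  rw [adx_eh, Matrix.diagonal_mul_diagonal, Matrix.trace_diagonal, Fintype.sum_sum_type] at h4
  have h5 : (((∑ s : Fin chevE7.nroots, car chevE7 0 s.val * car chevE7 0 s.val : ℤ)) : K) = 0 := by
    rw [← h4, Int.cast_sum]
    refine (Finset.sum_congr rfl fun s _ => Int.cast_mul _ _).trans ?_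
    exact (zero_add _).symm.trans (congrArg (· + _) (Finset.sum_eq_zero fun i _ => zero_mul _).symm)
  rw [sum72] at h5
  refine mul_ne_zero (mul_ne_zero (mul_ne_zero h2 h2) h2) (mul_ne_zero h3 h3) ?_
  push_cast at h5
  linear_combination h5

theorem EM_lvl {r : ℕ} (hr : r < 126) {i j : chevE7.Idx} (h : EM K r i j ≠ 0) : lvl i = hg r + lvl j := by
  rcases i with i | u <;> rcases j with j | s
  · exact absurd (EM_ll r i j) h
  · rw [EM_lr] at h
    have h1 : s.val = 125 - r := by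
      by_contra h1
      exact h (if_neg h1)
    show (0 : ℤ) = hg r + hg s.val
    rw [h1, hg_neg r hr, add_neg_cancel]
  · rw [EM_rl] at h
    have h1 : u.val = r := by
      by_contra h1
      exact h (if_neg h1)
    show hg u.val = hg r + 0
    rw [h1, add_zero]
  · rw [EM_rr] at h
    exact hg_cf hr fun h0 => h (by rw [h0, Int.cast_zero])

theorem QM_lvl {r : ℕ} (hr : r < 126) {i j : chevE7.Idx} (h : QM K r i j ≠ 0) : lvl i = 2 * hg r + lvl j := by
  rcases i with i | u <;> rcases j with j | s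
  · exact absurd (QM_ll r i j) h
  · exact absurd (QM_lr r i s) h
  · exact absurd (QM_rl r u j) h
  · rw [QM_rr] at h
    have h1 : s.val = 125 - r := by
      by_contra h1
      exact h (if_neg h1)
    have h2 : u.val = r := by
      by_contra h2
      rw [if_pos h1] at h
      exact h (if_neg h2)
    show hg u.val = 2 * hg r + hg s.val
    rw [h1, h2, hg_neg r hr]
    ring

theorem gr7 : Gr (adR chevE7 K) lvl := by
  intro j i k h
  rcases j with j | r
  · rw [adR_inl_apply] at h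
    have h1 : i = k := by
      by_contra h1
      exact h (if_neg h1)
    show lvl i = 0 + lvl k
    rw [h1, zero_add]
  · rw [adR_inr_EM] at h
    exact EM_lvl r.2 h

theorem fl_xc {a : Fin 7 → ℤ} (ha : IsRoot CoxeterMatrix.E₇.toCoxeterSystem tE7.isCartan a) (h0 : 0 ≤ a) (c : K) :
    Fl lvl 1 (mx (xc tE7 a c) - 1) := by
  obtain ⟨r, hr, rfl⟩ := (isRoot_iff tE7 _ a).1 ha
  have hr' : r < 126 := hr
  have h1 : 1 ≤ hg r := hg_pos r hr' fun j hj => h0 ⟨j, hj⟩
  have e : mx (xc tE7 (vec chevE7 7 r) c) = adM K (xs K r c) := by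
    rw [mx, coe_xc tE7 hr, adM_apply]
    exact congrArg Units.val (StTheta.thetaGL_stGen _ r c).symm
  rw [e, adM_xs hr', add_assoc, add_sub_cancel_left]
  refine Fl.add (Fl.smul (fun i k h => ?_) _) (Fl.smul (fun i k h => ?_) _)
  · have := EM_lvl hr' h
    omega
  · have := QM_lvl hr' h
    omega

end lie

section main

variable {p : ℕ} [hp : Fact p.Prime]

theorem cast_ne {n : ℕ} (h0 : 0 < n) (hn : n < p) : (n : KK p) ≠ 0 := fun h =>
  absurd (Nat.le_of_dvd h0 ((CharP.cast_eq_zero_iff (KK p) p n).1 h)) (by omega)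

theorem lam_tor {t : YY chevE7 p} (ht : t ∈ TT chevE7 (KK p)) (i : Fin chevE7.rank) :
    lam t (eh (KK p) i) = ∑ s : Fin chevE7.nroots, cX tE7 t (vec chevE7 7 s.val) * ((car chevE7 i.val s.val : ℤ) : KK p) := by
  rw [lam_apply, adx_eh, mx, H83.RootCount.coe_eq_diagonal tE7 ht, Matrix.diagonal_mul_diagonal, Matrix.trace_diagonal,
    Fintype.sum_sum_type, Finset.sum_eq_zero fun i _ => mul_zero _, zero_add]
  rfl

/-- elements of order `p` -/
theorem lam_unip (h5 : 5 ≤ p) {b : YY chevE7 p} (hb : orderOf b = p) {k : ℕ} (hk : (k : ZMod p) ≠ 1) :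
    lam (b ^ k) ≠ lam b := by
  intro h
  have h2 : (2 : KK p) ≠ 0 := by exact_mod_cast cast_ne (p := p) (n := 2) (by norm_num) (by omega)
  have h3 : (3 : KK p) ≠ 0 := by exact_mod_cast cast_ne (p := p) (n := 3) (by norm_num) (by omega)
  obtain ⟨g, -, hg⟩ := H378.UnipCent.exists_conj tE7 CoxeterMatrix.E₇.toCoxeterSystem (locFin p) (p := p)
    (one_mem (TT chevE7 (KK p))) (u := b) (by rw [mul_one, one_mul]) (j := 1) (by rw [pow_one]; exact orderOf_dvd_iff_pow_eq_one.1 hb.dvd)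
  have h1 : Fl lvl 1 (mx (g * b * g⁻¹) - 1) := by
    refine Subgroup.iSup_induction _ (C := fun y => Fl lvl 1 (mx y - 1)) hg (fun a y hy => ?_) ?_ fun x y hx hy => ?_
    · obtain ⟨c, rfl⟩ := (DS.Nt.mem_X (hp := tE7) a.2.1.1).1 hy
      exact fl_xc a.2.1.1 a.2.2 c
    · show Fl lvl 1 (mx 1 - 1)
      rw [mx_one, sub_self]
      exact Fl.zero _
    · show Fl lvl 1 (mx (x * y) - 1)
      have e : mx (x * y) - 1 = (mx x - 1) * (mx y - 1) + (mx x - 1) + (mx y - 1) := by
        rw [mx_mul]; noncomm_ring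
      rw [e]
      exact (((hx.mul hy).mono (by norm_num)).add hx).add hy
  have h4 := lam_congr g h
  rw [← conj_pow] at h4
  have hk' : (k : KK p) ≠ 1 := fun e => hk ((algebraMap (ZMod p) (KK p)).injective (by rw [map_natCast, map_one, e]))
  have h6 : mx (g * b * g⁻¹) = 1 := unip_eq_one (jacR_all chevE7 inl7 (KK p)) gr7 (kil h2 h3) (mx_adx _) h1 hk' fun y => by
    rw [← mx_pow]
    exact LinearMap.congr_fun h4 y
  have h7 : g * b * g⁻¹ = 1 := Subtype.ext (Units.ext h6)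
  rw [conj_eq_one_iff] at h7
  rw [h7, orderOf_one] at hb
  omega

/-- elements of order five -/
theorem lam_five (h7 : 7 ≤ p) {b : YY chevE7 p} (hb : orderOf b = 5) :
    lam b⁻¹ ≠ lam b ∨ lam (b ^ 2)⁻¹ ≠ lam (b ^ 2) := by
  by_contra hn
  rw [not_or, not_not, not_not] at hn
  have hb5 : b ^ 5 = 1 := by rw [← hb, pow_orderOf_eq_one]
  obtain ⟨g, hg⟩ := DS.Nt.exists_conj_T tE7 (x := b) Nat.prime_five (by omega) (n := 1) (by rwa [pow_one])
  obtain ⟨ζ, hζ⟩ := DS.Nt.exists_prim (p := p) Nat.prime_five (by omega)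
  obtain ⟨w, c, c0, Kc, hc, -⟩ := H931.KC.exists_kac' tE7 (by norm_num) hζ hg (by rw [conj_pow, hb5, mul_one, mul_inv_cancel])
  obtain ⟨k, hk, hk'⟩ := DS.Nt.exists_move (hp := tE7) hg w
  set t := k * (g * b * g⁻¹) * k⁻¹ with ht
  have e : t = (k * g) * b * (k * g)⁻¹ := by rw [ht]; group
  have hx : ∀ x, cX tE7 t x = ζ ^ (∑ j, x j * (c j : ℤ)) := fun x => (hk' x).trans (hc x)
  have a1 : lam t⁻¹ = lam t := by
    have h1 := lam_congr (k * g) hn.1
    rwa [← conj_inv, ← e] at h1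
  have a2 : lam (t ^ 2)⁻¹ = lam (t ^ 2) := by
    have h1 := lam_congr (k * g) hn.2
    rwa [← conj_inv, ← conj_pow, ← e] at h1
  have hinv : ∀ s ∈ TT chevE7 (KK p), ∀ x, cX tE7 s⁻¹ x = (cX tE7 s x)⁻¹ := fun s hs x => by
    refine eq_inv_of_mul_eq_one_left ?_
    rw [← cX_mul tE7 (inv_mem hs) hs, inv_mul_cancel, cX_one]
  have hsq : ∀ x, cX tE7 (t ^ 2) x = cX tE7 t x ^ 2 := fun x => by rw [pow_two, pow_two, cX_mul tE7 hk hk]
  have hs := Kc.sum
  rw [DS.Nt.hrE7, Fin.sum_univ_seven] at hs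
  simp only [Matrix.cons_val] at hs
  rcases chk_gc (a0 := c 0) (a1 := c 1) (a2 := c 2) (a3 := c 3) (a4 := c 4) (a5 := c 5) (a6 := c 6) (by omega) with
    ⟨z0, z1, z2, z3, z4, z5, z6⟩ | hd
  · have h1 : t ^ 1 = 1 := DS.Nt.pow_eq_one_of_cX (hp := tE7) hk fun x => by
      rw [pow_one, hx, hζ.zpow_eq_one_iff_dvd, Fin.sum_univ_seven, z0, z1, z2, z3, z4, z5]
      have h2 : ((5 : ℕ) : ℤ) ∣ (c 6 : ℤ) := Int.natCast_dvd_natCast.2 (Nat.dvd_of_mod_eq_zero z6)
      simpa using h2.mul_left (x 6)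
    rw [pow_one, e, conj_eq_one_iff] at h1
    rw [h1, orderOf_one] at hb
    omega
  · have h1 : p ∣ gc [c 0, c 1, c 2, c 3, c 4, c 5, c 6] := by
      refine dvd_foldr fun x hx' => ?_
      obtain ⟨i, hi, rfl⟩ := List.mem_map.1 hx'
      have hi' : i < 7 := List.mem_range.1 hi
      have b1 := LinearMap.congr_fun a1 (eh (KK p) ⟨i, hi'⟩)
      have b2 := LinearMap.congr_fun a2 (eh (KK p) ⟨i, hi'⟩)
      rw [lam_tor hk, lam_tor (inv_mem hk), eq_comm, ← sub_eq_zero, ← Finset.sum_sub_distrib] at b1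
      rw [lam_tor (pow_mem hk 2), lam_tor (inv_mem (pow_mem hk 2)), eq_comm, ← sub_eq_zero, ← Finset.sum_sub_distrib] at b2
      have d1 : ((sm [c 0, c 1, c 2, c 3, c 4, c 5, c 6] 1 i : ℤ) : KK p) * (ζ - ζ ^ 4) +
          ((sm [c 0, c 1, c 2, c 3, c 4, c 5, c 6] 2 i : ℤ) : KK p) * (ζ ^ 2 - ζ ^ 3) = 0 := by
        rw [← b1, sm_eq c 1 hi', sm_eq c 2 hi', Int.cast_sum, Int.cast_sum, Finset.sum_mul, Finset.sum_mul,
          ← Finset.sum_add_distrib]
        refine Finset.sum_congr rfl fun s _ => ?_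
        rw [hinv t hk, hx, ← sub_mul, (zpow_sub_inv hζ _).1, Int.cast_mul, Int.cast_mul]
        ring
      have d2 : ((sm [c 0, c 1, c 2, c 3, c 4, c 5, c 6] 1 i : ℤ) : KK p) * (ζ ^ 2 - ζ ^ 3) -
          ((sm [c 0, c 1, c 2, c 3, c 4, c 5, c 6] 2 i : ℤ) : KK p) * (ζ - ζ ^ 4) = 0 := by
        rw [← b2, sm_eq c 1 hi', sm_eq c 2 hi', Int.cast_sum, Int.cast_sum, Finset.sum_mul, Finset.sum_mul,
          ← Finset.sum_sub_distrib]
        refine Finset.sum_congr rfl fun s _ => ?_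
        rw [hinv _ (pow_mem hk 2), hsq, hx, ← sub_mul, (zpow_sub_inv hζ _).2, Int.cast_mul, Int.cast_mul]
        ring
      have h5 : ζ ^ 5 = 1 := hζ.pow_eq_one
      have h6 : 1 + ζ + ζ ^ 2 + ζ ^ 3 + ζ ^ 4 = 0 := by
        have h8 := hζ.geom_sum_eq_zero (by norm_num)
        simpa [Finset.sum_range_succ] using h8
      have h8 : (ζ - ζ ^ 4) ^ 2 + (ζ ^ 2 - ζ ^ 3) ^ 2 = -5 := by
        linear_combination (ζ ^ 3 + ζ - 4) * h5 + h6
      have h9 : (5 : KK p) ≠ 0 := by exact_mod_cast cast_ne (p := p) (n := 5) (by norm_num) (by omega)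
      have f : ∀ z : ℤ, 5 * (z : KK p) = 0 → p ∣ z.natAbs := fun z hz =>
        Int.natCast_dvd.1 ((CharP.intCast_eq_zero_iff (KK p) p z).1 ((mul_eq_zero.1 hz).resolve_left h9))
      refine Nat.dvd_gcd (f _ ?_) (f _ ?_)
      · linear_combination ((sm [c 0, c 1, c 2, c 3, c 4, c 5, c 6] 1 i : ℤ) : KK p) * h8 - (ζ - ζ ^ 4) * d1 -
          (ζ ^ 2 - ζ ^ 3) * d2
      · linear_combination ((sm [c 0, c 1, c 2, c 3, c 4, c 5, c 6] 2 i : ℤ) : KK p) * h8 - (ζ ^ 2 - ζ ^ 3) * d1 +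
          (ζ - ζ ^ 4) * d2
    have h2 : p ∣ 6 ^ 2 := h1.trans hd
    have h3 := Nat.le_of_dvd (by norm_num) (hp.out.dvd_of_dvd_pow h2)
    omega

end main

/-- **`BoxNT`** -/
theorem boxNT : BoxNT where
  np := fun p _ h5 b n k hb hn hk => by
    have h2 : (2 : KK p) ≠ 0 := by exact_mod_cast cast_ne (p := p) (n := 2) (by norm_num) (by omega)
    exact exists_vec h2 (b := b) (n := n) (by rw [hn]; exact lam_unip h5 hb hk)
  n5 := fun p _ h7 b n hb hn => by
    have h2 : (2 : KK p) ≠ 0 := by exact_mod_cast cast_ne (p := p) (n := 2) (by norm_num) (by omega)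
    rcases lam_five h7 hb with h | h
    · exact exists_vec h2 (b := b) (n := n) (by rwa [hn])
    · obtain ⟨m, h3, h4⟩ := exists_vec h2 (b := b ^ 2) (n := n) (by rwa [← conj_pow, hn, inv_pow])
      exact ⟨m, fun c hc => h3 c (Commute.pow_right hc 2), h4⟩

end Cfsg.Agent.Cam.Odd.NT
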