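import Cfsg.Agent.Cam.Odd.Iface
import Cfsg.Agent.H402.PSL2Cls
import Cfsg.Agent.H19.RP.Dick
import Cfsg.Agent.H212.BR.Gen
import Cfsg.Agent.StandardComponent.StdCtx
import Cfsg.Agent.S0205
import Cfsg.Agent.S0226
import Cfsg.Agent.S0809

/-!
# S3689, the small cases in odd characteristic: `BoxGrp` (helper86)

The simple subgroups of `PGL₂(k)` are `PSL₂(K)`, `K` finite of the same characteristic, or `A₅ = PSL₂(5)` (Dickson); the
tetrahedral subgroup is written with the quaternion units.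
-/

set_option autoImplicit false
set_option linter.unusedVariables false
set_option linter.unusedSimpArgs false

namespace Cfsg.Agent.Cam.Odd.Grp

open Matrix Subgroup
open Cfsg.Agent.H402.PSL2Cls
open Cfsg.Agent.Cam.Ex (kb IA)

/-- the facts about `PSL₂(K)`, `r` the characteristic of `K` -/
def Con (r : ℕ) (U : Type) [Group U] : Prop :=
  (∀ u v : U, orderOf u = 2 → orderOf v = 2 → IsConj u v) ∧
    (5 ≤ r → ∃ (u v : U) (k : ℕ), orderOf u = r ∧ v * u * v⁻¹ = u ^ k ∧ (k : ZMod r) ≠ 1) ∧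
    ∃ x₁ x₂ t : U, Tet x₁ x₂ t ∧
      (r ≠ 3 → (∃ y : U, orderOf y = 2 ∧ y * t * y⁻¹ = t⁻¹) ∧ ∀ s : U, orderOf s = 3 → IsConj s t)

theorem isConj_of_map {U V : Type} [Group U] [Group V] (e : U ≃* V) {a : U} {b : V} (h : IsConj (e a) b) :
    IsConj a (e.symm b) := by
  have h1 := e.symm.toMonoidHom.map_isConj h
  simpa using h1

theorem Con.congr {r : ℕ} {U V : Type} [Group U] [Group V] (e : U ≃* V) (h : Con r V) : Con r U := by
  obtain ⟨h1, h2, x₁, x₂, t, h3, h4⟩ := h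
  have ho : ∀ v : V, orderOf (e.symm v) = orderOf v := fun v => e.symm.orderOf_eq v
  refine ⟨fun u v hu hv => ?_, fun h5 => ?_, e.symm x₁, e.symm x₂, e.symm t, ⟨?_, ?_, ?_, ?_, ?_, ?_⟩, fun h5 => ?_⟩
  · have h6 := isConj_of_map e (h1 (e u) (e v) (by rw [e.orderOf_eq, hu]) (by rw [e.orderOf_eq, hv]))
    rwa [e.symm_apply_apply] at h6
  · obtain ⟨u, v, k, a1, a2, a3⟩ := h2 h5
    refine ⟨e.symm u, e.symm v, k, by rw [ho, a1], ?_, a3⟩
    rw [← map_inv, ← map_mul, ← map_mul, a2, map_pow]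
  · rw [ho, h3.o1]
  · exact fun h => h3.ne (e.symm.injective h)
  · rw [← map_mul, ← map_mul, h3.comm]
  · rw [← map_inv, ← map_mul, ← map_mul, h3.c1]
  · rw [← map_inv, ← map_mul, ← map_mul, h3.c2, map_mul]
  · rw [ho, h3.o3]
  · obtain ⟨⟨y, a1, a2⟩, a3⟩ := h4 h5
    refine ⟨⟨e.symm y, by rw [ho, a1], ?_⟩, fun s hs => isConj_of_map e (a3 _ (by rw [e.orderOf_eq, hs]))⟩
    rw [← map_inv, ← map_mul, ← map_mul, a2, map_inv]

section mat

variable {K : Type} [Field K]

theorem mk00 (a b c e : K) (h : a * e - b * c = 1) : (mkSL a b c e h).1 0 0 = a := rfl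
theorem mk01 (a b c e : K) (h : a * e - b * c = 1) : (mkSL a b c e h).1 0 1 = b := rfl
theorem mk10 (a b c e : K) (h : a * e - b * c = 1) : (mkSL a b c e h).1 1 0 = c := rfl
theorem mk11 (a b c e : K) (h : a * e - b * c = 1) : (mkSL a b c e h).1 1 1 = e := rfl
theorem o00 : (1 : SpecialLinearGroup (Fin 2) K).1 0 0 = 1 := rfl
theorem o01 : (1 : SpecialLinearGroup (Fin 2) K).1 0 1 = 0 := rfl
theorem o10 : (1 : SpecialLinearGroup (Fin 2) K).1 1 0 = 0 := rfl
theorem o11 : (1 : SpecialLinearGroup (Fin 2) K).1 1 1 = 1 := rfl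

/-- trace zero -/
theorem sq_of_tr {g : SpecialLinearGroup (Fin 2) K} (h : tr g = 0) : g * g = -1 := by
  have hd := det_eq g
  rw [tr] at h
  refine ext4 ?_ ?_ ?_ ?_
  · rw [mul00, neg_apply', o00]; linear_combination g.1 0 0 * h - hd
  · rw [mul01, neg_apply', o01]; linear_combination g.1 0 1 * h
  · rw [mul10, neg_apply', o10]; linear_combination g.1 1 0 * h
  · rw [mul11, neg_apply', o11]; linear_combination g.1 1 1 * h - hd

theorem orderOf_of_tr (h2 : (2 : K) ≠ 0) {g : SpecialLinearGroup (Fin 2) K} (h : tr g = 0) : orderOf (pj g) = 2 := by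
  have : Fact (Nat.Prime 2) := ⟨Nat.prime_two⟩
  refine orderOf_eq_prime ?_ fun h1 => ?_
  · rw [pow_two, ← pj_mul, sq_of_tr h, pj_neg, pj_one]
  · rw [← pj_one, eq_comm, pj_eq] at h1
    rcases h1 with h1 | h1
    · rw [h1, tr, o00, o11] at h
      exact h2 (by linear_combination h)
    · rw [h1, tr_neg, tr, o00, o11] at h
      exact h2 (by linear_combination -h)

/-- trace `-1` -/
theorem cube_of_tr {g : SpecialLinearGroup (Fin 2) K} (h : tr g = -1) : g * g * g = 1 := by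
  have hd := det_eq g
  rw [tr] at h
  have h1 : g.1 1 1 = -1 - g.1 0 0 := by linear_combination h
  rw [h1] at hd
  refine ext4 ?_ ?_ ?_ ?_
  · rw [mul00, mul00, mul01, o00, h1]; linear_combination (1 - g.1 0 0) * hd
  · rw [mul01, mul00, mul01, o01, h1]; linear_combination (-g.1 0 1) * hd
  · rw [mul10, mul10, mul11, o10, h1]; linear_combination (-g.1 1 0) * hd
  · rw [mul11, mul10, mul11, o11, h1]; linear_combination (2 + g.1 0 0) * hd

/-- an element of order three of `PSL₂` -/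
theorem tr_of_three {g : SpecialLinearGroup (Fin 2) K} (h : orderOf (pj g) = 3) : tr g = -1 ∨ tr (-g) = -1 := by
  have hd := det_eq g
  have h3 : pj (g * g * g) = pj 1 := by
    rw [pj_mul, pj_mul, pj_one, ← pow_three', ← h, pow_orderOf_eq_one]
  rw [eq_comm, pj_eq] at h3
  have e01 : (g * g * g).1 0 1 = 0 := by
    rcases h3 with h3 | h3 <;> rw [h3]
    · rfl
    · rw [neg_apply', o01, neg_zero]
  have e10 : (g * g * g).1 1 0 = 0 := by
    rcases h3 with h3 | h3 <;> rw [h3]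
    · rfl
    · rw [neg_apply', o10, neg_zero]
  have e00 : (g * g * g).1 0 0 = (g * g * g).1 1 1 := by
    rcases h3 with h3 | h3 <;> rw [h3]
    · rfl
    · rw [neg_apply', neg_apply', o00, o11]
  rw [mul01, mul00, mul01] at e01
  rw [mul10, mul10, mul11] at e10
  rw [mul00, mul00, mul01, mul11, mul10, mul11] at e00
  by_contra hn
  rw [not_or, tr_neg, tr] at hn
  have ht : (g.1 0 0 + g.1 1 1) ^ 2 - 1 ≠ 0 := by
    intro h0
    have h1 : (g.1 0 0 + g.1 1 1 + 1) * (g.1 0 0 + g.1 1 1 - 1) = 0 := by linear_combination h0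
    rcases mul_eq_zero.1 h1 with h1 | h1
    · exact hn.1 (by linear_combination h1)
    · exact hn.2 (by linear_combination -h1)
  have f01 : g.1 0 1 = 0 := by
    refine (mul_eq_zero.1 (?_ : ((g.1 0 0 + g.1 1 1) ^ 2 - 1) * g.1 0 1 = 0)).resolve_left ht
    linear_combination e01 + g.1 0 1 * hd
  have f10 : g.1 1 0 = 0 := by
    refine (mul_eq_zero.1 (?_ : ((g.1 0 0 + g.1 1 1) ^ 2 - 1) * g.1 1 0 = 0)).resolve_left ht
    linear_combination e10 + g.1 1 0 * hd
  have f00 : g.1 0 0 - g.1 1 1 = 0 := by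
    refine (mul_eq_zero.1 (?_ : ((g.1 0 0 + g.1 1 1) ^ 2 - 1) * (g.1 0 0 - g.1 1 1) = 0)).resolve_left ht
    linear_combination e00 + (g.1 0 0 - g.1 1 1) * hd
  have h1 : (g.1 0 0 - 1) * (g.1 0 0 + 1) = 0 := by
    linear_combination hd + g.1 0 0 * f00 + g.1 0 1 * f10
  have h2 : pj g = 1 := by
    rw [← pj_one, eq_comm, pj_eq]
    rcases mul_eq_zero.1 h1 with h1 | h1
    · refine Or.inl (ext4 ?_ f01 f10 ?_)
      · rw [o00]; linear_combination h1
      · rw [o11]; linear_combination h1 - f00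
    · refine Or.inr (ext4 ?_ ?_ ?_ ?_)
      · rw [neg_apply', o00]; linear_combination h1
      · rw [neg_apply', o01, neg_zero]; exact f01
      · rw [neg_apply', o10, neg_zero]; exact f10
      · rw [neg_apply', o11]; linear_combination h1 - f00
  rw [h2, orderOf_one] at h
  exact absurd h (by norm_num)

/-- an element which inverts an element of trace `-1` has trace zero -/
theorem tr_of_inv (h3 : (3 : K) ≠ 0) {g t : SpecialLinearGroup (Fin 2) K} (ht : tr t = -1) (h : t * t * g = g * t) :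
    tr g = 0 := by
  have hd := det_eq t
  rw [tr] at ht ⊢
  have h1 : t.1 1 1 = -1 - t.1 0 0 := by linear_combination ht
  rw [h1] at hd
  have e00 : (t * t * g).1 0 0 = (g * t).1 0 0 := by rw [h]
  have e01 : (t * t * g).1 0 1 = (g * t).1 0 1 := by rw [h]
  have e10 : (t * t * g).1 1 0 = (g * t).1 1 0 := by rw [h]
  have e11 : (t * t * g).1 1 1 = (g * t).1 1 1 := by rw [h]
  rw [mul00, mul00, mul01, mul00, h1] at e00
  rw [mul01, mul00, mul01, mul01, h1] at e01
  rw [mul10, mul10, mul11, mul10, h1] at e10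
  rw [mul11, mul10, mul11, mul11, h1] at e11
  have a1 : t.1 0 1 * (g.1 0 0 + g.1 1 1) = 0 := by linear_combination -e01 - g.1 0 1 * hd
  have a2 : (2 * t.1 0 0 + 1) * (g.1 0 0 + g.1 1 1) = 0 := by
    linear_combination -e00 + e11 + (g.1 1 1 - g.1 0 0) * hd
  refine (mul_eq_zero.1 (?_ : 3 * (g.1 0 0 + g.1 1 1) = 0)).resolve_left h3
  linear_combination -(2 * t.1 0 0 + 1) * a2 - 4 * t.1 1 0 * a1 - 4 * (g.1 0 0 + g.1 1 1) * hd

/-- the tetrahedral subgroup -/
theorem exists_tet (h2 : (2 : K) ≠ 0) {a b : K} (hab : a ^ 2 + b ^ 2 = -1) :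
    ∃ (x₁ x₂ : PSL K) (t : SpecialLinearGroup (Fin 2) K), tr t = -1 ∧ Tet x₁ x₂ (pj t) := by
  have : Fact (Nat.Prime 3) := ⟨Nat.prime_three⟩
  obtain ⟨h, hh⟩ : ∃ h : K, 2 * h = 1 := ⟨2⁻¹, mul_inv_cancel₀ h2⟩
  let i : SpecialLinearGroup (Fin 2) K := mkSL 0 1 (-1) 0 (by ring)
  let j : SpecialLinearGroup (Fin 2) K := mkSL a b b (-a) (by linear_combination -hab)
  let t : SpecialLinearGroup (Fin 2) K := mkSL (-h * (1 + a + b)) (-h * (1 + b - a)) (-h * (-1 + b - a))
    (-h * (1 - a - b)) (by linear_combination (-2 * h ^ 2) * hab + (2 * h + 1) * hh)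
  have ht : tr t = -1 := by
    rw [tr, mk00, mk11]; linear_combination -hh
  have c1 : t * i = j * t := by
    refine ext4 ?_ ?_ ?_ ?_
    · simp only [t, i, j, mul00, mk00, mk01, mk10, mk11]; linear_combination h * hab
    · simp only [t, i, j, mul01, mk00, mk01, mk10, mk11]; linear_combination -h * hab
    · simp only [t, i, j, mul10, mk00, mk01, mk10, mk11]; linear_combination h * hab
    · simp only [t, i, j, mul11, mk00, mk01, mk10, mk11]; linear_combination h * hab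
  have c2 : t * j = i * j * t := by
    refine ext4 ?_ ?_ ?_ ?_
    · simp only [t, i, j, mul00, mul01, mul10, mul11, mk00, mk01, mk10, mk11]; ring
    · simp only [t, i, j, mul00, mul01, mul10, mul11, mk00, mk01, mk10, mk11]; ring
    · simp only [t, i, j, mul00, mul01, mul10, mul11, mk00, mk01, mk10, mk11]; ring
    · simp only [t, i, j, mul00, mul01, mul10, mul11, mk00, mk01, mk10, mk11]; ring
  have c3 : j * i = -(i * j) := by
    refine ext4 ?_ ?_ ?_ ?_ <;>
      simp only [i, j, neg_apply', mul00, mul01, mul10, mul11, mk00, mk01, mk10, mk11] <;> ring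
  have hne : pj i ≠ pj j := by
    intro h1
    have a1 : b = 1 ∧ b = -1 := by
      rcases pj_eq.1 h1 with h1 | h1
      · have e1 : j.1 0 1 = i.1 0 1 := by rw [h1]
        have e2 : j.1 1 0 = i.1 1 0 := by rw [h1]
        exact ⟨e1, e2⟩
      · have e1 : j.1 0 1 = -i.1 0 1 := by rw [h1, neg_apply']
        have e2 : j.1 1 0 = -i.1 1 0 := by rw [h1, neg_apply']
        exact ⟨e2.trans (neg_neg 1), e1⟩
    exact h2 (by linear_combination a1.2 - a1.1)
  have d1 : pj t * pj i * (pj t)⁻¹ = pj j := by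
    rw [← pj_mul, c1, pj_mul, mul_inv_cancel_right]
  refine ⟨pj i, pj j, t, ht, orderOf_of_tr h2 ?_, hne, ?_, d1, ?_, orderOf_eq_prime ?_ fun h1 => hne ?_⟩
  · rw [tr, mk00, mk11, add_zero]
  · rw [← pj_mul, ← pj_mul, c3, pj_neg]
  · rw [← pj_mul, c2, pj_mul, mul_inv_cancel_right, pj_mul]
  · rw [pow_three', ← pj_mul, ← pj_mul, cube_of_tr ht, pj_one]
  · rw [← d1, h1, one_mul, inv_one, mul_one]

/-- unipotent elements -/
def un (s : K) : SpecialLinearGroup (Fin 2) K := mkSL 1 s 0 1 (by ring)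

theorem un_pow (n : ℕ) : (un (1 : K)) ^ n = un (n : K) := by
  induction n with
  | zero => rw [pow_zero, Nat.cast_zero]; exact ext4 rfl rfl rfl rfl
  | succ n ih =>
    rw [pow_succ, ih]
    refine ext4 ?_ ?_ ?_ ?_ <;> simp only [un, mul00, mul01, mul10, mul11, mk00, mk01, mk10, mk11] <;> push_cast <;> ring

theorem con_psl [Fintype K] (r : ℕ) [hr : Fact r.Prime] [CharP K r] (hr2 : r ≠ 2) : Con r (PSL K) := by
  have h2 : (2 : K) ≠ 0 := fun h => hr2 ((Nat.prime_dvd_prime_iff_eq hr.out Nat.prime_two).1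
    ((CharP.cast_eq_zero_iff K r 2).1 (by exact_mod_cast h)))
  have h3 : r ≠ 3 → (3 : K) ≠ 0 := fun hr3 h => hr3 ((Nat.prime_dvd_prime_iff_eq hr.out Nat.prime_three).1
    ((CharP.cast_eq_zero_iff K r 3).1 (by exact_mod_cast h)))
  have hodd : Odd (Fintype.card K) := by
    refine Nat.odd_iff.2 (FiniteField.odd_card_of_char_ne_two ?_)
    rw [ringChar.eq K r]
    exact hr2
  refine ⟨ClassicalGeometry.SLTwoFour.psl_isConj hodd, fun h5 => ?_, ?_⟩
  · obtain ⟨h, hh⟩ : ∃ h : K, 2 * h = 1 := ⟨2⁻¹, mul_inv_cancel₀ h2⟩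
    let v : SpecialLinearGroup (Fin 2) K := mkSL 2 0 0 h (by linear_combination hh)
    have c1 : v * un 1 = un ((4 : ℕ) : K) * v := by
      refine ext4 ?_ ?_ ?_ ?_
      · simp only [v, un, mul00, mk00, mk01, mk10, mk11]; ring
      · simp only [v, un, mul01, mk00, mk01, mk10, mk11]; push_cast; linear_combination -2 * hh
      · simp only [v, un, mul10, mk00, mk01, mk10, mk11]; ring
      · simp only [v, un, mul11, mk00, mk01, mk10, mk11]; ring
    have hp : ∀ n : ℕ, pj (un (1 : K)) ^ n = pj (un (n : K)) := fun n => by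
      rw [← un_pow]; rfl
    refine ⟨pj (un 1), pj v, 4, orderOf_eq_prime ?_ fun h1 => ?_, ?_, fun h1 => ?_⟩
    · rw [hp, CharP.cast_eq_zero K r, ← pj_one]
      congr 1
      exact ext4 rfl rfl rfl rfl
    · rw [← pj_one, eq_comm, pj_eq] at h1
      rcases h1 with h1 | h1
      · have e1 : (un (1 : K)).1 0 1 = 0 := by rw [h1, o01]
        exact one_ne_zero e1
      · have e1 : (un (1 : K)).1 0 1 = 0 := by rw [h1, neg_apply', o01, neg_zero]
        exact one_ne_zero e1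
    · rw [← pj_mul, c1, pj_mul, mul_inv_cancel_right, hp]
    · have h6 : ((3 : ℕ) : ZMod r) = 0 := by
        push_cast at h1 ⊢
        linear_combination h1
      have h7 := Nat.le_of_dvd (by norm_num) ((ZMod.natCast_eq_zero_iff 3 r).1 h6)
      omega
  · have : NeZero r := ⟨hr.out.ne_zero⟩
    obtain ⟨a, b, hab⟩ := CharP.sq_add_sq K r (-1)
    obtain ⟨x₁, x₂, t, ht, hT⟩ := exists_tet h2 (a := (a : K)) (b := (b : K)) (by exact_mod_cast hab)
    refine ⟨x₁, x₂, pj t, hT, fun hr3 => ?_⟩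
    have h4 : tr t ^ 2 ≠ 4 := by
      rw [ht]
      exact fun h => h3 hr3 (by linear_combination -h)
    have hi : t * t = t⁻¹ := eq_inv_of_mul_eq_one_left (cube_of_tr ht)
    refine ⟨?_, fun s hs => ?_⟩
    · have h5 : tr t = tr (t * t) := by
        have hd := det_eq t
        rw [tr] at ht
        rw [tr, tr, mul00, mul11]
        linear_combination (-(t.1 0 0 + t.1 1 1) + 2) * ht + 2 * hd
      obtain ⟨g, hg⟩ := exists_conj_of_tr_eq h5 h4
      refine ⟨pj g, orderOf_of_tr h2 (tr_of_inv (h3 hr3) ht (by rw [hg, inv_mul_cancel_right])), ?_⟩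
      rw [← pj_inv, ← pj_inv, ← pj_mul, ← pj_mul, ← hg, hi]
    · obtain ⟨s, rfl⟩ := pj_surj s
      refine IsConj.symm ((isConj_pj h4).2 ?_)
      rcases tr_of_three hs with h | h
      · exact ⟨s, h.trans ht.symm, rfl⟩
      · exact ⟨-s, h.trans ht.symm, pj_neg s⟩

end mat

/-- Dickson's theorem for simple subgroups -/
theorem dick {F : Type} [Field F] [Fintype F] (p : ℕ) [Fact p.Prime] [CharP F p] (H : Subgroup (PSL F))
    (hs : IsSimpleGroup H) (hc : ¬ IsMulCommutative H) :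
    Nonempty (H ≃* alternatingGroup (Fin 5)) ∨
      ∃ (K : Type) (_ : Field K) (_ : Fintype K) (_ : CharP K p), Nonempty (H ≃* PSL K) := by
  have h60 : 60 ≤ Nat.card H := Cfsg.Agent.H894.sixty_le hc
  have hns : ¬ Group.IsSolvable H := fun h => hc ⟨⟨fun a b => IsSimpleGroup.comm_iff_isSolvable.2 h a b⟩⟩
  rcases Cfsg.Agent.S0799.result (q := Fintype.card F) rfl p H with ⟨k, -, h | ⟨⟨e⟩⟩⟩ | ⟨P, K, hK, ⟨e⟩⟩ | ⟨⟨e⟩⟩ | ⟨⟨e⟩⟩ |
    h | ⟨K, _, _, m, hm, ⟨⟨e⟩⟩ | ⟨⟨e⟩⟩⟩
  · exact absurd h.1.isMulCommutative hc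
  · have := Cfsg.Agent.ClassicalGeometry.PSL2Solvable.isSolvable_dihedral k
    exact absurd (Group.isSolvable_of_isSolvable_injective (f := e.toMonoidHom) e.injective) hns
  · have := ClassicalGeometry.PSL2Solvable.isSolvable_of_le_normalizer p P K hK
    exact absurd (Group.isSolvable_of_isSolvable_injective (f := e.toMonoidHom) e.injective) hns
  · exfalso
    rw [Nat.card_congr e.toEquiv, nat_card_alternatingGroup] at h60
    norm_num [Nat.factorial] at h60
  · exfalso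
    rw [Nat.card_congr e.toEquiv, Nat.card_perm, Nat.card_fin] at h60
    norm_num [Nat.factorial] at h60
  · exact Or.inl h
  · exact Or.inr ⟨K, inferInstance, inferInstance, H19.RP.charP_of_pow p hm, ⟨e⟩⟩
  · have hsp : IsSimpleGroup (ProjGenLinGroup (Fin 2) K) := e.symm.isSimpleGroup
    obtain ⟨f⟩ := H19.RP.pgl_psl hsp
    exact Or.inr ⟨K, inferInstance, inferInstance, H19.RP.charP_of_pow p hm, ⟨e.trans f⟩⟩

/-- descent to a finite field -/
theorem descend (p : ℕ) [Fact p.Prime] {U : Type} [Group U] [Finite U] (f : U →* PSL (kb p))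
    (hf : Function.Injective f) :
    ∃ (F : Type) (_ : Field F) (_ : Fintype F) (_ : CharP F p) (H : Subgroup (PSL F)), Nonempty (U ≃* H) := by
  choose j hj using fun u => pj_surj (f u)
  obtain ⟨E, hE, hS⟩ := H212.BR.locfin (ZMod p) (Set.range fun x : U × Fin 2 × Fin 2 => (j x.1).1 x.2.1 x.2.2)
    (Set.finite_range _)
  let φ : PSL E →* PSL (kb p) := ClassicalGeometry.PSL2Basic.pslMap E.subtype
  have hφ : Function.Injective φ := ClassicalGeometry.PSL2Basic.pslMap_injective E.subtype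
  have hr : f.range ≤ φ.range := by
    rintro _ ⟨u, rfl⟩
    have hm : ∀ a b, (j u).1 a b ∈ E := fun a b => hS ⟨(u, a, b), rfl⟩
    refine ⟨pj (mkSL ⟨_, hm 0 0⟩ ⟨_, hm 0 1⟩ ⟨_, hm 1 0⟩ ⟨_, hm 1 1⟩ (Subtype.ext (det_eq (j u)))), ?_⟩
    rw [← hj u]
    refine (ClassicalGeometry.PSL2Basic.pslMap_mk E.subtype _).trans ?_
    rw [pj]
    congr 1
    exact ext4 rfl rfl rfl rfl
  refine ⟨E, inferInstance, Fintype.ofFinite E, inferInstance, f.range.comap φ, ⟨?_⟩⟩
  exact (MonoidHom.ofInjective hf).trans ((MulEquiv.subgroupCongr (map_comap_eq_self hr).symm).trans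
    (equivMapOfInjective _ φ hφ).symm)

theorem con_of_inj (p : ℕ) [hp : Fact p.Prime] (hp2 : p ≠ 2) {U : Type} [Group U] [Finite U] (hs : IsSimpleGroup U)
    (hc : ¬ IsMulCommutative U) (f : U →* PSL (kb p)) (hf : Function.Injective f) :
    Con p U ∨ (Con 5 U ∧ Nat.card U = 60) := by
  obtain ⟨F, _, _, _, H, ⟨e⟩⟩ := descend p f hf
  have hc' : ¬ IsMulCommutative H := fun h =>
    hc ⟨⟨fun a b => e.injective (by rw [map_mul, map_mul]; exact h.is_comm.comm _ _)⟩⟩
  rcases dick p H e.symm.isSimpleGroup hc' with ⟨⟨g⟩⟩ | ⟨K, _, _, _, ⟨g⟩⟩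
  · have : Fact (Nat.Prime 5) := ⟨Nat.prime_five⟩
    obtain ⟨g'⟩ := Cfsg.Agent.S0253.result (F := ZMod 5) (ZMod.card 5)
    refine Or.inr ⟨Con.congr ((e.trans g).trans g'.symm) (con_psl 5 (by norm_num)), ?_⟩
    rw [Nat.card_congr (e.trans g).toEquiv, nat_card_alternatingGroup]
    norm_num [Nat.factorial]
  · exact Or.inl (Con.congr (e.trans g) (con_psl p hp2))

/-- the homomorphism to `PSL₂(k)` -/
theorem exists_inj {k : Type} [Field k] {U : Type} [Group U] (hs : IsSimpleGroup U) {Y : Type} [Group Y]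
    (ψ : Ex.S2.SL k →* Y) (a : U →* Y) (hψ : Ex.S2.CK ψ) (hi : ∀ u, ∃ j, IA ψ (a u) j) (hn : ∃ u, ¬ Ex.S2.Cz ψ (a u)) :
    ∃ f : U →* PSL k, Function.Injective f := by
  choose j hj using hi
  let f : U →* PSL k := MonoidHom.mk' (fun u => pj (j u)) fun u v => by
    have h1 : IA ψ (a (u * v)) (j u * j v) := by
      rw [map_mul]
      exact (hj u).mul (hj v)
    exact QuotientGroup.eq.2 (hψ.inn_unique (hj (u * v)) h1)
  refine ⟨f, f.ker_eq_bot_iff.1 ((f.normal_ker.eq_bot_or_eq_top).resolve_right fun h => ?_)⟩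
  obtain ⟨u, hu⟩ := hn
  have h1 : u ∈ f.ker := by rw [h]; trivial
  exact hu (Ex.S2.cz_of_inn (hj u) ((QuotientGroup.eq_one_iff _).1 h1))

/-- two values on a set of odd size -/
theorem exists_fix {X : Type} [Finite X] (hX : Odd (Nat.card X)) (σ : X → X) (hσ : Function.Injective σ) (f : X → ℕ)
    (a b : ℕ) (hf : ∀ x, f x = a ∨ f x = b) : ∃ x, f (σ x) = f x := by
  classical
  by_contra hn
  push Not at hn
  have h1 : ∀ x, f x = a → ¬ f (σ x) = a := fun x h h' => hn x (h'.trans h.symm)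
  have h2 : ∀ x, ¬ f x = a → f (σ x) = a := fun x h =>
    (hf (σ x)).resolve_right fun h' => hn x (h'.trans ((hf x).resolve_left h).symm)
  have a1 : Nat.card {x // f x = a} ≤ Nat.card {x // ¬ f x = a} :=
    Nat.card_le_card_of_injective (fun x => ⟨σ x.1, h1 _ x.2⟩) fun x y h => Subtype.ext (hσ (congrArg Subtype.val h))
  have a2 : Nat.card {x // ¬ f x = a} ≤ Nat.card {x // f x = a} :=
    Nat.card_le_card_of_injective (fun x => ⟨σ x.1, h2 _ x.2⟩) fun x y h => Subtype.ext (hσ (congrArg Subtype.val h))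
  rw [← Nat.card_congr (Equiv.sumCompl fun x => f x = a), Nat.card_sum] at hX
  obtain ⟨m, hm⟩ := hX
  omega

/-- **`BoxGrp`** -/
theorem boxGrp : BoxGrp where
  two := fun U _ _ hs hc => by
    have : Fact (Nat.Prime 2) := ⟨Nat.prime_two⟩
    refine exists_prime_orderOf_dvd_card' 2 ?_
    by_contra h
    have hodd : Odd (Nat.card U) := by rwa [← Nat.not_even_iff_odd, even_iff_two_dvd]
    exact hc ⟨⟨IsSimpleGroup.comm_iff_isSolvable.2 (Cfsg.Agent.S0205.result hodd)⟩⟩
  zs := fun U _ _ hs hc u hu => by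
    obtain ⟨g, h1, h2⟩ := StandardComponent.StdCtx.fusion hc hu
    exact ⟨g, h2, h1.symm.eq⟩
  par := fun U _ _ ψ hψ hu f a b hf => by
    obtain ⟨u, hu⟩ := hu
    have h1 : Odd (Nat.card {t : U // orderOf t = 2}) :=
      Cfsg.Agent.S0226.result (even_iff_two_dvd.2 (hu ▸ orderOf_dvd_natCard u))
    obtain ⟨x, hx⟩ := exists_fix h1 (fun t => ⟨ψ t.1, (orderOf_injective ψ hψ t.1).trans t.2⟩)
      (fun x y h => Subtype.ext (hψ (congrArg Subtype.val h))) (fun t => f t.1) a b fun t => hf t.1 t.2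
    exact ⟨x.1, x.2, hx⟩
  pgl := fun p hp hp2 U _ _ hs hc Y _ ψ a hψ hi hn => by
    obtain ⟨f, hf⟩ := exists_inj hs ψ a hψ hi hn
    rcases con_of_inj p hp2 hs hc f hf with ⟨h1, h2, h3⟩ | ⟨⟨h1, h2, x₁, x₂, t, h3, h4⟩, h5⟩
    · exact ⟨h1, fun h _ => h2 h, h3⟩
    · refine ⟨h1, fun h h6 => ?_, x₁, x₂, t, h3, fun _ => h4 (by norm_num)⟩
      rw [h5] at h6
      have h7 : p = 5 := by
        have h8 : p ∣ 2 * 2 * 3 * 5 := h6
        have hpp := hp.out
        rw [hpp.dvd_mul, hpp.dvd_mul, hpp.dvd_mul, Nat.prime_dvd_prime_iff_eq hpp Nat.prime_two,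
          Nat.prime_dvd_prime_iff_eq hpp Nat.prime_three, Nat.prime_dvd_prime_iff_eq hpp Nat.prime_five] at h8
        omega
      subst h7
      exact h2 le_rfl

end Cfsg.Agent.Cam.Odd.Grp
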