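import Cfsg.Agent.Cam.Odd.E7A

/-!
# `E₇`, odd characteristic: no core (helper81)
-/

set_option autoImplicit false
set_option linter.unusedVariables false
set_option linter.unusedSectionVars false

namespace Cfsg.Agent.Cam.Odd

open CoxeterSystem Cfsg Cfsg.Lie Subgroup Module
open Cfsg.Agent.Tits.Roots Cfsg.Agent.Nodes.BNOf Cfsg.Agent.Nodes.RGDChev Cfsg.Agent.KFacts.RgdChevCoord
open Cfsg.Agent.ChevalleyStructure.CoxeterGeom Cfsg.Agent.ChevalleyStructure.CoxeterGeomTypes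
open Cfsg.Agent.Cam.Spor Cfsg.Agent.Cam.Ex Cfsg.Agent.Cam.Ex.S2 Cfsg.Agent.TwoFusion.PerfCore
open Cfsg.Agent.DS.Nt (dd ad Fx Tp RP DZ)
open Cfsg.Agent.DS.NT (ev)
open scoped commutatorElement

section grp

variable {G H : Type*} [Group G] [Group H]

theorem sq_of {u : G} (h : orderOf u = 2) : u ^ 2 = 1 := by rw [← h, pow_orderOf_eq_one]

theorem ne_of {u : G} (h : orderOf u = 2) : u ≠ 1 := fun e => by
  rw [e, orderOf_one] at h
  omega

theorem map_sq (f : G →* H) {u : G} (h : u ^ 2 = 1) : f u ^ 2 = 1 := by rw [← map_pow, h, map_one]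

theorem map_ne {f : G →* H} (hf : Function.Injective f) {u : G} (h : u ≠ 1) : f u ≠ 1 := fun e =>
  h (hf (by rw [e, map_one]))

theorem ord_mul {u v : G} (hu : orderOf u = 2) (hv : orderOf v = 2) (hne : u ≠ v) (hc : u * v = v * u) :
    orderOf (u * v) = 2 := by
  refine orderOf_eq_prime (by rw [(show Commute u v from hc).mul_pow, sq_of hu, sq_of hv, mul_one]) fun e => hne ?_
  have h1 : v * v = 1 := by rw [← pow_two, sq_of hv]
  exact mul_right_cancel (e.trans h1.symm)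

theorem ord_conj (g u : G) : orderOf (g * u * g⁻¹) = orderOf u :=
  (MulAut.conj g).orderOf_eq u

theorem map_conj' (f : G →* H) (g u : G) : f (g * u * g⁻¹) = f g * f u * (f g)⁻¹ := by rw [map_mul, map_mul, map_inv]

theorem map_comm (f : G →* H) {u v : G} (h : u * v = v * u) : f u * f v = f v * f u := by
  rw [← map_mul, ← map_mul, h]

end grp

theorem Tet.map {U V : Type} [Group U] [Group V] {f : U →* V} (hf : Function.Injective f) {x₁ x₂ t : U}
    (h : Tet x₁ x₂ t) : Tet (f x₁) (f x₂) (f t) where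
  o1 := by rw [orderOf_injective f hf, h.o1]
  ne e := h.ne (hf e)
  comm := map_comm f h.comm
  c1 := by rw [← map_conj', h.c1]
  c2 := by rw [← map_conj', h.c2, map_mul]
  o3 := by rw [orderOf_injective f hf, h.o3]

variable {p : ℕ} [Fact p.Prime] {d : ℕ} {g0 : Lat 7 ≃+ Lat 7} {L : Type} [Group L] [Finite L] {U : Type} [Group U]
  [Finite U] {τ α β : U →* L} {R R' : Subgroup L}

theorem alpha_mul_ne (C : Core τ α β R R') {u v : U} (hu : u ≠ 1) : α u * β v ≠ 1 := fun e =>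
  hu (eq_one_of_comm C.simple C.noncomm fun w => C.pair'.inj (by
    rw [map_mul, map_mul, eq_inv_of_mul_eq_one_left e, ← map_inv]
    exact (C.ab w v⁻¹).symm))

theorem alpha_eq_beta (C : Core τ α β R R') {u v : U} (h : α u = β v) : u = 1 ∧ v = 1 := by
  have h1 : u = 1 := by
    by_contra hu
    exact alpha_mul_ne C (v := v⁻¹) hu (by rw [h, ← map_mul, mul_inv_cancel, map_one])
  refine ⟨h1, C.binj ?_⟩
  rw [← h, h1, map_one, map_one]

/-- the representation of `U × U` on the adjoint module -/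
noncomputable def rho (E : Frame tE7 p d g0 L) (C : Core τ α β R R') :
    U × U →* Module.End (kb p) (chevE7.Idx → kb p) :=
  (ad chevE7 p).comp (E.ι.comp (α.noncommCoprod β fun u v => C.ab u v))

theorem rho_apply (E : Frame tE7 p d g0 L) (C : Core τ α β R R') (u v : U) :
    rho E C (u, v) = ad chevE7 p (E.ι (α u * β v)) := rfl

theorem ev_rho (E : Frame tE7 p d g0 L) (C : Core τ α β R R') (u v : U) :
    ev (rho E C) (u, v) 1 = dd p (E.ι (α u * β v)) := rfl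

theorem ev_a (E : Frame tE7 p d g0 L) (C : Core τ α β R R') (u : U) :
    ev (rho E C) (u, 1) 1 = dd p (E.ι (α u)) := by rw [ev_rho, map_one, mul_one]

theorem ev_b (E : Frame tE7 p d g0 L) (C : Core τ α β R R') (u : U) :
    ev (rho E C) (1, u) 1 = dd p (E.ι (β u)) := by rw [ev_rho, map_one, one_mul]

theorem ev_t (E : Frame tE7 p d g0 L) (C : Core τ α β R R') (u : U) :
    ev (rho E C) (u, u) 1 = dd p (E.ι (τ u)) := by rw [ev_rho, C.eq]

theorem nr7 : chevE7.nroots = 126 := by decide +kernel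

theorem finrank7 : finrank (kb p) (chevE7.Idx → kb p) = 133 := by
  rw [DS.Nt.finrank_ad tE7, nr7]

theorem two_ne (h2 : p ≠ 2) : (2 : kb p) ≠ 0 := DS.Nt.cast_ne_zero (r := 2) Nat.prime_two h2.symm

/-- `eps` is additive on `α U × β U` -/
theorem dd_ab (l7 : BoxL7) (E : Frame tE7 p d g0 L) (C : Core τ α β R R') (h2 : p ≠ 2) {u v : U} (hu : orderOf u = 2)
    (hv : orderOf v = 2) :
    dd p (E.ι (α u * β v)) = 69 ↔ (dd p (E.ι (α u)) = 69 ↔ dd p (E.ι (β v)) = 69) := by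
  rw [map_mul]
  refine dd_mul l7 h2 (tp_ab E C h2 (sq_of hu) (sq_of hv)) (map_sq _ (map_sq _ (sq_of hu)))
    (map_sq _ (map_sq _ (sq_of hv))) (map_ne E.inj (map_ne C.pair'.inj (ne_of hu)))
    (map_ne E.inj (map_ne C.binj (ne_of hv))) ?_
  rw [← map_mul]
  exact map_ne E.inj (alpha_mul_ne C (ne_of hu))

/-- `K3` in `T` -/
theorem oy_T (one : BoxOne) (l7 : BoxL7) (E : Frame tE7 p d g0 L) (C : Core τ α β R R') (h2 : p ≠ 2) (hq : 5 ≤ E.q)
    {u u' : U} (hu : u ^ 2 = 1) (hu' : u' ^ 2 = 1) (hc : u * u' = u' * u) (h69 : dd p (E.ι (τ u)) = 69) :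
    OY (E.ι (τ u)) (E.ι (τ u')) := by
  obtain ⟨E', hE, h1, h3⟩ := exists_frame₂ E (tp_rho h2 (map_sq _ (map_sq _ hu)) h69 (map_sq _ (map_sq _ hu'))
    (map_comm _ (map_comm _ hc)))
  obtain ⟨φ, hφ⟩ := exists_chi2 E' h2 h1 (map_sq _ hu)
  obtain ⟨ψ, hψ⟩ := exists_chi2 E' h2 h3 (map_sq _ hu')
  have h62 : nk tE7 φ = 62 := by
    have h4 := dd_chi (prim2 h2) hφ
    rw [cj_dd hE] at h4
    omega
  obtain ⟨c, hc1, hc2, -⟩ := l7.l3 φ h62
  have h5 := k3t one (by norm_num) e7_ne E' C h2 (by rw [cj_q hE]; exact hq) hφ hψ hc1 (hc2 _ (a1c_g E' h2 hφ hc1))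
  obtain ⟨-, z, hz⟩ := hE
  rw [hz] at hφ hψ
  exact oy_of h2 (g := z⁻¹) (by rw [inv_inv]; exact hφ) (by rw [inv_inv]; exact hψ) ((ort_iff l7 h62 hc1).2 h5)

/-- the four-groups of `T` with two conjugate involutions -/
theorem pure_T (one : BoxOne) (l7 : BoxL7) (E : Frame tE7 p d g0 L) (C : Core τ α β R R') (h2 : p ≠ 2)
    (hq : 5 ≤ E.q) {u g : U} (hu : orderOf u = 2) (hne : g * u * g⁻¹ ≠ u)
    (hc : u * (g * u * g⁻¹) = (g * u * g⁻¹) * u) :
    dd p (E.ι (τ (u * (g * u * g⁻¹)))) = 69 ↔ dd p (E.ι (τ u)) = 69 := by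
  have hv : orderOf (g * u * g⁻¹) = 2 := by rw [ord_conj, hu]
  have hw := ord_mul hu hv hne.symm hc
  have e : dd p (E.ι (τ (g * u * g⁻¹))) = dd p (E.ι (τ u)) := by rw [map_conj' τ, dd_conjL]
  have n : ∀ {v : U}, orderOf v = 2 → E.ι (τ v) ≠ 1 := fun hv => map_ne E.inj (map_ne C.pair.inj (ne_of hv))
  have s : ∀ {v : U}, orderOf v = 2 → E.ι (τ v) ^ 2 = 1 := fun hv => map_sq _ (map_sq _ (sq_of hv))
  constructor
  · intro h
    by_contra h'
    have hc' : u * (g * u * g⁻¹) * u = u * (u * (g * u * g⁻¹)) := by rw [mul_assoc, ← hc]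
    have h1 := (oy_out l7 h2 (s hw) (s hu) (n hu) h h' (map_comm _ (map_comm _ hc'))).1
      (oy_T one l7 E C h2 hq (sq_of hw) (sq_of hu) hc' h)
    rw [← map_mul, ← map_mul, ← mul_assoc, ← pow_two, sq_of hu, one_mul] at h1
    exact h1 e
  · intro h
    rw [map_mul, map_mul, dd_mul l7 h2 (tp_rho h2 (s hu) h (s hv) (map_comm _ (map_comm _ hc))) (s hu) (s hv) (n hu)
      (n hv) (by rw [← map_mul, ← map_mul]; exact n hw), e]

/-- **Case I**: no root involution in `T`. -/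
theorem no_rho (one : BoxOne) (l7 : BoxL7) (grp : BoxGrp) (lin : BoxLin) (E : Frame tE7 p d g0 L)
    (C : Core τ α β R R') (h2 : p ≠ 2) (hq : 5 ≤ E.q) {u : U} (hu : orderOf u = 2) : dd p (E.ι (τ u)) ≠ 69 := by
  intro x1
  obtain ⟨g, hne, hc⟩ := grp.zs U C.simple C.noncomm u hu
  obtain ⟨v, hv⟩ : ∃ v, v = g * u * g⁻¹ := ⟨_, rfl⟩
  have ov : orderOf v = 2 := by rw [hv, ord_conj, hu]
  have ow : orderOf (u * v) = 2 := by
    rw [hv]
    exact ord_mul hu (hv ▸ ov) hne.symm hc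
  have x2 : dd p (E.ι (τ v)) = 69 := by rw [hv, map_conj' τ, dd_conjL, x1]
  have x3 : dd p (E.ι (τ (u * v))) = 69 := by
    rw [hv]
    exact (pure_T one l7 E C h2 hq hu hne hc).2 x1
  obtain ⟨θ, ψ, α', β', Q, Q', hψ, C', hθ⟩ := exists_coreA C
  have a2 : dd p (E.ι (α v)) = dd p (E.ι (α u)) := by rw [hv, map_conj' α, dd_conjL]
  have a3 : dd p (E.ι (α (u * v))) = 69 ↔ dd p (E.ι (α u)) = 69 := by
    have h1 := pure_T one l7 E C' h2 hq (u := ψ u) (g := ψ g) (by rw [orderOf_injective ψ hψ, hu])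
      (by rw [← map_conj']; exact fun e => hne (hψ e)) (by rw [← map_conj']; exact map_comm ψ hc)
    rwa [← map_conj', ← map_mul, hθ, hθ, ← hv] at h1
  have b1 := dd_ab l7 E C h2 hu hu
  have b2 := dd_ab l7 E C h2 ov ov
  have b3 := dd_ab l7 E C h2 ow ow
  rw [← C.eq] at b1 b2 b3
  rw [← hv] at hne hc
  have sa : ∀ {v : U}, orderOf v = 2 → E.ι (α v) ^ 2 = 1 := fun hv => map_sq _ (map_sq _ (sq_of hv))
  have sb : ∀ {v : U}, orderOf v = 2 → E.ι (β v) ^ 2 = 1 := fun hv => map_sq _ (map_sq _ (sq_of hv))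
  have na : ∀ {v : U}, orderOf v = 2 → E.ι (α v) ≠ 1 := fun hv => map_ne E.inj (map_ne C.pair'.inj (ne_of hv))
  have nb : ∀ {v : U}, orderOf v = 2 → E.ι (β v) ≠ 1 := fun hv => map_ne E.inj (map_ne C.binj (ne_of hv))
  have cab : ∀ u v : U, E.ι (α u) * E.ι (β v) = E.ι (β v) * E.ι (α u) := fun u v => map_comm _ (C.ab u v)
  by_cases a1 : dd p (E.ι (α u)) = 69
  · -- all involutions are root involutions
    have a2' := a2.trans a1
    have b1' := (b1.1 x1).1 a1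
    have b2' := (b2.1 x2).1 a2'
    obtain ⟨z, t1, t2⟩ := tp_rho h2 (sb hu) b1' (sb ov) (map_comm _ (map_comm _ hc))
    obtain ⟨z', t3, t4⟩ := tor_perf tE7 h2 (Z := {E.ι (β u), E.ι (β v)}) (Set.toFinite _) (z := z) (by
      rintro _ (rfl | rfl)
      exacts [⟨t1, sb hu⟩, ⟨t2, sb ov⟩]) (range_perfect C.simple C.noncomm (E.ι.comp α)) (by
      rintro _ ⟨w, rfl⟩ _ (rfl | rfl)
      exacts [cab w u, cab w v]) (x := E.ι (α u)) ⟨u, rfl⟩ (sa hu)
    have o1 : OY (E.ι (α u)) (E.ι (β u)) ↔ OY (E.ι (α u)) (E.ι (β v)) := by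
      have e1 : E.ι (β g) * E.ι (α u) * (E.ι (β g))⁻¹ = E.ι (α u) := by rw [← cab, mul_inv_cancel_right]
      have e2 : E.ι (β g) * E.ι (β u) * (E.ι (β g))⁻¹ = E.ι (β v) := by rw [← map_conj', ← map_conj', hv]
      constructor
      · intro h
        have h1 := h.conj (E.ι (β g))
        rwa [e1, e2] at h1
      · intro h
        have h1 := h.conj (E.ι (β g))⁻¹
        rwa [← e2, inv_inv,
          show (E.ι (β g))⁻¹ * E.ι (α u) * E.ι (β g) = E.ι (α u) by rw [mul_assoc, cab, inv_mul_cancel_left],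
          show (E.ι (β g))⁻¹ * (E.ι (β g) * E.ι (β u) * (E.ι (β g))⁻¹) * E.ι (β g) = E.ι (β u) by group] at h1
    have o2 := oy_mul l7 h2 t4 (t3 _ (Or.inl rfl)) (t3 _ (Or.inr rfl)) (sa hu) (sb hu) (sb ov) a1 o1
    rw [← map_mul, ← map_mul] at o2
    have o3 : ∀ {w : U}, w ^ 2 = 1 → OY (E.ι (α u)) (E.ι (β w)) := fun hw =>
      oy_all l7 h2 C.simple (b := E.ι.comp β) (sa hu) a1 (cab u) (ne_of ow) (sq_of ow) o2 hw
    have o4 : ∀ {w : U}, w ^ 2 = 1 → OY (E.ι (α v)) (E.ι (β w)) := fun {w} hw => by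
      have h1 := (o3 hw).conj (E.ι (α g))
      rwa [← map_conj', ← map_conj', ← hv, cab, mul_inv_cancel_right] at h1
    have o5 : OY (E.ι (α u)) (E.ι (α v)) := by
      have h1 := oy_T one l7 E C' h2 hq (u := ψ u) (u' := ψ v) (map_sq _ (sq_of hu)) (map_sq _ (sq_of ov))
        (map_comm _ hc) (by rw [hθ]; exact a1)
      rwa [hθ, hθ] at h1
    have o6 := oy_T one l7 E C h2 hq (sq_of hu) (sq_of ov) hc x1
    rw [C.eq, C.eq, map_mul, map_mul] at o6
    obtain ⟨y, t5, t6⟩ := tp_rho h2 (sa hu) a1 (sa ov) (map_comm _ (map_comm _ hc))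
    obtain ⟨y', t7, t8⟩ := tor_perf tE7 h2 (Z := {E.ι (α u), E.ι (α v)}) (Set.toFinite _) (z := y) (by
      rintro _ (rfl | rfl)
      exacts [⟨t5, sa hu⟩, ⟨t6, sa ov⟩]) (range_perfect C.simple C.noncomm (E.ι.comp β)) (by
      rintro _ ⟨w, rfl⟩ _ (rfl | rfl)
      exacts [(cab u w).symm, (cab v w).symm]) (x := E.ι (β u)) ⟨u, rfl⟩ (sb hu)
    have nab : ∀ w : U, E.ι (β u) ≠ E.ι (α w) := fun w e => ne_of hu (alpha_eq_beta C (E.inj e).symm).2
    obtain ⟨i, j, k, h⟩ := four_rho l7 h2 (t7 _ (Or.inl rfl)) (t7 _ (Or.inr rfl)) t8 (sa hu) (sa ov) (sb hu) (sb ov)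
      (nb ov) a1 a2' b1' b2' (fun e => hne (C.pair'.inj (E.inj e)).symm) (nab u) (nab v)
      (by rw [← map_mul, ← map_mul]; exact nab _) (cab u v).symm (cab v v).symm
      (map_comm _ (map_comm _ hc.symm)) o5 (o3 (sq_of hu)) (o4 (sq_of hu)) (o3 (sq_of ov)) (o4 (sq_of ov)) o6
    simp only [← map_pow, ← map_mul] at h
    have h1 : α (u ^ i * v ^ j) = β (v * (u ^ k)⁻¹) := by
      rw [map_mul β, map_inv, E.inj h, mul_inv_cancel_right]
    have h3 := mul_inv_eq_one.1 (alpha_eq_beta C h1).2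
    rw [← pow_mod_orderOf, hu] at h3
    rcases Nat.mod_two_eq_zero_or_one k with h4 | h4
    · rw [h4, pow_zero] at h3
      exact ne_of ov h3
    · rw [h4, pow_one] at h3
      exact hne h3
  · have hall : ∀ a ∈ ({u, v, u * v} : Set U), orderOf a = 2 ∧ dd p (E.ι (α a)) ≠ 69 ∧ dd p (E.ι (β a)) ≠ 69 := by
      rintro _ (rfl | rfl | rfl)
      · exact ⟨hu, a1, fun h => a1 ((b1.1 x1).2 h)⟩
      · exact ⟨ov, fun h => a1 (a2.symm.trans h), fun h => a1 (a2.symm.trans ((b2.1 x2).2 h))⟩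
      · exact ⟨ow, fun h => a1 (a3.1 h), fun h => a1 (a3.1 ((b3.1 x3).2 h))⟩
    refine lin.sixteen (kb p) _ U (rho E C) (two_ne h2) finrank7 u v hu ov hne.symm hc fun a ha => ?_
    obtain ⟨h1, h3, h4⟩ := hall a ha
    have h5 := dd_inv l7 h2 (sa h1) (na h1)
    have h6 := dd_inv l7 h2 (sb h1) (nb h1)
    rw [ev_a, ev_b]
    refine ⟨by omega, by omega, fun b hb => ?_⟩
    obtain ⟨h7, -, h8⟩ := hall b hb
    rw [ev_rho, dd_ab l7 E C h2 h1 h7]
    exact iff_of_false h3 h8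

theorem fx_tau (E : Frame tE7 p d g0 L) (C : Core τ α β R R') :
    fx (rho E C) {g | g.1 = g.2} = Fx p (E.ι '' Set.range τ) := by
  ext m
  rw [mem_fx, DS.Nt.mem_Fx]
  constructor
  · rintro h _ ⟨_, ⟨u, rfl⟩, rfl⟩
    rw [C.eq]
    exact h (u, u) rfl
  · rintro h ⟨u, v⟩ (rfl : u = v)
    rw [rho_apply, ← C.eq]
    exact h _ ⟨_, ⟨u, rfl⟩, rfl⟩

theorem fx_alpha (E : Frame tE7 p d g0 L) (C : Core τ α β R R') :
    fx (rho E C) {g | g.2 = 1} = Fx p (E.ι '' Set.range α) := by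
  ext m
  rw [mem_fx, DS.Nt.mem_Fx]
  constructor
  · rintro h _ ⟨_, ⟨u, rfl⟩, rfl⟩
    have h1 := h (u, 1) rfl
    rwa [rho_apply, map_one, mul_one] at h1
  · rintro h ⟨u, v⟩ (rfl : v = 1)
    rw [rho_apply, map_one, mul_one]
    exact h _ ⟨_, ⟨u, rfl⟩, rfl⟩

/-- **No core in `E₇(q)`.** -/
theorem no_core7 (one : BoxOne) (l7 : BoxL7) (grp : BoxGrp) (lin : BoxLin) (nt : BoxNT) (ext : BoxExt) (st : BoxSt)
    (hd : d ∣ 2) (E : Frame tE7 p d (sg 7 1) L) (C : Core τ α β R R') (h2 : p ≠ 2) (hq : 5 ≤ E.q)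
    (h3 : p = 3 → 7 ≤ E.q)
    (hnt : p ≠ 3 → p ∣ Nat.card U ∨ (p ≠ 5 ∧ ∃ u v : U, orderOf u = 5 ∧ v * u * v⁻¹ = u⁻¹)) : False := by
  obtain ⟨θ, ψ, α', β', Q, Q', hψ, C', hθ⟩ := exists_coreA C
  obtain ⟨e1, e2, e3⟩ := ext p d hd L E θ
  have hθ' : ∀ u, θ (τ (ψ u)) = α u := hθ
  have ea : ∀ u, dd p (E.ι (α u)) = dd p (E.ι (τ (ψ u))) := fun u => by rw [← hθ', e1]
  have oψ : ∀ u, orderOf (ψ u) = orderOf u := orderOf_injective ψ hψ
  have nT : ∀ {u : U}, orderOf u = 2 → dd p (E.ι (τ u)) ≠ 69 := fun hu => no_rho one l7 grp lin E C h2 hq hu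
  have nA : ∀ {u : U}, orderOf u = 2 → dd p (E.ι (α u)) ≠ 69 := fun {u} hu => by
    rw [ea]
    exact nT ((oψ u).trans hu)
  have hB : ∀ {u : U}, orderOf u = 2 → dd p (E.ι (β u)) = 69 := fun {u} hu => by
    by_contra h
    have h1 := (dd_ab l7 E C h2 hu hu).2 (iff_of_false (nA hu) h)
    rw [← C.eq] at h1
    exact nT hu h1
  have st' : ∀ {v : U}, orderOf v = 2 → E.ι (τ v) ^ 2 = 1 := fun hv => map_sq _ (map_sq _ (sq_of hv))
  have sa : ∀ {v : U}, orderOf v = 2 → E.ι (α v) ^ 2 = 1 := fun hv => map_sq _ (map_sq _ (sq_of hv))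
  have sb : ∀ {v : U}, orderOf v = 2 → E.ι (β v) ^ 2 = 1 := fun hv => map_sq _ (map_sq _ (sq_of hv))
  have nt' : ∀ {v : U}, v ≠ 1 → E.ι (τ v) ≠ 1 := fun hv => map_ne E.inj (map_ne C.pair.inj hv)
  have cab : ∀ u v : U, E.ι (α u) * E.ι (β v) = E.ι (β v) * E.ι (α u) := fun u v => map_comm _ (C.ab u v)
  have vT : ∀ u : U, orderOf u = 2 → dd p (E.ι (τ u)) = 63 ∨ dd p (E.ι (τ u)) = 79 := fun u hu => by
    have h4 := dd_inv l7 h2 (st' hu) (nt' (ne_of hu))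
    have h5 := nT hu
    omega
  obtain ⟨u, hu, hf⟩ := grp.par U ψ hψ (grp.two U C.simple C.noncomm) (fun u => dd p (E.ι (τ u))) 63 79 vT
  rw [← ea] at hf
  -- `α U` acts faithfully on the root `SL₂` of `β u`
  obtain ⟨g, φ, hφ⟩ := exists_chiY' h2 (sb hu)
  have h62 : nk tE7 φ = 62 := by
    have h4 := dd_conj_chi h2 hφ
    have h5 := hB hu
    omega
  obtain ⟨c, hc, -⟩ := l7.l3 φ h62
  obtain ⟨hcl, hp5, x₁, x₂, t, T, hy⟩ := grp.pgl p h2 U C.simple C.noncomm _ (sl p hc.1.1)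
    ((MulAut.conj g).toMonoidHom.comp (E.ι.comp α)) (sl_ck hc.1.1)
    (fun w => inn_rho h2 hφ h62 hc (DS.Nt.conj_comm (cab w u))) ⟨u, fun h => by
      have h4 := (oy_out l7 h2 (sb hu) (sa hu) (map_ne E.inj (map_ne C.pair'.inj (ne_of hu))) (hB hu) (nA hu)
        (cab u u).symm).1 ((oy_iff_cz l7 h2 hφ h62 hc (sa hu) (cab u u).symm).2 h)
      rw [← map_mul, ← C.eq] at h4
      exact h4 hf.symm⟩
  have cj : ∀ (f : U →* L) {a b : U}, IsConj a b → dd p (E.ι (f a)) = dd p (E.ι (f b)) := by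
    intro f a b h
    obtain ⟨z, rfl⟩ := isConj_iff.1 h
    rw [map_conj' f, dd_conjL]
  have f1 : ∀ {w : U}, orderOf w = 2 → dd p (E.ι (τ w)) = dd p (E.ι (τ x₁)) := fun hw => cj τ (hcl _ _ hw T.o1)
  have f2 : ∀ {w : U}, orderOf w = 2 → dd p (E.ι (α w)) = dd p (E.ι (τ x₁)) := fun {w} hw => by
    rw [ea]
    exact f1 ((oψ w).trans hw)
  by_cases hp3 : p = 3
  · rcases vT x₁ T.o1 with h4 | h4
    · have k3 : (3 : kb p) = 0 := by
        have h5 : ((3 : ℕ) : kb p) = 0 := (CharP.cast_eq_zero_iff (kb p) p 3).2 ⟨1, by omega⟩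
        exact_mod_cast h5
      have T' := T.map hψ
      have j1 := (lin.jor (kb p) _ U (rho E C) k3 finrank7 _ _ _ T (by rw [ev_a, f2 T.o1, h4]) (by rw [ev_t, h4])
        (by rw [ev_b, hB T.o1])).2
      have j2 := (lin.jor (kb p) _ U (rho E C) k3 finrank7 _ _ _ T' (by rw [ev_a, f2 T'.o1, h4])
        (by rw [ev_t, f1 T'.o1, h4]) (by rw [ev_b, hB T'.o1])).1
      rw [rho_apply, map_one, mul_one] at j1
      rw [rho_apply, ← C.eq, ← e2, hθ'] at j2
      omega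
    · have o2 : orderOf x₂ = 2 := by rw [← T.c1, ord_conj, T.o1]
      have o3 := ord_mul T.o1 o2 T.ne T.comm
      have h5 := (dd_mul l7 h2 (st p d hd L E U τ α β R R' C h2 (h3 hp3) x₁ x₂ T.o1 o2 T.comm h4) (st' T.o1) (st' o2)
        (nt' (ne_of T.o1)) (nt' (ne_of o2)) (by rw [← map_mul, ← map_mul]; exact nt' (ne_of o3))).2
        (iff_of_false (nT T.o1) (nT o2))
      rw [← map_mul, ← map_mul] at h5
      exact nT o3 h5
  · obtain ⟨⟨y, oy, hyt⟩, hc3⟩ := hy hp3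
    have t3 : t ^ 3 = 1 := by rw [← T.o3, pow_orderOf_eq_one]
    have t1 : t ≠ 1 := fun e => by
      have h4 := T.o3
      rw [e, orderOf_one] at h4
      omega
    have c3 : ∀ f : U →* L, E.ι (f t) ^ 3 = 1 := fun f => by rw [← map_pow, ← map_pow, t3, map_one, map_one]
    have h4 := lin.num (kb p) _ U (rho E C) (two_ne h2) (DS.Nt.cast_ne_zero (r := 3) Nat.prime_three (Ne.symm hp3))
      finrank7 x₁ x₂ t y T oy hyt (hcl _ _ oy T.o1) _ _ _ (by rw [ev_a, f2 T.o1]) (ev_t E C x₁)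
      (by rw [ev_b, hB T.o1]) (by rw [ev_a, ea, cj τ (hc3 _ ((oψ t).trans T.o3))]) (ev_t E C t) (ev_b E C t)
      (vT x₁ T.o1) (dd_three l7 hp3 (c3 τ) (nt' t1)) (dd_three l7 hp3 (c3 β) (map_ne E.inj (map_ne C.binj t1)))
      (fun k1 k2 => by
        rw [ev_rho, map_mul]
        exact dd_six l7 h2 hp3 (sa T.o1) (c3 β) (cab _ _) (by rw [f2 T.o1, k1]) k2)
    have p5 : 5 ≤ p := (Fact.out : p.Prime).five_le_of_ne_two_of_ne_three h2 hp3
    have ob : ∀ w : U, orderOf (E.ι (β w)) = orderOf w := fun w => by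
      rw [orderOf_injective _ E.inj, orderOf_injective _ C.binj]
    have h5 : ∃ (w v : U) (m : chevE7.Idx → kb p), (∀ c, c * E.ι (β w) = E.ι (β w) * c → ad chevE7 p c m = m) ∧
        ad chevE7 p (E.ι (β v)) m ≠ m := by
      rcases hnt hp3 with h | ⟨h, w, v, hw, hv⟩
      · obtain ⟨w, v, k, hw, hv, hk⟩ := hp5 p5 h
        exact ⟨w, v, nt.np p p5 _ _ k ((ob w).trans hw) (by rw [← map_conj', ← map_conj', hv, map_pow, map_pow]) hk⟩
      · have p7 : 7 ≤ p := by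
          rcases (show p = 6 ∨ 7 ≤ p by omega) with h6 | h6
          · exact absurd (h6 ▸ (Fact.out : p.Prime)) (by decide)
          · exact h6
        exact ⟨w, v, nt.n5 p p7 _ _ ((ob w).trans hw) (by rw [← map_conj', ← map_conj', hv, map_inv, map_inv])⟩
    obtain ⟨w, v, m, hm, hm'⟩ := h5
    have h6 := lin.three (kb p) _ U (rho E C) (two_ne h2) C.simple x₁ x₂ t T ⟨m, by
      rw [fx_alpha]
      rintro _ ⟨_, ⟨z, rfl⟩, rfl⟩
      exact hm _ (cab z w), v, by rw [rho_apply, map_one, one_mul]; exact hm'⟩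
    have h7 : Set.range α = θ '' Set.range τ := by
      ext x
      constructor
      · rintro ⟨z, rfl⟩
        exact ⟨_, ⟨_, rfl⟩, hθ' z⟩
      · rintro ⟨_, ⟨z, rfl⟩, rfl⟩
        obtain ⟨z, rfl⟩ := Finite.surjective_of_injective hψ z
        exact ⟨z, (hθ' z).symm⟩
    rw [fx_alpha, h7, e3] at h6
    rw [fx_tau] at h4
    exact absurd (h6.trans h4) (by norm_num)

end Cfsg.Agent.Cam.Odd
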