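import Cfsg.Agent.Cam.Odd.Iface
import Cfsg.Agent.Cam.Ex.FExt

/-!
# S3689, exceptional rows: `BoxExt` (helper53)
-/

set_option autoImplicit false
set_option linter.unusedVariables false

namespace Cfsg.Agent.Cam.Odd.Ext

open CoxeterSystem Cfsg Cfsg.Lie Subgroup Module
open Cfsg.Agent.Nodes.RGDChev Cfsg.Agent.Cam.Ex Cfsg.Agent.BpExc
open Cfsg.Agent.DS.Nt (dd ad Fx)

section lin

variable {K V : Type} [Field K] [AddCommGroup V] [Module K V] {σ : K → K} (hσ : Function.Bijective σ) {j : V ≃+ V}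
  (hj : ∀ (c : K) (v : V), j (c • v) = σ c • j v)

include hσ hj

theorem finrank_eq {A B : Submodule K V} (h : ∀ v, j v ∈ B ↔ v ∈ A) : finrank K B = finrank K A := by
  let e : A ≃+ B :=
    { toFun := fun v => ⟨j v.1, (h _).2 v.2⟩
      invFun := fun v => ⟨j.symm v.1, (h _).1 (by rw [AddEquiv.apply_symm_apply]; exact v.2)⟩
      left_inv := fun v => Subtype.ext (j.symm_apply_apply _)
      right_inv := fun v => Subtype.ext (j.apply_symm_apply _)
      map_add' := fun v w => Subtype.ext (j.map_add _ _) }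
  unfold finrank
  rw [rank_eq_of_equiv_equiv σ e hσ fun c v => Subtype.ext (hj c v.1)]

theorem rk2_eq {f g : Module.End K V} (h : ∀ v, g (j v) = j (f v)) : rk2 g = rk2 f := by
  have h1 : ∀ v, ((g - 1) ^ 2 : Module.End K V) (j v) = j (((f - 1) ^ 2 : Module.End K V) v) := fun v => by
    simp only [pow_two, Module.End.mul_apply, LinearMap.sub_apply, Module.End.one_apply, map_sub, h]
  refine finrank_eq hσ hj fun v => ⟨?_, ?_⟩
  · rintro ⟨w, hw⟩
    refine ⟨j.symm w, j.injective ?_⟩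
    rw [← h1, AddEquiv.apply_symm_apply, hw]
  · rintro ⟨w, rfl⟩
    exact ⟨j w, h1 w⟩

end lin

variable {D : ChevalleyDatum} {p : ℕ} [Fact p.Prime]

/-- the semilinear map attached to `y φ_j` -/
theorem exists_semi (y : YY D p) (m : ℕ) : ∃ (σ : kb p → kb p) (j : (D.Idx → kb p) ≃+ (D.Idx → kb p)),
    Function.Bijective σ ∧ (∀ c v, j (c • v) = σ c • j v) ∧
    ∀ x v, ad D p (y * FamUntw.phi D (kb p) p m x * y⁻¹) (j v) = j (ad D p x v) := by
  let σ := FamField.frb (kb p) p m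
  let j₀ : (D.Idx → kb p) ≃+ (D.Idx → kb p) := AddEquiv.piCongrRight fun _ => σ.toAddEquiv
  have h0 : ∀ v i, j₀ v i = σ (v i) := fun _ _ => rfl
  refine ⟨σ, j₀.trans (DS.Nt.adE y).toAddEquiv, σ.bijective, fun c v => ?_, fun x v => ?_⟩
  · show ad D p y (j₀ (c • v)) = σ c • ad D p y (j₀ v)
    rw [← map_smul]
    congr 1
    funext i
    rw [h0, Pi.smul_apply, Pi.smul_apply, h0, smul_eq_mul, smul_eq_mul, map_mul]
  · show ad D p _ (ad D p y (j₀ v)) = ad D p y (j₀ (ad D p x v))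
    rw [← DS.Nt.ad_mul, inv_mul_cancel_right, DS.Nt.ad_mul]
    congr 1
    funext i
    rw [h0, DS.Nt.ad_apply, DS.Nt.ad_apply, FamUntw.phi_coe]
    simp only [Matrix.mulVec, dotProduct, map_sum, map_mul, Matrix.map_apply, h0]
    exact Finset.sum_congr rfl fun k _ => congrArg (· * _) (FamField.frb_apply _ _ _ _).symm

theorem of_ext {L : Type} [Group L] {ι : L →* YY D p} {θ : MulAut L} {y : YY D p} {m : ℕ}
    (h : ∀ x, ι (θ x) = y * FamUntw.phi D (kb p) p m (ι x) * y⁻¹) :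
    (∀ x : L, dd p (ι (θ x)) = dd p (ι x)) ∧ (∀ x : L, rk2 (ad D p (ι (θ x))) = rk2 (ad D p (ι x))) ∧
    ∀ S : Set L, finrank (kb p) (Fx p (ι '' (θ '' S))) = finrank (kb p) (Fx p (ι '' S)) := by
  obtain ⟨σ, j, hσ, hj, h1⟩ := exists_semi y m
  have h2 : ∀ x v, ad D p (ι (θ x)) (j v) = j (ad D p (ι x) v) := fun x v => by rw [h, h1]
  refine ⟨fun x => ?_, fun x => rk2_eq hσ hj (h2 x), fun S => ?_⟩
  · refine finrank_eq hσ hj fun v => ?_
    rw [Module.End.mem_eigenspace_iff, Module.End.mem_eigenspace_iff, one_smul, one_smul, h2, j.injective.eq_iff]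
  · refine finrank_eq hσ hj fun v => ?_
    simp only [DS.Nt.mem_Fx, Set.forall_mem_image, h2, j.injective.eq_iff]

/-- **`BoxExt`.** -/
theorem boxExt : BoxExt := by
  intro p _ d hd L _ _ E θ
  obtain ⟨y, m, h⟩ := FExt.exists_ext E H129.TorusChar.invC_E7 FamInst.inv_E7 (by norm_num) (Or.inr Nat.prime_two)
    (fun F _ => S1054.result _ (by simp)) (fun _ => H79.DiagSymm.eq_one_E7) θ
  exact of_ext h

end Cfsg.Agent.Cam.Odd.Ext
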