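import Cfsg.Agent.Cam.Odd.K3
import Cfsg.Agent.H944.TorAnyChev

/-!
# `E₇`, odd characteristic: involutions of the algebraic group (helper81)

`OY x y` : the involution `y` centralizes the root `SL₂` of the root involution `x`.
-/

set_option autoImplicit false
set_option linter.unusedVariables false
set_option linter.unusedSectionVars false

namespace Cfsg.Agent.Cam.Odd

open CoxeterSystem Cfsg Cfsg.Lie Subgroup Module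
open Cfsg.Agent.Tits.Roots Cfsg.Agent.Nodes.BNOf Cfsg.Agent.Nodes.RGDChev Cfsg.Agent.KFacts.RgdChevCoord
open Cfsg.Agent.ChevalleyStructure.CoxeterGeom Cfsg.Agent.ChevalleyStructure.CoxeterGeomTypes
open Cfsg.Agent.Cam.Spor Cfsg.Agent.Cam.Ex Cfsg.Agent.Cam.Ex.S2 Cfsg.Agent.TwoFusion.PerfCore
open Cfsg.Agent.DS.Nt (dd ad Fx Tp RP DZ)
open scoped commutatorElement

variable {p : ℕ} [Fact p.Prime]

theorem typ7 : DS.Ex.Typ chevE7 := Or.inr (Or.inr (Or.inl rfl))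

theorem z2_add : ∀ a b : ZMod 2, a + b = 0 ↔ (a = 0 ↔ b = 0) := by decide

theorem z2_one : ∀ a : ZMod 2, a ≠ 0 → a = 1 := by decide

theorem eps_add (φ ψ : Lat 7 →+ ZMod 2) : eps (φ + ψ) = eps φ + eps ψ := rfl

theorem sq_conj {G : Type*} [Group G] {x : G} (g : G) (h : x ^ 2 = 1) : (g * x * g⁻¹) ^ 2 = 1 := by
  rw [conj_pow, h, mul_one, mul_inv_cancel]

theorem conj_ne_one {G : Type*} [Group G] {x : G} (g : G) (h : x ≠ 1) : g * x * g⁻¹ ≠ 1 := fun e =>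
  h (by rwa [mul_inv_eq_one, mul_eq_left] at e)

theorem conj_inj' {G : Type*} [Group G] {g x y : G} (h : g * x * g⁻¹ = g * y * g⁻¹) : x = y :=
  mul_left_cancel (mul_right_cancel h)

theorem exists_chiY (h2 : p ≠ 2) {x : YY chevE7 p} (hx : x ∈ TT chevE7 (kb p)) (hx2 : x ^ 2 = 1) :
    ∃ φ : Lat 7 →+ ZMod 2, Chi tE7 (-1) x φ := chi_ex tE7 (prim2 h2) two_pos hx hx2

theorem exists_chiY' (h2 : p ≠ 2) {x : YY chevE7 p} (hx2 : x ^ 2 = 1) :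
    ∃ (g : YY chevE7 p) (φ : Lat 7 →+ ZMod 2), Chi tE7 (-1) (g * x * g⁻¹) φ := by
  obtain ⟨g, hg⟩ := DS.Nt.exists_conj_T tE7 (x := x) (n := 1) Nat.prime_two h2.symm (by rw [pow_one, hx2])
  obtain ⟨φ, h⟩ := exists_chiY h2 hg (sq_conj g hx2)
  exact ⟨g, φ, h⟩

theorem dd_conj_chi (h2 : p ≠ 2) {g x : YY chevE7 p} {φ : Lat 7 →+ ZMod 2} (h : Chi tE7 (-1) (g * x * g⁻¹) φ) :
    dd p x = 7 + nk tE7 φ := by
  rw [← dd_chi (prim2 h2) h, DS.Nt.dd_conj]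

/-- the three classes of involutions -/
theorem dd_inv (l7 : BoxL7) (h2 : p ≠ 2) {x : YY chevE7 p} (hx2 : x ^ 2 = 1) (hx : x ≠ 1) :
    dd p x = 63 ∨ dd p x = 69 ∨ dd p x = 79 := by
  obtain ⟨g, φ, h⟩ := exists_chiY' h2 hx2
  have h1 := l7.l1 φ (h.ne_zero (prim2 h2) boxChi (conj_ne_one g hx))
  rw [dd_conj_chi h2 h]
  omega

theorem eps_iff (l7 : BoxL7) (h2 : p ≠ 2) {g x : YY chevE7 p} {φ : Lat 7 →+ ZMod 2}
    (h : Chi tE7 (-1) (g * x * g⁻¹) φ) (hx : x ≠ 1) : eps φ = 0 ↔ dd p x = 69 := by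
  rw [l7.l2 φ (h.ne_zero (prim2 h2) boxChi (conj_ne_one g hx)), dd_conj_chi h2 h]
  omega

theorem chi_conj_mul (h2 : p ≠ 2) {g x y : YY chevE7 p} {φ ψ : Lat 7 →+ ZMod 2} (h : Chi tE7 (-1) (g * x * g⁻¹) φ)
    (h' : Chi tE7 (-1) (g * y * g⁻¹) ψ) : Chi tE7 (-1) (g * (x * y) * g⁻¹) (φ + ψ) := by
  rw [show g * (x * y) * g⁻¹ = g * x * g⁻¹ * (g * y * g⁻¹) by group]
  exact h.mul (prim2 h2) h'

theorem Tp.chi (h2 : p ≠ 2) {x y : YY chevE7 p} (h : Tp p x y) (hx : x ^ 2 = 1) (hy : y ^ 2 = 1) :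
    ∃ (g : YY chevE7 p) (φ ψ : Lat 7 →+ ZMod 2), Chi tE7 (-1) (g * x * g⁻¹) φ ∧ Chi tE7 (-1) (g * y * g⁻¹) ψ := by
  obtain ⟨g, h1, h3⟩ := h
  obtain ⟨φ, hφ⟩ := exists_chiY h2 h1 (sq_conj g hx)
  obtain ⟨ψ, hψ⟩ := exists_chiY h2 h3 (sq_conj g hy)
  exact ⟨g, φ, ψ, hφ, hψ⟩

/-- `eps` is additive on toral pairs -/
theorem dd_mul (l7 : BoxL7) (h2 : p ≠ 2) {x y : YY chevE7 p} (h : Tp p x y) (hx2 : x ^ 2 = 1) (hy2 : y ^ 2 = 1)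
    (hx : x ≠ 1) (hy : y ≠ 1) (hxy : x * y ≠ 1) : dd p (x * y) = 69 ↔ (dd p x = 69 ↔ dd p y = 69) := by
  obtain ⟨g, φ, ψ, hφ, hψ⟩ := Tp.chi h2 h hx2 hy2
  rw [← eps_iff l7 h2 hφ hx, ← eps_iff l7 h2 hψ hy, ← eps_iff l7 h2 (chi_conj_mul h2 hφ hψ) hxy, eps_add, z2_add]

/-- the centralizer of a root involution is connected -/
theorem mem_DZ_rho (h2 : p ≠ 2) {x : YY chevE7 p} (hx : x ∈ TT chevE7 (kb p)) (hx2 : x ^ 2 = 1) (h69 : dd p x = 69)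
    {c : YY chevE7 p} (hc : c * x = x * c) : c ∈ DZ tE7 p {x} := by
  rcases (DS.Nt.DZ_one tE7 typ7 Nat.prime_two h2.symm hx hx2).2 with h | ⟨-, h, -⟩ | ⟨-, -, h⟩
  · exact h c hc
  · omega
  · omega

theorem tp_rho (h2 : p ≠ 2) {x y : YY chevE7 p} (hx2 : x ^ 2 = 1) (h69 : dd p x = 69) (hy2 : y ^ 2 = 1)
    (hc : x * y = y * x) : Tp p x y := by
  obtain ⟨g, φ, h⟩ := exists_chiY' h2 hx2
  exact DS.Nt.Tp.of_conj (c := g) (DS.Nt.tp_of_mem_DZ Nat.prime_two h2.symm h.1 ⟨1, sq_conj g hx2⟩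
    (mem_DZ_rho h2 h.1 (sq_conj g hx2) (by rw [DS.Nt.dd_conj, h69]) (DS.Nt.conj_comm hc.symm)) ⟨1, sq_conj g hy2⟩)

/-- the centralizer of a root involution acts on its `SL₂` by inner automorphisms -/
theorem inn_rho (h2 : p ≠ 2) {x : YY chevE7 p} {φ : Lat 7 →+ ZMod 2} (h : Chi tE7 (-1) x φ) (h62 : nk tE7 φ = 62)
    {c : Lat 7} (hc : A1c tE7 (Psi tE7 φ) c) {n : YY chevE7 p} (hn : n * x = x * n) :
    ∃ j, IA (sl p hc.1.1) n j := by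
  obtain ⟨m, hm, t, ht, rfl⟩ := DS.Nt.mem_DZ.1
    (mem_DZ_rho h2 h.1 (h.pow_eq_one (prim2 h2)) (by rw [dd_chi (prim2 h2) h, h62]) hn)
  rw [← MS_psiS, h.psiS (prim2 h2)] at hm
  obtain ⟨j, hj⟩ := (spl_psi hc.1.1 hc).inn _ hm
  obtain ⟨a, -, -, ha⟩ := inn_T hc.1.1 ht
  exact ⟨_, hj.mul ha⟩

theorem cz_conj {k Y : Type*} [Field k] [Group Y] {ψ : SL k →* Y} {n y : Y} {j : SL k} (hn : IA ψ n j) (hy : Cz ψ y) :
    Cz ψ (n * y * n⁻¹) := fun g => by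
  have h1 : n⁻¹ * ψ g * n = ψ (j⁻¹ * g * j) := by
    have h2 := hn.inv g
    rwa [inv_inv, inv_inv] at h2
  calc n * y * n⁻¹ * ψ g = n * (y * (n⁻¹ * ψ g * n)) * n⁻¹ := by group
    _ = n * ((n⁻¹ * ψ g * n) * y) * n⁻¹ := by rw [h1, hy]
    _ = _ := by group

theorem cz_conj_iff {k Y : Type*} [Field k] [Group Y] {ψ : SL k →* Y} {n y : Y} {j : SL k} (hn : IA ψ n j) :
    Cz ψ (n * y * n⁻¹) ↔ Cz ψ y :=
  ⟨fun h => by simpa [mul_assoc] using cz_conj hn.inv h, cz_conj hn⟩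

/-- `Ort` is invariant under the Weyl group -/
theorem Ort.wa {φ ψ φ' ψ' : Lat 7 →+ ZMod 2} {w : CoxeterMatrix.E₇.Group} (h1 : ∀ a, φ' (wa tE7 w a) = φ a)
    (h3 : ∀ a, ψ' (wa tE7 w a) = ψ a) (h : Ort φ ψ) : Ort φ' ψ' := fun c hc => by
  rw [← wa_wa_inv (hp := tE7) w c, h3]
  refine h _ ⟨⟨hc.1.1.wa' _, by rw [← h1, wa_wa_inv]; exact hc.1.2⟩, fun a ha => ?_⟩
  rcases hc.2 (Ex.wa tE7 w a) ⟨ha.1.wa' _, (h1 a).trans ha.2⟩ with e | e | e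
  · exact Or.inl (by rw [← e, wa_inv_wa])
  · exact Or.inr (Or.inl (by rw [← wa_neg, ← e, wa_inv_wa]))
  · exact Or.inr (Or.inr (by rw [← cp_wa w _ (hc.1.1.wa' _), wa_wa_inv, e]))

theorem ort_iff (l7 : BoxL7) {φ ψ : Lat 7 →+ ZMod 2} (h62 : nk tE7 φ = 62) {c : Lat 7} (hc : A1c tE7 (Psi tE7 φ) c) :
    Ort φ ψ ↔ ψ c = 0 := by
  refine ⟨fun h => h c hc, fun h c' hc' => ?_⟩
  obtain ⟨c0, -, h0, -⟩ := l7.l3 φ h62
  rcases h0 c hc with rfl | rfl <;> rcases h0 c' hc' with rfl | rfl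
  · exact h
  · rw [map_neg, h, neg_zero]
  · rwa [map_neg, neg_eq_zero] at h
  · exact h

/-- `y` centralizes the root `SL₂` of `x` -/
def OY (x y : YY chevE7 p) : Prop := ∀ (g : YY chevE7 p) (φ ψ : Lat 7 →+ ZMod 2),
  Chi tE7 (-1) (g * x * g⁻¹) φ → Chi tE7 (-1) (g * y * g⁻¹) ψ → Ort φ ψ

theorem oy_of (h2 : p ≠ 2) {g x y : YY chevE7 p} {φ ψ : Lat 7 →+ ZMod 2} (hφ : Chi tE7 (-1) (g * x * g⁻¹) φ)
    (hψ : Chi tE7 (-1) (g * y * g⁻¹) ψ) (h : Ort φ ψ) : OY x y := fun g' φ' ψ' hφ' hψ' => by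
  obtain ⟨w, hw⟩ := exists_weyl (hp := tE7) boxChi (g' * g⁻¹)
  have e : ∀ z : YY chevE7 p, g' * g⁻¹ * (g * z * g⁻¹) * (g' * g⁻¹)⁻¹ = g' * z * g'⁻¹ := fun z => by group
  have h1 := hw _ hφ.1 (by rw [e]; exact hφ'.1)
  have h3 := hw _ hψ.1 (by rw [e]; exact hψ'.1)
  rw [e] at h1 h3
  exact h.wa (hφ.of_conj (prim2 h2) hφ' h1) (hψ.of_conj (prim2 h2) hψ' h3)

theorem OY.conj {x y : YY chevE7 p} (h : OY x y) (n : YY chevE7 p) : OY (n * x * n⁻¹) (n * y * n⁻¹) :=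
  fun g φ ψ hφ hψ => h (g * n) φ ψ (by convert hφ using 1; group) (by convert hψ using 1; group)

theorem oy_iff_cz (l7 : BoxL7) (h2 : p ≠ 2) {g x y : YY chevE7 p} {φ : Lat 7 →+ ZMod 2}
    (hφ : Chi tE7 (-1) (g * x * g⁻¹) φ) (h62 : nk tE7 φ = 62) {c : Lat 7} (hc : A1c tE7 (Psi tE7 φ) c)
    (hy : y ^ 2 = 1) (hxy : x * y = y * x) : OY x y ↔ Cz (sl p hc.1.1) (g * y * g⁻¹) := by
  have hx2 : x ^ 2 = 1 := by
    have h1 := hφ.pow_eq_one (prim2 h2)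
    rwa [conj_pow, mul_inv_eq_one, mul_eq_left] at h1
  obtain ⟨g', h1, h3⟩ := DS.Nt.exists_pair tE7 hφ.1 (tp_rho h2 hx2 (by rw [dd_conj_chi h2 hφ, h62]) hy hxy)
  obtain ⟨ψ, hψ⟩ := exists_chiY h2 h3 (sq_conj g' hy)
  obtain ⟨j, hj⟩ := inn_rho h2 hφ h62 hc (n := g' * g⁻¹) (by
    calc g' * g⁻¹ * (g * x * g⁻¹) = g' * x * g'⁻¹ * (g' * g⁻¹) := by group
      _ = _ := by rw [h1])
  have hφ' : Chi tE7 (-1) (g' * x * g'⁻¹) φ := by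
    rw [h1]
    exact hφ
  rw [← cz_conj_iff hj, show g' * g⁻¹ * (g * y * g⁻¹) * (g' * g⁻¹)⁻¹ = g' * y * g'⁻¹ by group, cz_chi h2 hψ,
    ← ort_iff l7 h62 hc]
  exact ⟨fun h => h g' φ ψ hφ' hψ, oy_of h2 hφ' hψ⟩

/-- a simple group centralizing `x` acts trivially on the root `SL₂` as soon as one non-trivial element does -/
theorem cz_all {k Y U : Type*} [Field k] [Group Y] [Group U] (hs : IsSimpleGroup U) {ψ : SL k →* Y} {b : U →* Y}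
    (hi : ∀ u, ∃ j, IA ψ (b u) j) {v : U} (hv : v ≠ 1) (h : Cz ψ (b v)) (u : U) : Cz ψ (b u) := by
  let N : Subgroup U :=
    { carrier := {u | Cz ψ (b u)}
      one_mem' := fun g => by rw [map_one, one_mul, mul_one]
      mul_mem' := fun {a a'} ha ha' g => by
        rw [map_mul, mul_assoc, ha' g, ← mul_assoc, ha g, mul_assoc]
      inv_mem' := fun {a} ha g => by
        rw [map_inv, inv_mul_eq_iff_eq_mul, ← mul_assoc, ha g, mul_inv_cancel_right] }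
  have hN : N.Normal := ⟨fun a ha g => by
    obtain ⟨j, hj⟩ := hi g
    show Cz ψ (b (g * a * g⁻¹))
    rw [map_mul, map_mul, map_inv]
    exact cz_conj hj ha⟩
  rcases hs.eq_bot_or_eq_top_of_normal N hN with h1 | h1
  · exact absurd ((eq_bot_iff.1 h1) (show v ∈ N from h)) hv
  · exact (eq_top_iff.1 h1) (mem_top u)

theorem oy_all (l7 : BoxL7) (h2 : p ≠ 2) {U : Type} [Group U] (hs : IsSimpleGroup U) {b : U →* YY chevE7 p}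
    {x : YY chevE7 p} (hx2 : x ^ 2 = 1) (h69 : dd p x = 69) (hc : ∀ u, x * b u = b u * x) {v : U} (hv : v ≠ 1)
    (hv2 : v ^ 2 = 1) (h : OY x (b v)) {u : U} (hu : u ^ 2 = 1) : OY x (b u) := by
  obtain ⟨g, φ, hφ⟩ := exists_chiY' h2 hx2
  have h62 : nk tE7 φ = 62 := by
    have := dd_conj_chi h2 hφ
    omega
  obtain ⟨c, hc1, -⟩ := l7.l3 φ h62
  rw [oy_iff_cz l7 h2 hφ h62 hc1 (by rw [← map_pow, hv2, map_one]) (hc v)] at h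
  rw [oy_iff_cz l7 h2 hφ h62 hc1 (by rw [← map_pow, hu, map_one]) (hc u)]
  exact cz_all hs (b := (MulAut.conj g).toMonoidHom.comp b)
    (fun u => inn_rho h2 hφ h62 hc1 (DS.Nt.conj_comm (hc u).symm)) hv h u

/-- additivity on a toral triple -/
theorem oy_mul (l7 : BoxL7) (h2 : p ≠ 2) {g x y z : YY chevE7 p} (hx : g * x * g⁻¹ ∈ TT chevE7 (kb p))
    (hy : g * y * g⁻¹ ∈ TT chevE7 (kb p)) (hz : g * z * g⁻¹ ∈ TT chevE7 (kb p)) (hx2 : x ^ 2 = 1) (hy2 : y ^ 2 = 1)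
    (hz2 : z ^ 2 = 1) (h69 : dd p x = 69) (h : OY x y ↔ OY x z) : OY x (y * z) := by
  obtain ⟨φ, hφ⟩ := exists_chiY h2 hx (sq_conj g hx2)
  obtain ⟨ψ, hψ⟩ := exists_chiY h2 hy (sq_conj g hy2)
  obtain ⟨χ, hχ⟩ := exists_chiY h2 hz (sq_conj g hz2)
  have h62 : nk tE7 φ = 62 := by
    have := dd_conj_chi h2 hφ
    omega
  obtain ⟨c, hc, -⟩ := l7.l3 φ h62
  refine oy_of h2 hφ (chi_conj_mul h2 hψ hχ) ((ort_iff l7 h62 hc).2 ?_)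
  rw [AddMonoidHom.add_apply, z2_add, ← ort_iff l7 h62 hc, ← ort_iff l7 h62 hc]
  exact ⟨fun h1 => h.1 (oy_of h2 hφ hψ h1) g φ χ hφ hχ, fun h1 => h.2 (oy_of h2 hφ hχ h1) g φ ψ hφ hψ⟩

/-- an outer involution centralizing the root `SL₂` changes its class -/
theorem oy_out (l7 : BoxL7) (h2 : p ≠ 2) {x y : YY chevE7 p} (hx2 : x ^ 2 = 1) (hy2 : y ^ 2 = 1) (hy : y ≠ 1)
    (h69 : dd p x = 69) (hy69 : dd p y ≠ 69) (hc : x * y = y * x) : OY x y ↔ dd p (y * x) ≠ dd p y := by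
  obtain ⟨g, φ, ψ, hφ, hψ⟩ := Tp.chi h2 (tp_rho h2 hx2 h69 hy2 hc) hx2 hy2
  have h62 : nk tE7 φ = 62 := by
    have := dd_conj_chi h2 hφ
    omega
  obtain ⟨c, hc1, -, -, h3⟩ := l7.l3 φ h62
  have h4 := h3 ψ (z2_one _ fun e => hy69 ((eps_iff l7 h2 hψ hy).1 e))
  rw [dd_conj_chi h2 (chi_conj_mul h2 hψ hφ), dd_conj_chi h2 hψ, Ne, add_right_inj, ← Ne, ← h4, ← ort_iff l7 h62 hc1]
  exact ⟨fun h => h g φ ψ hφ hψ, oy_of h2 hφ hψ⟩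

theorem chi_pow' {m : ℕ} [NeZero m] {ζ : kb p} (hζ : IsPrimitiveRoot ζ m) {t : YY chevE7 p} {φ : Lat 7 →+ ZMod m}
    (h : Chi tE7 ζ t φ) (n : ℕ) : Chi tE7 ζ (t ^ n) (n • φ) := by
  induction n with
  | zero =>
    rw [pow_zero, zero_smul]
    exact chi_one hζ
  | succ n ih =>
    rw [pow_succ, succ_nsmul]
    exact ih.mul hζ h

theorem psiS_three (x y z : YY chevE7 p) :
    PsiS tE7 {x, y, z} = PsiS tE7 {x} ∩ PsiS tE7 {y} ∩ PsiS tE7 {z} := by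
  ext a
  simp only [PsiS, Set.mem_ofPred_eq, Set.mem_inter_iff, Set.mem_insert_iff, Set.mem_singleton_iff,
    forall_eq_or_imp, forall_eq]
  exact ⟨fun h => ⟨⟨⟨h.1, h.2.1⟩, h.1, h.2.2.1⟩, h.1, h.2.2.2⟩, fun h => ⟨h.2.1, h.1.1.2, h.1.2.2, h.2.2⟩⟩

/-- **No orthogonal group of order `16` of root involutions.** -/
theorem four_rho (l7 : BoxL7) (h2 : p ≠ 2) {g a₁ a₂ b₁ b₂ : YY chevE7 p} (t1 : g * a₁ * g⁻¹ ∈ TT chevE7 (kb p))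
    (t2 : g * a₂ * g⁻¹ ∈ TT chevE7 (kb p)) (t3 : g * b₁ * g⁻¹ ∈ TT chevE7 (kb p)) (s1 : a₁ ^ 2 = 1) (s2 : a₂ ^ 2 = 1)
    (s3 : b₁ ^ 2 = 1) (s4 : b₂ ^ 2 = 1) (n4 : b₂ ≠ 1) (d1 : dd p a₁ = 69) (d2 : dd p a₂ = 69) (d3 : dd p b₁ = 69)
    (d4 : dd p b₂ = 69) (e1 : a₁ ≠ a₂) (e2 : b₁ ≠ a₁) (e3 : b₁ ≠ a₂) (e4 : b₁ ≠ a₁ * a₂) (c1 : b₂ * a₁ = a₁ * b₂)
    (c2 : b₂ * a₂ = a₂ * b₂) (c3 : b₂ * b₁ = b₁ * b₂) (o1 : OY a₁ a₂) (o2 : OY a₁ b₁) (o3 : OY a₂ b₁) (o4 : OY a₁ b₂)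
    (o5 : OY a₂ b₂) (o6 : OY (a₁ * b₁) (a₂ * b₂)) : ∃ i j k : ℕ, b₂ = a₁ ^ i * a₂ ^ j * b₁ ^ k := by
  have key : ∀ {g : YY chevE7 p} {φ₁ φ₂ φ₃ : Lat 7 →+ ZMod 2}, Chi tE7 (-1) (g * a₁ * g⁻¹) φ₁ →
      Chi tE7 (-1) (g * a₂ * g⁻¹) φ₂ → Chi tE7 (-1) (g * b₁ * g⁻¹) φ₃ →
      (∀ w, Fixs tE7 w φ₁ → Fixs tE7 w φ₂ → Fixs tE7 w φ₃ → w ∈ WW tE7 (Psi tE7 φ₁ ∩ Psi tE7 φ₂ ∩ Psi tE7 φ₃)) ∧
      ∀ φ₄ : Lat 7 →+ ZMod 2, eps φ₄ = 0 → Ort φ₁ φ₄ → Ort φ₂ φ₄ → Ort (φ₁ + φ₃) (φ₂ + φ₄) →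
        ∃ i j k : ℕ, φ₄ = i • φ₁ + j • φ₂ + k • φ₃ := by
    intro g φ₁ φ₂ φ₃ h1 h3 h4
    have hne : ∀ {x y : YY chevE7 p} {φ ψ : Lat 7 →+ ZMod 2}, Chi tE7 (-1) (g * x * g⁻¹) φ →
        Chi tE7 (-1) (g * y * g⁻¹) ψ → x ≠ y → φ ≠ ψ := by
      intro x y φ ψ hφ hψ hxy e
      subst e
      exact hxy (conj_inj' (Chi.eq_of (prim2 h2) boxChi hφ hψ))
    have f1 := dd_conj_chi h2 h1
    have f2 := dd_conj_chi h2 h3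
    have f3 := dd_conj_chi h2 h4
    exact l7.l4 φ₁ φ₂ φ₃ (by omega) (by omega) (by omega) (hne h1 h3 e1) (hne h4 h1 e2) (hne h4 h3 e3)
      (hne h4 (chi_conj_mul h2 h1 h3) e4) (o1 g _ _ h1 h3) (o2 g _ _ h1 h4) (o3 g _ _ h3 h4)
  obtain ⟨φ₁, h1⟩ := exists_chiY h2 t1 (sq_conj g s1)
  obtain ⟨φ₂, h3⟩ := exists_chiY h2 t2 (sq_conj g s2)
  obtain ⟨φ₃, h4⟩ := exists_chiY h2 t3 (sq_conj g s3)
  have hZ : ∀ t ∈ ({g * a₁ * g⁻¹, g * a₂ * g⁻¹, g * b₁ * g⁻¹} : Set (YY chevE7 p)),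
      t ∈ TT chevE7 (kb p) ∧ t ^ 2 = 1 := by
    rintro _ (rfl | rfl | rfl)
    exacts [⟨t1, sq_conj g s1⟩, ⟨t2, sq_conj g s2⟩, ⟨t3, sq_conj g s3⟩]
  have hD : g * b₂ * g⁻¹ ∈ DZ tE7 p {g * a₁ * g⁻¹, g * a₂ * g⁻¹, g * b₁ * g⁻¹} := by
    refine mem_DZ_of_conn (Set.toFinite _) (fun t ht => (hZ t ht).1) (fun w hw => ?_) ?_
    · have h5 := (key h1 h3 h4).1 w (h1.of_conj (prim2 h2) h1 fun a ha => hw a ha _ (Or.inl rfl))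
        (h3.of_conj (prim2 h2) h3 fun a ha => hw a ha _ (Or.inr (Or.inl rfl)))
        (h4.of_conj (prim2 h2) h4 fun a ha => hw a ha _ (Or.inr (Or.inr rfl)))
      rw [← h1.psiS (prim2 h2), ← h3.psiS (prim2 h2), ← h4.psiS (prim2 h2)] at h5
      rw [psiS_three]
      exact h5
    · rintro _ (rfl | rfl | rfl)
      exacts [DS.Nt.conj_comm c1, DS.Nt.conj_comm c2, DS.Nt.conj_comm c3]
  obtain ⟨g', h6, h7⟩ := tor_DZ h2 (Set.toFinite _) hZ hD (sq_conj g s4)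
  have e : ∀ z : YY chevE7 p, g' * (g * z * g⁻¹) * g'⁻¹ = g' * g * z * (g' * g)⁻¹ := fun z => by group
  obtain ⟨ψ₁, k1⟩ := exists_chiY h2 (e a₁ ▸ h6 _ (Or.inl rfl)) (sq_conj _ s1)
  obtain ⟨ψ₂, k2⟩ := exists_chiY h2 (e a₂ ▸ h6 _ (Or.inr (Or.inl rfl))) (sq_conj _ s2)
  obtain ⟨ψ₃, k3⟩ := exists_chiY h2 (e b₁ ▸ h6 _ (Or.inr (Or.inr rfl))) (sq_conj _ s3)
  obtain ⟨ψ₄, k4⟩ := exists_chiY h2 (e b₂ ▸ h7) (sq_conj _ s4)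
  obtain ⟨i, j, k, h8⟩ := (key k1 k2 k3).2 ψ₄ ((eps_iff l7 h2 k4 n4).2 d4) (o4 _ _ _ k1 k4) (o5 _ _ _ k2 k4)
    (o6 _ _ _ (chi_conj_mul h2 k1 k3) (chi_conj_mul h2 k2 k4))
  refine ⟨i, j, k, ?_⟩
  have h9 := ((chi_pow' (prim2 h2) k1 i).mul (prim2 h2) (chi_pow' (prim2 h2) k2 j)).mul (prim2 h2)
    (chi_pow' (prim2 h2) k3 k)
  rw [← h8] at h9
  have h10 := Chi.eq_of (prim2 h2) boxChi k4 h9
  rw [conj_pow, conj_pow, conj_pow, conj_mul, conj_mul] at h10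
  exact conj_inj' h10

/-- the classes of elements of order three -/
theorem dd_three (l7 : BoxL7) (h3 : p ≠ 3) {x : YY chevE7 p} (hx3 : x ^ 3 = 1) (hx : x ≠ 1) :
    dd p x = 43 ∨ dd p x = 49 ∨ dd p x = 67 ∨ dd p x = 79 := by
  obtain ⟨g, hg⟩ := DS.Nt.exists_conj_T tE7 (x := x) (n := 1) Nat.prime_three h3.symm (by rw [pow_one, hx3])
  obtain ⟨ζ, hζ⟩ := exists_zeta p (m := 3) ((Nat.coprime_primes Nat.prime_three Fact.out).2 h3.symm)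
  obtain ⟨φ, h⟩ := chi_ex tE7 hζ (by norm_num) hg (by rw [conj_pow, hx3, mul_one, mul_inv_cancel])
  have h1 := l7.l6 φ (h.ne_zero hζ boxChi (conj_ne_one g hx))
  rw [← DS.Nt.dd_conj g, dd_chi hζ h]
  omega

/-- elements of order six -/
theorem dd_six (l7 : BoxL7) (h2 : p ≠ 2) (h3 : p ≠ 3) {x t : YY chevE7 p} (hx : x ^ 2 = 1) (ht : t ^ 3 = 1)
    (hc : x * t = t * x) (dx : dd p x = 63) (dt : dd p t = 67) : dd p (x * t) ≠ 29 := by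
  have hc' : Commute x t := hc
  have e3 : (x * t) ^ 3 = x := by rw [hc'.mul_pow, ht, mul_one, pow_succ, hx, one_mul]
  have e4 : (x * t) ^ 4 = t := by
    rw [hc'.mul_pow, show 4 = 2 * 2 from rfl, pow_mul, hx, one_pow, one_mul, show 2 * 2 = 3 + 1 from rfl, pow_succ, ht,
      one_mul]
  have e6 : (x * t) ^ 6 = 1 := by rw [show 6 = 3 * 2 from rfl, pow_mul, e3, hx]
  obtain ⟨g, hg⟩ := H944.TorAnyChev.exists_conj_mem_TT tE7 p (BpExc.TorAll.hAlg_of_isAlgebraic p (kb p)) (q := 6)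
    (by norm_num) (by
      rw [show 6 = 2 * 3 from rfl]
      exact Nat.Coprime.mul_left ((Nat.coprime_primes Nat.prime_two Fact.out).2 h2.symm)
        ((Nat.coprime_primes Nat.prime_three Fact.out).2 h3.symm)) e6
  have gx : g * x * g⁻¹ = (g * (x * t) * g⁻¹) ^ 3 := by rw [conj_pow, e3]
  have gt : g * t * g⁻¹ = (g * (x * t) * g⁻¹) ^ 4 := by rw [conj_pow, e4]
  have hx' : g * x * g⁻¹ ∈ TT chevE7 (kb p) := gx ▸ pow_mem hg 3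
  have ht' : g * t * g⁻¹ ∈ TT chevE7 (kb p) := gt ▸ pow_mem hg 4
  obtain ⟨φ, hφ⟩ := exists_chiY h2 hx' (sq_conj g hx)
  obtain ⟨ζ, hζ⟩ := exists_zeta p (m := 3) ((Nat.coprime_primes Nat.prime_three Fact.out).2 h3.symm)
  obtain ⟨χ, hχ⟩ := chi_ex tE7 hζ (by norm_num) ht' (by rw [conj_pow, ht, mul_one, mul_inv_cancel])
  have f1 := dd_conj_chi h2 hφ
  have f2 := dd_chi hζ hχ
  rw [DS.Nt.dd_conj] at f2
  have h1 := l7.l7 φ χ (by omega) (by omega)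
  have h4 : PsiS tE7 {g * (x * t) * g⁻¹} = Psi tE7 φ ∩ Psi tE7 χ := by
    rw [← hφ.psiS (prim2 h2), ← hχ.psiS hζ]
    ext a
    simp only [PsiS, Set.mem_ofPred_eq, Set.mem_inter_iff, Set.mem_singleton_iff, forall_eq]
    constructor
    · rintro ⟨ha, h⟩
      exact ⟨⟨ha, by rw [gx, ch_pow ha hg, h, one_pow]⟩, ha, by rw [gt, ch_pow ha hg, h, one_pow]⟩
    · rintro ⟨⟨ha, h⟩, -, h'⟩
      exact ⟨ha, by rw [← conj_mul, ch_mul ha hx' ht', h, h', one_mul]⟩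
  rw [← DS.Nt.dd_conj g, dd_psiS (hp := tE7) hg, h4]
  omega

end Cfsg.Agent.Cam.Odd
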