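import Cfsg.Agent.Cam.Ex.Root
import Cfsg.Agent.Cam.Ex.ConnTor
import Cfsg.Agent.Cam.Ex.IfaceB

/-!
# S3689, exceptional rows, the small cases in odd characteristic: interface (helper81)

The mathematics is in `notes/Cam/exc81.md`.  `dd p y` is the dimension of the fixed space of `y` on the adjoint module
(`DS.Nt`), `ev ρ g 1` the same for an abstract representation `ρ` of `U × U` (`(u, 1)`, `(1, u)`, `(u, u)` stand for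
`α u`, `β u`, `τ u`).
-/

set_option autoImplicit false
set_option linter.unusedVariables false

namespace Cfsg.Agent.Cam.Odd

open CoxeterSystem Cfsg Cfsg.Lie Subgroup Module
open Cfsg.Agent.Tits.Roots Cfsg.Agent.Nodes.BNOf Cfsg.Agent.Nodes.RGDChev Cfsg.Agent.KFacts.RgdChevCoord
open Cfsg.Agent.ChevalleyStructure.CoxeterGeom Cfsg.Agent.ChevalleyStructure.CoxeterGeomTypes
open Cfsg.Agent.Cam.Spor Cfsg.Agent.Cam.Ex Cfsg.Agent.Cam.Ex.S2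
open Cfsg.Agent.DS.NT (ev)
open Cfsg.Agent.DS.Nt (dd ad Fx Tp)

/-- a four-group with an element of order three permuting its involutions -/
structure Tet {U : Type} [Group U] (x₁ x₂ t : U) : Prop where
  o1 : orderOf x₁ = 2
  ne : x₁ ≠ x₂
  comm : x₁ * x₂ = x₂ * x₁
  c1 : t * x₁ * t⁻¹ = x₂
  c2 : t * x₂ * t⁻¹ = x₁ * x₂
  o3 : orderOf t = 3

/-- the fixed space of a set -/
def fx {K V G : Type} [Field K] [AddCommGroup V] [Module K V] [Group G] (ρ : G →* Module.End K V) (S : Set G) :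
    Submodule K V where
  carrier := {v | ∀ g ∈ S, ρ g v = v}
  zero_mem' := fun g _ => map_zero _
  add_mem' := fun {v w} hv hw g hg => by rw [map_add, hv g hg, hw g hg]
  smul_mem' := fun c v hv g hg => by rw [map_smul, hv g hg]

theorem mem_fx {K V G : Type} [Field K] [AddCommGroup V] [Module K V] [Group G] {ρ : G →* Module.End K V} {S : Set G}
    {v : V} : v ∈ fx ρ S ↔ ∀ g ∈ S, ρ g v = v := Iff.rfl

/-- the rank of `(f - 1) ^ 2` -/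
noncomputable def rk2 {K V : Type} [Field K] [AddCommGroup V] [Module K V] (f : Module.End K V) : ℕ :=
  finrank K (LinearMap.range ((f - 1) ^ 2))

/-- [helper65] the core of `P8` -/
def BoxOne : Prop := ∀ (D : ChevalleyDatum) (l : ℕ) (M : CoxeterMatrix (Fin l)) (hp : IsType D l M), l ≤ 7 → D ≠ chevB2 →
  ∀ (p : ℕ) [Fact p.Prime] (d : ℕ) (g0 : Lat l ≃+ Lat l) (L : Type) [Group L] [Finite L] (E : Frame hp p d g0 L)
    (U : Type) [Group U] [Finite U] (τ α β : U →* L) (R R' : Subgroup L), Core τ α β R R' → p ≠ 2 → 5 ≤ E.q →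
    ∀ c, Rt hp c → (E.g c = c ∨ E.g c = -c) → ¬ Cen E R {c, -c}

/-- [Grp] finite simple groups -/
structure BoxGrp : Prop where
  /-- an involution -/
  two : ∀ (U : Type) [Group U] [Finite U], IsSimpleGroup U → ¬ IsMulCommutative U → ∃ u : U, orderOf u = 2
  /-- `Z*` -/
  zs : ∀ (U : Type) [Group U] [Finite U], IsSimpleGroup U → ¬ IsMulCommutative U → ∀ u : U, orderOf u = 2 →
    ∃ g : U, g * u * g⁻¹ ≠ u ∧ u * (g * u * g⁻¹) = (g * u * g⁻¹) * u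
  /-- the number of involutions is odd -/
  par : ∀ (U : Type) [Group U] [Finite U] (ψ : U →* U), Function.Injective ψ → (∃ u : U, orderOf u = 2) →
    ∀ (f : U → ℕ) (a b : ℕ), (∀ u, orderOf u = 2 → f u = a ∨ f u = b) → ∃ u, orderOf u = 2 ∧ f (ψ u) = f u
  /-- simple subgroups of `PGL₂(k)` -/
  pgl : ∀ (p : ℕ) [Fact p.Prime], p ≠ 2 → ∀ (U : Type) [Group U] [Finite U], IsSimpleGroup U → ¬ IsMulCommutative U →
    ∀ (Y : Type) [Group Y] (ψ : SL (kb p) →* Y) (a : U →* Y), CK ψ → (∀ u, ∃ j, IA ψ (a u) j) → (∃ u, ¬ Cz ψ (a u)) →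
    (∀ u v : U, orderOf u = 2 → orderOf v = 2 → IsConj u v) ∧
    (5 ≤ p → p ∣ Nat.card U → ∃ (u v : U) (k : ℕ), orderOf u = p ∧ v * u * v⁻¹ = u ^ k ∧ (k : ZMod p) ≠ 1) ∧
    ∃ x₁ x₂ t : U, Tet x₁ x₂ t ∧
      (p ≠ 3 → (∃ y : U, orderOf y = 2 ∧ y * t * y⁻¹ = t⁻¹) ∧ ∀ s : U, orderOf s = 3 → IsConj s t)

/-- [Lin] linear algebra -/
structure BoxLin : Prop where
  /-- a group of order `16` -/
  sixteen : ∀ (K V U : Type) [Field K] [IsAlgClosed K] [AddCommGroup V] [Module K V] [FiniteDimensional K V] [Group U]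
    (ρ : U × U →* Module.End K V), (2 : K) ≠ 0 → finrank K V = 133 → ∀ x₁ x₂ : U, orderOf x₁ = 2 → orderOf x₂ = 2 →
    x₁ ≠ x₂ → x₁ * x₂ = x₂ * x₁ →
    (∀ a ∈ ({x₁, x₂, x₁ * x₂} : Set U), (ev ρ (a, 1) 1 = 63 ∨ ev ρ (a, 1) 1 = 79) ∧
      (ev ρ (1, a) 1 = 63 ∨ ev ρ (1, a) 1 = 79) ∧ ∀ b ∈ ({x₁, x₂, x₁ * x₂} : Set U), ev ρ (a, b) 1 = 69) → False
  /-- the groups `A₄ × A₄`, `A₄ × S₃`, `S₃ × S₃` -/
  num : ∀ (K V U : Type) [Field K] [IsAlgClosed K] [AddCommGroup V] [Module K V] [FiniteDimensional K V] [Group U]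
    (ρ : U × U →* Module.End K V), (2 : K) ≠ 0 → (3 : K) ≠ 0 → finrank K V = 133 → ∀ x₁ x₂ t y : U, Tet x₁ x₂ t →
    orderOf y = 2 → y * t * y⁻¹ = t⁻¹ → IsConj y x₁ → ∀ f s σ : ℕ, ev ρ (x₁, 1) 1 = f → ev ρ (x₁, x₁) 1 = f →
    ev ρ (1, x₁) 1 = 69 → ev ρ (t, 1) 1 = s → ev ρ (t, t) 1 = s → ev ρ (1, t) 1 = σ → (f = 63 ∨ f = 79) →
    (s = 43 ∨ s = 49 ∨ s = 67 ∨ s = 79) → (σ = 43 ∨ σ = 49 ∨ σ = 67 ∨ σ = 79) →
    (f = 63 → σ = 67 → ev ρ (x₁, t) 1 ≠ 29) → finrank K (fx ρ {g | g.1 = g.2}) ≤ 2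
  /-- a non-trivial module has dimension at least three -/
  three : ∀ (K V U : Type) [Field K] [IsAlgClosed K] [AddCommGroup V] [Module K V] [FiniteDimensional K V] [Group U]
    (ρ : U × U →* Module.End K V), (2 : K) ≠ 0 → IsSimpleGroup U → ∀ x₁ x₂ t : U, Tet x₁ x₂ t →
    (∃ v ∈ fx ρ {g | g.2 = 1}, ∃ u, ρ (1, u) v ≠ v) → 3 ≤ finrank K (fx ρ {g | g.2 = 1})
  /-- characteristic three -/
  jor : ∀ (K V U : Type) [Field K] [IsAlgClosed K] [AddCommGroup V] [Module K V] [FiniteDimensional K V] [Group U]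
    (ρ : U × U →* Module.End K V), (3 : K) = 0 → finrank K V = 133 → ∀ x₁ x₂ t : U, Tet x₁ x₂ t →
    ev ρ (x₁, 1) 1 = 63 → ev ρ (x₁, x₁) 1 = 63 → ev ρ (1, x₁) 1 = 69 → 43 ≤ rk2 (ρ (t, t)) ∧ rk2 (ρ (t, 1)) ≤ 42

/-- [NT] vectors of the adjoint module of `E₇` fixed by the centralizer of `b` and moved by `n` -/
structure BoxNT : Prop where
  np : ∀ (p : ℕ) [Fact p.Prime], 5 ≤ p → ∀ (b n : YY chevE7 p) (k : ℕ), orderOf b = p → n * b * n⁻¹ = b ^ k →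
    (k : ZMod p) ≠ 1 → ∃ m, (∀ c, c * b = b * c → ad chevE7 p c m = m) ∧ ad chevE7 p n m ≠ m
  n5 : ∀ (p : ℕ) [Fact p.Prime], 7 ≤ p → ∀ b n : YY chevE7 p, orderOf b = 5 → n * b * n⁻¹ = b⁻¹ →
    ∃ m, (∀ c, c * b = b * c → ad chevE7 p c m = m) ∧ ad chevE7 p n m ≠ m

/-- [Ext] the automorphisms of `E₇(q)` are induced by semilinear maps of the adjoint module -/
def BoxExt : Prop := ∀ (p : ℕ) [Fact p.Prime] (d : ℕ), d ∣ 2 → ∀ (L : Type) [Group L] [Finite L]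
  (E : Frame tE7 p d (sg 7 1) L) (θ : MulAut L),
  (∀ x : L, dd p (E.ι (θ x)) = dd p (E.ι x)) ∧
  (∀ x : L, rk2 (ad chevE7 p (E.ι (θ x))) = rk2 (ad chevE7 p (E.ι x))) ∧
  ∀ S : Set L, finrank (kb p) (Fx p (E.ι '' (θ '' S))) = finrank (kb p) (Fx p (E.ι '' S))

/-- the number of roots killed by `φ` -/
noncomputable abbrev nk {D : ChevalleyDatum} {l : ℕ} {M : CoxeterMatrix (Fin l)} (hp : IsType D l M) {K : Type}
    [AddCommGroup K] (φ : Lat l →+ K) : ℕ := (Psi hp φ).ncard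

/-- `0` for the involutions of `E₇` that lift to involutions of the simply connected group -/
def eps (φ : Lat 7 →+ ZMod 2) : ZMod 2 := φ ![0, 1, 0, 0, 1, 0, 1]

/-- `ψ` kills the `A₁` component of `Psi φ` -/
def Ort (φ ψ : Lat 7 →+ ZMod 2) : Prop := ∀ c, A1c tE7 (Psi tE7 φ) c → ψ c = 0

/-- [L7] the root lattice of `E₇` modulo `2` and `3` -/
structure BoxL7 : Prop where
  l1 : ∀ φ : Lat 7 →+ ZMod 2, φ ≠ 0 → nk tE7 φ = 56 ∨ nk tE7 φ = 62 ∨ nk tE7 φ = 72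
  l2 : ∀ φ : Lat 7 →+ ZMod 2, φ ≠ 0 → (eps φ = 0 ↔ nk tE7 φ = 62)
  l3 : ∀ φ : Lat 7 →+ ZMod 2, nk tE7 φ = 62 → ∃ c, A1c tE7 (Psi tE7 φ) c ∧
    (∀ c', A1c tE7 (Psi tE7 φ) c' → c' = c ∨ c' = -c) ∧ (∀ a, φ a = (cp tE7 a c : ZMod 2)) ∧
    ∀ ψ : Lat 7 →+ ZMod 2, eps ψ = 1 → (ψ c = 0 ↔ nk tE7 (ψ + φ) ≠ nk tE7 ψ)
  l4 : ∀ φ₁ φ₂ φ₃ : Lat 7 →+ ZMod 2, nk tE7 φ₁ = 62 → nk tE7 φ₂ = 62 → nk tE7 φ₃ = 62 → φ₁ ≠ φ₂ → φ₃ ≠ φ₁ → φ₃ ≠ φ₂ →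
    φ₃ ≠ φ₁ + φ₂ → Ort φ₁ φ₂ → Ort φ₁ φ₃ → Ort φ₂ φ₃ →
    (∀ w, Fixs tE7 w φ₁ → Fixs tE7 w φ₂ → Fixs tE7 w φ₃ → w ∈ WW tE7 (Psi tE7 φ₁ ∩ Psi tE7 φ₂ ∩ Psi tE7 φ₃)) ∧
    ∀ φ₄ : Lat 7 →+ ZMod 2, eps φ₄ = 0 → Ort φ₁ φ₄ → Ort φ₂ φ₄ → Ort (φ₁ + φ₃) (φ₂ + φ₄) →
      ∃ i j k : ℕ, φ₄ = i • φ₁ + j • φ₂ + k • φ₃
  l6 : ∀ χ : Lat 7 →+ ZMod 3, χ ≠ 0 → nk tE7 χ = 36 ∨ nk tE7 χ = 42 ∨ nk tE7 χ = 60 ∨ nk tE7 χ = 72
  l7 : ∀ (φ : Lat 7 →+ ZMod 2) (χ : Lat 7 →+ ZMod 3), nk tE7 φ = 56 → nk tE7 χ = 60 →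
    (Psi tE7 φ ∩ Psi tE7 χ).ncard ≠ 22

/-- [St] an involution of `T` of type `E₆T₁` does not lie in a non-toral four-group of `T` -/
def BoxSt : Prop := ∀ (p : ℕ) [Fact p.Prime] (d : ℕ), d ∣ 2 → ∀ (L : Type) [Group L] [Finite L]
  (E : Frame tE7 p d (sg 7 1) L) (U : Type) [Group U] [Finite U] (τ α β : U →* L) (R R' : Subgroup L),
  Core τ α β R R' → p ≠ 2 → 7 ≤ E.q → ∀ u u' : U, orderOf u = 2 → orderOf u' = 2 → u * u' = u' * u →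
  dd p (E.ι (τ u)) = 79 → Tp p (E.ι (τ u)) (E.ι (τ u'))

/-- no core for `p` odd, `q ≥ 5` -/
def NoOdd {D : ChevalleyDatum} {l : ℕ} {M : CoxeterMatrix (Fin l)} (hp : IsType D l M) (d : ℕ)
    (g0 : Lat l ≃+ Lat l) : Prop :=
  ∀ (p : ℕ) [Fact p.Prime] (L : Type) [Group L] [Finite L] (E : Frame hp p d g0 L)
    (U : Type) [Group U] [Finite U] (τ α β : U →* L) (R R' : Subgroup L), Core τ α β R R' → p ≠ 2 → 5 ≤ E.q → False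

/-- [Low] the types of rank at most six -/
structure BoxLow : Prop where
  g2 : NoOdd tG2 1 (sg 2 1)
  d4 : ∀ g0, IsTri g0 → NoOdd tD4 1 g0
  f4 : NoOdd tF4 1 (sg 4 1)
  e6 : ∀ d ε, d ∣ 3 → NoOdd tE6 d (sg 6 ε)

end Cfsg.Agent.Cam.Odd
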