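import Cfsg.Agent.Cam.Odd.LinA
import Cfsg.Agent.Cam.Odd.Iface
import Mathlib.Tactic.Linarith

/-!
# `BoxLin` (lead)
-/

set_option autoImplicit false
set_option linter.unusedSectionVars false

namespace Cfsg.Agent.Cam.Odd.Lin

open Module
open Cfsg.Agent.DS.NT (ev)

variable {K V U : Type} [Field K] [AddCommGroup V] [Module K V] [FiniteDimensional K V] [Group U]

theorem ap_mul (l : U →* Module.End K V) (g h : U) (v : V) : l g (l h v) = l (g * h) v := by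
  rw [map_mul, Module.End.mul_apply]

theorem ap_one (l : U →* Module.End K V) (v : V) : l 1 v = v := by rw [map_one, Module.End.one_apply]

theorem sq_of_order {x : U} (h : orderOf x = 2) : x * x = 1 := by rw [← pow_two, ← h, pow_orderOf_eq_one]

theorem cube_of_order {x : U} (h : orderOf x = 3) : x * (x * x) = 1 := by
  rw [← pow_three, ← h, pow_orderOf_eq_one]

theorem inv_of_order {l : U →* Module.End K V} {x : U} (h : orderOf x = 2) (v : V) : l x (l x v) = v := by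
  rw [ap_mul, sq_of_order h, ap_one]

theorem tet_o2 {x₁ x₂ t : U} (h : Tet x₁ x₂ t) : orderOf x₂ = 2 := by
  rw [← h.c1, ← MulAut.conj_apply, MulEquiv.orderOf_eq, h.o1]

theorem tet_to (l : U →* Module.End K V) {x₁ x₂ t : U} (h : Tet x₁ x₂ t) : TO (l x₁) (l x₂) (l t) where
  aa := inv_of_order h.o1
  bb := inv_of_order (tet_o2 h)
  ab v := by rw [ap_mul, ap_mul, h.comm]
  sa v := by rw [ap_mul, ap_mul, ← h.c1, inv_mul_cancel_right]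
  sb v := by rw [ap_mul, ap_mul, ap_mul, ← h.c2, inv_mul_cancel_right]
  sss v := by rw [ap_mul, ap_mul, mul_assoc, cube_of_order h.o3, ap_one]

theorem conj_le (l : U →* Module.End K V) {N : Submodule K V} (hN : ∀ g, Inv (l g) N) {x y : U} (h : IsConj x y) :
    finrank K ↥(N ⊓ E (l x) 1) ≤ finrank K ↥(N ⊓ E (l y) 1) := by
  obtain ⟨g, rfl⟩ := isConj_iff.1 h
  refine le_of_inj (l g) (fun v hv => ⟨hN g v hv.1, mem_E1.2 ?_⟩) fun v _ hv => ?_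
  · rw [ap_mul, inv_mul_cancel_right, ← ap_mul, mem_E1.1 hv.2]
  · rw [← ap_one l v, ← inv_mul_cancel g, ← ap_mul, hv, map_zero]

theorem conj_eq (l : U →* Module.End K V) {N : Submodule K V} (hN : ∀ g, Inv (l g) N) {x y : U} (h : IsConj x y) :
    finrank K ↥(N ⊓ E (l x) 1) = finrank K ↥(N ⊓ E (l y) 1) :=
  le_antisymm (conj_le l hN h) (conj_le l hN h.symm)

/-- the fixed spaces of `x`, `t`, `E`, `A₄`, `S₃` and the twisted `S₃` -/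
def sp (l : U →* Module.End K V) (x₁ x₂ t y : U) : ℕ → Submodule K V
  | 0 => ⊤
  | 1 => E (l x₁) 1
  | 2 => E (l t) 1
  | 3 => E (l x₁) 1 ⊓ E (l x₂) 1
  | 4 => E (l x₁) 1 ⊓ E (l x₂) 1 ⊓ E (l t) 1
  | 5 => E (l t) 1 ⊓ E (l y) 1
  | _ => E (l t) 1 ⊓ E (l y) (-1)

theorem inv_sp {g : Module.End K V} {l : U →* Module.End K V} (hc : ∀ u v, l u (g v) = g (l u v)) (x₁ x₂ t y : U)
    (i : ℕ) : Inv g (sp l x₁ x₂ t y i) := by
  unfold sp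
  split
  · exact Inv.top g
  · exact inv_E (hc _) _
  · exact inv_E (hc _) _
  · exact (inv_E (hc _) _).inf (inv_E (hc _) _)
  · exact ((inv_E (hc _) _).inf (inv_E (hc _) _)).inf (inv_E (hc _) _)
  · exact (inv_E (hc _) _).inf (inv_E (hc _) _)
  · exact (inv_E (hc _) _).inf (inv_E (hc _) _)

/-- the dimension of a subspace -/
noncomputable def dm (N : Submodule K V) : ℕ := finrank K N

theorem dm_def (N : Submodule K V) : finrank K N = dm N := rfl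

theorem dm_top : dm (⊤ : Submodule K V) = finrank K V := finrank_top K V

theorem dm_bot : dm (⊥ : Submodule K V) = 0 := finrank_bot K V

/-- the relations between the dimensions -/
def Rel (n : ℕ → ℕ) : Prop :=
  n 0 + 2 * n 3 = 3 * n 1 ∧ n 0 + 2 * n 4 = n 1 + 2 * n 2 ∧ n 0 + 2 * n 5 = n 2 + 2 * n 1 ∧
    2 * n 1 + 2 * n 6 = n 0 + n 2 ∧ n 4 ≤ n 3

theorem rel (h2 : (2 : K) ≠ 0) (h3 : (3 : K) ≠ 0) {ω : K} (hω : ω * ω + ω + 1 = 0) (l : U →* Module.End K V)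
    {x₁ x₂ t y : U} (h : Tet x₁ x₂ t) (hy : orderOf y = 2) (hyt : y * t * y⁻¹ = t⁻¹) (hc : IsConj y x₁)
    {N : Submodule K V} (hN : ∀ g, Inv (l g) N) : Rel fun i => dm (N ⊓ sp l x₁ x₂ t y i) := by
  have T := tet_to l h
  have ti : t⁻¹ = t * t := inv_eq_of_mul_eq_one_right (cube_of_order h.o3)
  have hys : ∀ v, l y (l t v) = l t (l t (l y v)) := fun v => by
    rw [ap_mul, ap_mul, ap_mul, ← ti, ← hyt, inv_mul_cancel_right]
  obtain ⟨k1, k2, -, -⟩ := T.dims (hN t) h2 (hN x₁) (hN x₂)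
  have k3 := T.fix (hN t) h2 (hN x₁) (hN x₂)
  have k4 := rS h3 hω T.sss (inv_of_order hy) hys (hN t) (hN y)
  have k5 := conj_eq l hN hc
  have k6 : Inv (l y) (E (l t) 1) := fun v hv => by
    rw [mem_E1] at hv ⊢
    have e : l t (l y v) = l y (l t (l t v)) := by rw [hys, hys, T.sss]
    rw [e, hv, hv]
  have k7 := pm h2 (inv_of_order hy) ((hN y).inf k6)
  have k8 : finrank K ↥(N ⊓ E (l x₁) 1 ⊓ E (l x₂) 1 ⊓ E (l t) 1) ≤ finrank K ↥(N ⊓ E (l x₁) 1 ⊓ E (l x₂) 1) :=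
    Submodule.finrank_mono inf_le_left
  simp only [dm_def] at k1 k2 k3 k4 k5 k7 k8
  simp only [Rel, sp, ← inf_assoc, inf_top_eq]
  omega

theorem arith0 (a s σ b c P Q d₁ d₂ f33 f34 f35 f43 f44 f45 f46 f53 f54 f63 f64 f65 f66 : ℕ)
    (h5 : 133 + 2 * b = a + 69 + a) (h6 : 133 + 3 * c = s + σ + s + s)
    (e33 : 4 * f33 + 3 * 69 + 3 * a = 133 + 9 * b)
    (e34 : 4 * f34 + 69 + 2 * σ + 3 * a = 133 + 3 * b + 6 * P)
    (e35 : 4 * f35 + 2 * 69 + σ + 3 * a = 133 + 6 * b + 3 * P)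
    (e43 : 4 * f43 + 3 * 69 + a + 2 * s = 133 + 3 * b + 6 * Q)
    (e44 : 4 * f44 + 69 + 2 * σ + a + 2 * s = 133 + b + 2 * P + 2 * Q + 4 * c)
    (e45 : 4 * f45 + 2 * 69 + σ + a + 2 * s = 133 + 2 * b + P + 4 * Q + 2 * c)
    (e46 : 4 * f46 + 133 + σ + 2 * b + 4 * Q = 2 * 69 + a + P + 2 * s + 2 * c)
    (e53 : 4 * f53 + 3 * 69 + 2 * a + s = 133 + 6 * b + 3 * Q)
    (e54 : 4 * f54 + 69 + 2 * σ + 2 * a + s = 133 + 2 * b + 4 * P + Q + 2 * c)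
    (e63 : 4 * f63 + 133 + 6 * b + s = 3 * 69 + 2 * a + 3 * Q)
    (e64 : 4 * f64 + 133 + 2 * b + 4 * P + s = 69 + 2 * σ + 2 * a + Q + 2 * c)
    (e65 : 4 * f65 + 133 + 4 * b + 2 * P + s = 2 * 69 + σ + 2 * a + 2 * Q + c)
    (e66 : 4 * f66 + 2 * 69 + 2 * a + 2 * P + 2 * Q = 133 + σ + 4 * b + s + c)
    (i1 : f45 ≤ f35) (i2 : f44 ≤ f43) (i3 : f64 ≤ f63)
    (h7 : f33 + 3 * f44 = f43 + f34 + d₁ + d₂) (h8 : f44 ≤ d₁) (h9 : f44 ≤ d₂) (ha : a = 63 ∨ a = 79)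
    (hs : s = 43 ∨ s = 49 ∨ s = 67 ∨ s = 79) (hσ : σ = 43 ∨ σ = 49 ∨ σ = 67 ∨ σ = 79)
    (hP : a = 63 → σ = 67 → P ≠ 29) : d₁ = 0 ∧ f66 ≤ 2 := by
  rcases ha with rfl | rfl <;> rcases hs with rfl | rfl | rfl | rfl <;> rcases hσ with rfl | rfl | rfl | rfl <;> omega

theorem arith (f : ℕ → ℕ → ℕ) (hl : ∀ j, Rel fun i => f i j) (hr : ∀ i, Rel fun j => f i j) (a s σ d₁ d₂ : ℕ)
    (h0 : f 0 0 = 133) (h1 : f 1 0 = a) (h2 : f 0 1 = 69) (h3 : f 2 0 = s) (h4 : f 0 2 = σ)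
    (h5 : 133 + 2 * f 1 1 = a + 69 + a) (h6 : 133 + 3 * f 2 2 = s + σ + s + s)
    (h7 : f 3 3 + 3 * f 4 4 = f 4 3 + f 3 4 + d₁ + d₂) (h8 : f 4 4 ≤ d₁) (h9 : f 4 4 ≤ d₂) (ha : a = 63 ∨ a = 79)
    (hs : s = 43 ∨ s = 49 ∨ s = 67 ∨ s = 79) (hσ : σ = 43 ∨ σ = 49 ∨ σ = 67 ∨ σ = 79)
    (hP : a = 63 → σ = 67 → f 1 2 ≠ 29) : d₁ = 0 ∧ f 6 6 ≤ 2 := by
  obtain ⟨a3, a4, a5, a6, -⟩ := hr 0
  obtain ⟨b3, b4, b5, b6, -⟩ := hr 1
  obtain ⟨c3, c4, c5, c6, -⟩ := hr 2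
  simp only [h0, h1, h2, h3, h4] at a3 a4 a5 a6 b3 b4 b5 b6 c3 c4 c5 c6
  refine arith0 a s σ (f 1 1) (f 2 2) (f 1 2) (f 2 1) d₁ d₂ (f 3 3) (f 3 4) (f 3 5) (f 4 3) (f 4 4) (f 4 5) (f 4 6)
    (f 5 3) (f 5 4) (f 6 3) (f 6 4) (f 6 5) (f 6 6) h5 h6 ?_ ?_ ?_ ?_ ?_ ?_ ?_ ?_ ?_ ?_ ?_ ?_ ?_ (hl 5).2.2.2.2
    (hr 4).2.2.2.2 (hr 6).2.2.2.2 h7 h8 h9 ha hs hσ hP
  · linarith [(hl 3).1]
  · linarith [(hl 4).1]
  · linarith [(hl 5).1]
  · linarith [(hl 3).2.1]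
  · linarith [(hl 4).2.1]
  · linarith [(hl 5).2.1]
  · linarith [(hl 6).2.1]
  · linarith [(hl 3).2.2.1]
  · linarith [(hl 4).2.2.1]
  · linarith [(hl 3).2.2.2.1]
  · linarith [(hl 4).2.2.2.1]
  · linarith [(hl 5).2.2.2.1]
  · linarith [(hl 6).2.2.2.1]

theorem arith16 (a1 a2 a3 b1 b2 b3 e e1 e2 e3 ee f11 f12 f13 f21 f22 f23 f31 f32 f33 : ℕ) (h1 : a1 = 63 ∨ a1 = 79)
    (h2 : a2 = 63 ∨ a2 = 79) (h3 : a3 = 63 ∨ a3 = 79) (k1 : b1 = 63 ∨ b1 = 79) (k2 : b2 = 63 ∨ b2 = 79)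
    (k3 : b3 = 63 ∨ b3 = 79) (q0 : 133 + 2 * e = a1 + a2 + a3) (q1 : b1 + 2 * e1 = f11 + f21 + f31)
    (q2 : b2 + 2 * e2 = f12 + f22 + f32) (q3 : b3 + 2 * e3 = f13 + f23 + f33) (q4 : e + 2 * ee = e1 + e2 + e3)
    (p11 : 133 + 2 * f11 = a1 + b1 + 69) (p12 : 133 + 2 * f12 = a1 + b2 + 69) (p13 : 133 + 2 * f13 = a1 + b3 + 69)
    (p21 : 133 + 2 * f21 = a2 + b1 + 69) (p22 : 133 + 2 * f22 = a2 + b2 + 69) (p23 : 133 + 2 * f23 = a2 + b3 + 69)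
    (p31 : 133 + 2 * f31 = a3 + b1 + 69) (p32 : 133 + 2 * f32 = a3 + b2 + 69) (p33 : 133 + 2 * f33 = a3 + b3 + 69) :
    False := by
  have h : 8 * ee + 310 = a1 + a2 + a3 + b1 + b2 + b3 := by linarith
  clear q0 q1 q2 q3 q4 p11 p12 p13 p21 p22 p23 p31 p32 p33
  omega

section two

variable (ρ : U × U →* Module.End K V)

/-- the action of the left factor -/
def lf : U →* Module.End K V := ρ.comp (MonoidHom.inl U U)
/-- the action of the right factor -/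
def rt : U →* Module.End K V := ρ.comp (MonoidHom.inr U U)

theorem lf_apply (g : U) : lf ρ g = ρ (g, 1) := rfl
theorem rt_apply (g : U) : rt ρ g = ρ (1, g) := rfl

theorem lf_mul_rt (g h : U) : lf ρ g * rt ρ h = ρ (g, h) := by
  rw [lf_apply, rt_apply, ← map_mul, Prod.mk_mul_mk, mul_one, one_mul]

theorem lf_rt (g h : U) (v : V) : lf ρ g (rt ρ h v) = ρ (g, h) v := by rw [← lf_mul_rt, Module.End.mul_apply]

theorem rt_lf (g h : U) (v : V) : rt ρ h (lf ρ g v) = lf ρ g (rt ρ h v) := by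
  rw [lf_rt, lf_apply, rt_apply, ap_mul, Prod.mk_mul_mk, mul_one, one_mul]

theorem ev_eq (g : U × U) : ev ρ g 1 = finrank K ↥(⊤ ⊓ E (ρ g) 1) := by rw [top_inf_eq]; rfl

/-- the four-group generated by `(a, 1)` and `(1, b)` -/
theorem pair (h2 : (2 : K) ≠ 0) {a b : U} (ha : orderOf a = 2) (hb : orderOf b = 2) :
    finrank K V + 2 * finrank K ↥(E (lf ρ a) 1 ⊓ E (rt ρ b) 1) = ev ρ (a, 1) 1 + ev ρ (1, b) 1 + ev ρ (a, b) 1 := by
  have h := r4 h2 (inv_of_order (l := lf ρ) ha) (inv_of_order (l := rt ρ) hb) (fun v => (rt_lf ρ a b v).symm)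
    (Inv.top _) (Inv.top _)
  rw [lf_mul_rt, finrank_top, top_inf_eq, top_inf_eq, top_inf_eq] at h
  exact h

theorem sixteen (h2 : (2 : K) ≠ 0) (hV : finrank K V = 133) (x₁ x₂ : U) (o1 : orderOf x₁ = 2) (o2 : orderOf x₂ = 2)
    (hne : x₁ ≠ x₂) (hc : x₁ * x₂ = x₂ * x₁)
    (h : ∀ a ∈ ({x₁, x₂, x₁ * x₂} : Set U), (ev ρ (a, 1) 1 = 63 ∨ ev ρ (a, 1) 1 = 79) ∧
      (ev ρ (1, a) 1 = 63 ∨ ev ρ (1, a) 1 = 79) ∧ ∀ b ∈ ({x₁, x₂, x₁ * x₂} : Set U), ev ρ (a, b) 1 = 69) : False := by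
  have o3 : orderOf (x₁ * x₂) = 2 := by
    refine orderOf_eq_prime ?_ fun e => hne ?_
    · rw [pow_two, mul_assoc, ← mul_assoc x₂, ← hc, mul_assoc, sq_of_order o2, mul_one, sq_of_order o1]
    · rw [eq_inv_of_mul_eq_one_left e, inv_eq_of_mul_eq_one_right (sq_of_order o2)]
  have m1 : x₁ ∈ ({x₁, x₂, x₁ * x₂} : Set U) := by simp
  have m2 : x₂ ∈ ({x₁, x₂, x₁ * x₂} : Set U) := by simp
  have m3 : x₁ * x₂ ∈ ({x₁, x₂, x₁ * x₂} : Set U) := by simp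
  have q : ∀ (l : U →* Module.End K V) (N : Submodule K V), (∀ g, Inv (l g) N) →
      finrank K N + 2 * finrank K ↥(N ⊓ E (l x₁) 1 ⊓ E (l x₂) 1) =
        finrank K ↥(N ⊓ E (l x₁) 1) + finrank K ↥(N ⊓ E (l x₂) 1) + finrank K ↥(N ⊓ E (l (x₁ * x₂)) 1) := by
    intro l N hN
    rw [map_mul]
    exact r4 h2 (inv_of_order o1) (inv_of_order o2) (fun v => by rw [ap_mul, ap_mul, hc]) (hN _) (hN _)
  have q0 := q (lf ρ) ⊤ fun _ => Inv.top _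
  have q1 : ∀ b, ev ρ (1, b) 1 + 2 * finrank K ↥(E (lf ρ x₁) 1 ⊓ E (lf ρ x₂) 1 ⊓ E (rt ρ b) 1) =
      finrank K ↥(E (lf ρ x₁) 1 ⊓ E (rt ρ b) 1) + finrank K ↥(E (lf ρ x₂) 1 ⊓ E (rt ρ b) 1) +
        finrank K ↥(E (lf ρ (x₁ * x₂)) 1 ⊓ E (rt ρ b) 1) := fun b => by
    have := q (lf ρ) (E (rt ρ b) 1) fun g => inv_E (rt_lf ρ g b) 1
    rw [inf_assoc, inf_comm (E (rt ρ b) 1), inf_comm (E (rt ρ b) 1), inf_comm (E (rt ρ b) 1),
      inf_comm (E (rt ρ b) 1)] at this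
    exact this
  have q2 := q (rt ρ) (E (lf ρ x₁) 1 ⊓ E (lf ρ x₂) 1) fun g =>
    (inv_E (fun v => (rt_lf ρ _ g v).symm) 1).inf (inv_E (fun v => (rt_lf ρ _ g v).symm) 1)
  rw [finrank_top, top_inf_eq, top_inf_eq, top_inf_eq] at q0
  change _ = ev ρ (x₁, 1) 1 + ev ρ (x₂, 1) 1 + ev ρ (x₁ * x₂, 1) 1 at q0
  have pp : ∀ a ∈ ({x₁, x₂, x₁ * x₂} : Set U), ∀ b ∈ ({x₁, x₂, x₁ * x₂} : Set U), orderOf a = 2 → orderOf b = 2 →
      133 + 2 * finrank K ↥(E (lf ρ a) 1 ⊓ E (rt ρ b) 1) = ev ρ (a, 1) 1 + ev ρ (1, b) 1 + 69 := fun a ha b hb oa ob => by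
    rw [← hV, pair ρ h2 oa ob, (h a ha).2.2 b hb]
  rw [hV] at q0
  exact arith16 _ _ _ _ _ _ _ _ _ _ _ _ _ _ _ _ _ _ _ _ (h _ m1).1 (h _ m2).1 (h _ m3).1 (h _ m1).2.1 (h _ m2).2.1
    (h _ m3).2.1 q0 (q1 x₁) (q1 x₂) (q1 (x₁ * x₂)) q2 (pp _ m1 _ m1 o1 o1) (pp _ m1 _ m2 o1 o2) (pp _ m1 _ m3 o1 o3)
    (pp _ m2 _ m1 o2 o1) (pp _ m2 _ m2 o2 o2) (pp _ m2 _ m3 o2 o3) (pp _ m3 _ m1 o3 o1) (pp _ m3 _ m2 o3 o2)
    (pp _ m3 _ m3 o3 o3)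

theorem three (h2 : (2 : K) ≠ 0) (hU : IsSimpleGroup U) (x₁ x₂ t : U) (h : Tet x₁ x₂ t)
    (hv : ∃ v ∈ fx ρ {g | g.2 = 1}, ∃ u, ρ (1, u) v ≠ v) : 3 ≤ finrank K (fx ρ {g | g.2 = 1}) := by
  have hN : ∀ g, Inv (rt ρ g) (fx ρ {g | g.2 = 1}) := by
    rintro g v hv ⟨a, b⟩ (rfl : b = 1)
    rw [← lf_apply, ← rt_lf, lf_apply, hv (a, 1) rfl]
  obtain ⟨k1, -, -, -⟩ := (tet_to (rt ρ) h).dims (hN t) h2 (hN x₁) (hN x₂)
  by_contra h3
  have k2 : fx ρ {g | g.2 = 1} ⊓ E (rt ρ x₁) 1 ⊓ E (rt ρ x₂) 1 = fx ρ {g | g.2 = 1} :=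
    Submodule.eq_of_le_of_finrank_eq (inf_le_left.trans inf_le_left) (by omega)
  let Z : Subgroup U :=
    { carrier := {u | ∀ v ∈ fx ρ {g | g.2 = 1}, rt ρ u v = v}
      one_mem' := fun v _ => ap_one _ v
      mul_mem' := fun {a b} ha hb v hv => by rw [← ap_mul, hb v hv, ha v hv]
      inv_mem' := fun {a} ha v hv => by rw [← ha v hv, ap_mul, inv_mul_cancel, ap_one, ha v hv] }
  have hZ : Z.Normal := ⟨fun a ha g v hv => by rw [← ap_mul, ← ap_mul, ha _ (hN _ v hv), ap_mul, mul_inv_cancel, ap_one]⟩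
  rcases hU.eq_bot_or_eq_top_of_normal Z hZ with h4 | h4
  · have h5 : x₁ ∈ Z := fun v hv => mem_E1.1 (k2.ge hv).1.2
    have h6 := h.o1
    rw [h4, Subgroup.mem_bot] at h5
    rw [h5, orderOf_one] at h6
    omega
  · obtain ⟨v, hv, u, hu⟩ := hv
    exact hu ((h4.ge (Subgroup.mem_top u) : u ∈ Z) v hv)

theorem num [IsAlgClosed K] (h2 : (2 : K) ≠ 0) (h3 : (3 : K) ≠ 0) (hV : finrank K V = 133) (x₁ x₂ t y : U)
    (h : Tet x₁ x₂ t) (hy : orderOf y = 2) (hyt : y * t * y⁻¹ = t⁻¹) (hc : IsConj y x₁) (f s σ : ℕ)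
    (e1 : ev ρ (x₁, 1) 1 = f) (e2 : ev ρ (x₁, x₁) 1 = f) (e3 : ev ρ (1, x₁) 1 = 69) (e4 : ev ρ (t, 1) 1 = s)
    (e5 : ev ρ (t, t) 1 = s) (e6 : ev ρ (1, t) 1 = σ) (hf : f = 63 ∨ f = 79)
    (hs : s = 43 ∨ s = 49 ∨ s = 67 ∨ s = 79) (hσ : σ = 43 ∨ σ = 49 ∨ σ = 67 ∨ σ = 79)
    (hP : f = 63 → σ = 67 → ev ρ (x₁, t) 1 ≠ 29) : finrank K (fx ρ {g | g.1 = g.2}) ≤ 2 := by
  obtain ⟨ω, hω⟩ : ∃ ω : K, ω * ω + ω + 1 = 0 := by
    obtain ⟨z, hz⟩ := IsAlgClosed.exists_eq_mul_self (-3 : K)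
    refine ⟨(2 : K)⁻¹ * (z - 1), ?_⟩
    have i2 : (2 : K)⁻¹ * 2 = 1 := inv_mul_cancel₀ h2
    linear_combination (-(2 : K)⁻¹ * (2 : K)⁻¹) * hz - ((2 : K)⁻¹ * (z - 1) + (2 : K)⁻¹ * 2 + 1) * i2
  have TL := tet_to (lf ρ) h
  have TR := tet_to (rt ρ) h
  have ti : t⁻¹ = t * t := inv_eq_of_mul_eq_one_right (cube_of_order h.o3)
  have hl := fun j => rel h2 h3 hω (lf ρ) h hy hyt hc (N := sp (rt ρ) x₁ x₂ t y j)
    fun g => inv_sp (fun u v => rt_lf ρ g u v) _ _ _ _ _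
  have hr := fun i => rel h2 h3 hω (rt ρ) h hy hyt hc (N := sp (lf ρ) x₁ x₂ t y i)
    fun g => inv_sp (fun u v => (rt_lf ρ u g v).symm) _ _ _ _ _
  simp only [inf_comm (sp (rt ρ) x₁ x₂ t y _)] at hl
  have iE : ∀ {a b c : Module.End K V}, TO a b c → Inv c (E a 1 ⊓ E b 1) := fun T v hv => by
    have := T.wt (mem_E.1 hv.1) (mem_E.1 hv.2)
    rw [mul_one] at this
    exact ⟨mem_E.2 this.1, mem_E.2 this.2⟩
  have k9 := r9 h3 hω TL.sss TR.sss (fun v => (rt_lf ρ t t v).symm)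
    (N := sp (lf ρ) x₁ x₂ t y 3 ⊓ sp (rt ρ) x₁ x₂ t y 3)
    ((iE TL).inf (inv_sp (fun u v => rt_lf ρ t u v) _ _ _ _ _))
    ((inv_sp (fun u v => (rt_lf ρ u t v).symm) _ _ _ _ _).inf (iE TR))
  have k6 := r9 h3 hω TL.sss TR.sss (fun v => (rt_lf ρ t t v).symm) (Inv.top _) (Inv.top _)
  have k7 : finrank K ↥(⊤ ⊓ E (ρ (t, t * t)) 1) = finrank K ↥(⊤ ⊓ E (ρ (t, t)) 1) := by
    refine conj_eq ρ (fun _ => Inv.top _) (isConj_iff.2 ⟨(1, y⁻¹), ?_⟩)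
    rw [← ti, ← hyt]
    ext <;> simp [mul_assoc]
  rw [← map_mul (rt ρ), lf_mul_rt, lf_mul_rt] at k9 k6
  rw [k7, ← ev_eq, finrank_top, top_inf_eq, top_inf_eq, hV, e5] at k6
  have s44 : sp (lf ρ) x₁ x₂ t y 3 ⊓ sp (rt ρ) x₁ x₂ t y 3 ⊓ E (lf ρ t) 1 ⊓ E (rt ρ t) 1 =
      sp (lf ρ) x₁ x₂ t y 4 ⊓ sp (rt ρ) x₁ x₂ t y 4 := by
    simp only [sp]
    ac_rfl
  have s43 : sp (lf ρ) x₁ x₂ t y 3 ⊓ sp (rt ρ) x₁ x₂ t y 3 ⊓ E (lf ρ t) 1 =
      sp (lf ρ) x₁ x₂ t y 4 ⊓ sp (rt ρ) x₁ x₂ t y 3 := by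
    simp only [sp]
    ac_rfl
  have s34 : sp (lf ρ) x₁ x₂ t y 3 ⊓ sp (rt ρ) x₁ x₂ t y 3 ⊓ E (rt ρ t) 1 =
      sp (lf ρ) x₁ x₂ t y 3 ⊓ sp (rt ρ) x₁ x₂ t y 4 := by
    simp only [sp]
    ac_rfl
  have le44 : ∀ u, (∀ v, rt ρ t v = v → rt ρ u v = v) →
      finrank K ↥(sp (lf ρ) x₁ x₂ t y 4 ⊓ sp (rt ρ) x₁ x₂ t y 4) ≤
        finrank K ↥(sp (lf ρ) x₁ x₂ t y 3 ⊓ sp (rt ρ) x₁ x₂ t y 3 ⊓ E (ρ (t, u)) 1) := fun u hu => by
    rw [← s44]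
    refine Submodule.finrank_mono fun v hv => ⟨hv.1.1, mem_E1.2 ?_⟩
    rw [← lf_rt, hu v (mem_E1.1 hv.2), mem_E1.1 hv.1.2]
  rw [s44, s43, s34] at k9
  have k12 : sp (lf ρ) x₁ x₂ t y 1 ⊓ sp (rt ρ) x₁ x₂ t y 2 = E (ρ (x₁, t)) 1 := by
    ext v
    simp only [sp, Submodule.mem_inf, mem_E1, ← lf_rt]
    refine ⟨fun hv => by rw [hv.2, hv.1], fun hv => ?_⟩
    have h5 : rt ρ t v = lf ρ x₁ v := by rw [← TL.aa (rt ρ t v), hv]
    have h6 : lf ρ x₁ v = v := by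
      have h7 := TR.sss v
      rw [h5, rt_lf, h5, TL.aa, h5] at h7
      exact h7
    exact ⟨h6, h5.trans h6⟩
  obtain ⟨d0, d2⟩ := arith (fun i j => dm (sp (lf ρ) x₁ x₂ t y i ⊓ sp (rt ρ) x₁ x₂ t y j)) hl hr f s σ _ _
    (by simp only [sp, top_inf_eq, dm_top, hV]) (by simp only [sp, inf_top_eq]; exact e1)
    (by simp only [sp, top_inf_eq]; exact e3) (by simp only [sp, inf_top_eq]; exact e4)
    (by simp only [sp, top_inf_eq]; exact e6)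
    (by have := pair ρ h2 h.o1 h.o1; rw [hV, e1, e2, e3] at this; exact this)
    (by rw [← e4, ← e6] ; rw [← e4] at k6; exact k6) k9 (le44 t fun _ hv => hv)
    (le44 (t * t) fun v hv => by rw [← ap_mul, hv, hv]) hf hs hσ (by simp only [k12]; exact hP)
  refine le_trans ?_ d2
  have d1 := Submodule.finrank_eq_zero.1 d0
  have hys : ∀ (l : U →* Module.End K V) v, l y (l t v) = l t (l t (l y v)) := fun l v => by
    rw [ap_mul, ap_mul, ap_mul, ← ti, ← hyt, inv_mul_cancel_right]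
  have hsy : ∀ (l : U →* Module.End K V) v, l t (l y v) = l y (l t (l t v)) := fun l v => by
    rw [hys, hys, (tet_to l h).sss]
  -- the two operators
  let e : (U →* Module.End K V) → Module.End K V := fun l => (1 - l y) * (1 + l t + l t * l t)
  let eE : (U →* Module.End K V) → Module.End K V := fun l => 1 + l x₁ + l x₂ + l x₁ * l x₂
  have e_ap : ∀ l v, e l v = v + l t v + l t (l t v) - (l y v + l y (l t v) + l y (l t (l t v))) := fun l v => by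
    simp only [e, LinearMap.add_apply, LinearMap.sub_apply, Module.End.mul_apply, Module.End.one_apply, map_add]
    abel
  have eE_ap : ∀ l v, eE l v = v + l x₁ v + l x₂ v + l x₁ (l x₂ v) := fun l v => by
    simp only [eE, LinearMap.add_apply, Module.End.mul_apply, Module.End.one_apply]
  have e_mem : ∀ l v, e l v ∈ sp l x₁ x₂ t y 6 := fun l v => by
    have T := tet_to l h
    refine ⟨mem_E1.2 ?_, mem_Em.2 ?_⟩
    · simp only [e_ap, map_sub, map_add, hsy, T.sss]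
      abel
    · simp only [e_ap, map_sub, map_add, inv_of_order hy]
      abel
  have eE_mem : ∀ l v, eE l v ∈ sp l x₁ x₂ t y 3 := fun l v => by
    have T := tet_to l h
    refine ⟨mem_E1.2 ?_, mem_E1.2 ?_⟩
    · simp only [eE_ap, map_add, T.aa]
      abel
    · simp only [eE_ap, map_add, T.ab, T.bb]
      abel
  have sw : ∀ v ∈ fx ρ {g | g.1 = g.2}, ∀ g, lf ρ g v = rt ρ g⁻¹ v := fun v hv g => by
    rw [← hv (g⁻¹, g⁻¹) rfl, ← lf_rt, ap_mul, mul_inv_cancel, ap_one, lf_rt, hv _ rfl]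
  have i2 : ∀ {x : U}, orderOf x = 2 → x⁻¹ = x := fun hx => inv_eq_of_mul_eq_one_right (sq_of_order hx)
  have sw2 : ∀ v ∈ fx ρ {g | g.1 = g.2}, ∀ g g', lf ρ g (lf ρ g' v) = rt ρ g'⁻¹ (rt ρ g⁻¹ v) := fun v hv g g' => by
    rw [ap_mul, sw v hv, mul_inv_rev, ← ap_mul]
  refine le_of_inj (e (lf ρ)) (fun v hv => ⟨e_mem _ v, ?_⟩) fun v hv h0 => ?_
  · have : e (lf ρ) v = e (rt ρ) v := by
      rw [e_ap, e_ap, ap_mul (lf ρ) t t, sw2 v hv, sw2 v hv, sw v hv, sw v hv, sw v hv, i2 hy, ← ti, inv_inv, ti,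
        ← ap_mul, ← ap_mul, ← hys, hsy]
      abel
    rw [this]
    exact e_mem _ v
  · have hE : eE (lf ρ) v = 0 := by
      rw [← Submodule.mem_bot K, ← d1]
      refine ⟨⟨eE_mem _ v, ?_⟩, mem_E1.2 ?_⟩
      · have : eE (lf ρ) v = eE (rt ρ) v := by
          rw [eE_ap, eE_ap, sw2 v hv, sw v hv, sw v hv, i2 h.o1, i2 (tet_o2 h), TR.ab]
        rw [this]
        exact eE_mem _ v
      · have h5 : lf ρ t (rt ρ t v) = v := by rw [lf_rt, hv _ rfl]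
        rw [← lf_rt, eE_ap]
        simp only [map_add, rt_lf, TL.sa, TL.sb, h5, ← TL.ab, TL.bb]
        abel
    let W : Submodule K V :=
      { carrier := {w | ∀ g, e (lf ρ) (lf ρ g w) = 0 ∧ eE (lf ρ) (lf ρ g w) = 0}
        zero_mem' := fun g => by simp only [map_zero, and_self]
        add_mem' := fun {a b} ha hb g => by simp only [map_add, (ha g).1, (ha g).2, (hb g).1, (hb g).2, add_zero, and_self]
        smul_mem' := fun c a ha g => by simp only [map_smul, (ha g).1, (ha g).2, smul_zero, and_self] }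
    have hvW : v ∈ W := fun g => by
      rw [sw v hv]
      constructor
      · have h5 := congrArg (rt ρ g⁻¹) h0
        rw [e_ap] at h5 ⊢
        simpa only [map_sub, map_add, rt_lf, map_zero] using h5
      · have h5 := congrArg (rt ρ g⁻¹) hE
        rw [eE_ap] at h5 ⊢
        simpa only [map_add, rt_lf, map_zero] using h5
    have hW := rel h2 h3 hω (lf ρ) h hy hyt hc (N := W) fun g w hw g' => by rw [ap_mul]; exact hw _
    have z3 : W ⊓ sp (lf ρ) x₁ x₂ t y 3 = ⊥ := by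
      rw [eq_bot_iff]
      intro w hw
      have h5 := (hw.1 1).2
      rw [ap_one, eE_ap, mem_E1.1 hw.2.2, mem_E1.1 hw.2.1] at h5
      exact zero_of_smul h2 (zero_of_smul h2 (by linear_combination (norm := module) h5))
    have z6 : W ⊓ sp (lf ρ) x₁ x₂ t y 6 = ⊥ := by
      rw [eq_bot_iff]
      intro w hw
      have h5 := (hw.1 1).1
      rw [ap_one, e_ap, mem_E1.1 hw.2.1, mem_E1.1 hw.2.1, mem_Em.1 hw.2.2] at h5
      exact zero_of_smul h2 (zero_of_smul h3 (by linear_combination (norm := module) h5))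
    simp only [Rel, z3, z6, dm_bot] at hW
    have z0 : dm (W ⊓ sp (lf ρ) x₁ x₂ t y 0) = 0 := by omega
    exact (Submodule.mem_bot K).1 ((Submodule.finrank_eq_zero.1 z0).le ⟨hvW, Submodule.mem_top⟩)

theorem jor (h3 : (3 : K) = 0) (hV : finrank K V = 133) (x₁ x₂ t : U) (h : Tet x₁ x₂ t) (e1 : ev ρ (x₁, 1) 1 = 63)
    (e2 : ev ρ (x₁, x₁) 1 = 63) (e3 : ev ρ (1, x₁) 1 = 69) : 43 ≤ rk2 (ρ (t, t)) ∧ rk2 (ρ (t, 1)) ≤ 42 := by
  have h2 : (2 : K) ≠ 0 := fun h => one_ne_zero (α := K) (by linear_combination h3 - h)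
  have TL := tet_to (lf ρ) h
  have TR := tet_to (rt ρ) h
  have iL : ∀ g u c, Inv (lf ρ g) (E (rt ρ u) c) := fun g u c => inv_E (rt_lf ρ g u) c
  have iR : ∀ g u c, Inv (rt ρ g) (E (lf ρ u) c) := fun g u c => inv_E (fun v => (rt_lf ρ u g v).symm) c
  have p0 := pair ρ h2 h.o1 h.o1
  obtain ⟨a1, a2, -, -⟩ := TL.dims (Inv.top _) h2 (Inv.top _) (Inv.top _)
  obtain ⟨b1, b2, -, -⟩ := TL.dims (iL t x₁ 1) h2 (iL _ _ _) (iL _ _ _)
  obtain ⟨c1, c2, c3, c4⟩ := TR.dims ((iR t x₁ 1).inf (iR t x₂ 1)) h2 ((iR _ _ _).inf (iR _ _ _))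
    ((iR _ _ _).inf (iR _ _ _))
  rw [top_inf_eq] at a1 a2
  rw [finrank_top] at a1
  rw [inf_assoc (E (rt ρ x₁) 1), inf_comm (E (rt ρ x₁) 1) (E (lf ρ x₁) 1 ⊓ E (lf ρ x₂) 1)] at b1 b2
  rw [inf_comm (E (rt ρ x₁) 1) (E (lf ρ x₁) 1)] at b1 b2
  change finrank K ↥(E (lf ρ x₁) 1) = 63 at e1
  change finrank K ↥(E (rt ρ x₁) 1) = 69 at e3
  change _ = finrank K ↥(E (lf ρ x₁) 1) + finrank K ↥(E (rt ρ x₁) 1) + _ at p0
  have sq : ∀ (g : Module.End K V) v, ((g - 1) ^ 2 : Module.End K V) v = v + g v + g (g v) := fun g v => by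
    simp only [pow_two, Module.End.mul_apply, LinearMap.sub_apply, Module.End.one_apply, map_sub]
    linear_combination (norm := module) (-h3) • g v
  have h4 : ∀ v : V, v + v + v + v = v := fun v => by linear_combination (norm := module) h3 • v
  constructor
  · -- the free orbits
    have wt : ∀ {a b s : Module.End K V} (T : TO a b s) (g : Module.End K V) (hg : ∀ (c d : K) (v : V), a v = c • v → b v = d • v →
        a (g v) = (c * d) • g v ∧ b (g v) = c • g v) (u u' : V), a u = (1 : K) • u → b u = (-1 : K) • u →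
        a u' = (1 : K) • u' → b u' = (1 : K) • u' → u + u' + g (u + u') + g (g (u + u')) = 0 → u = 0 := by
      intro a b s T g hg u u' u1 u2 v1 v2 h0
      obtain ⟨u3, u4⟩ := hg _ _ _ u1 u2
      obtain ⟨u5, u6⟩ := hg _ _ _ u3 u4
      obtain ⟨v3, v4⟩ := hg _ _ _ v1 v2
      obtain ⟨v5, v6⟩ := hg _ _ _ v3 v4
      simp only [map_add] at h0
      have h5 := congrArg a h0
      have h6 := congrArg b h0
      have h7 := congrArg b h5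
      simp only [map_add, u1, u3, u5, v1, v3, v5, map_smul, u2, u4, u6, v2, v4, v6, map_zero] at h5 h6 h7
      rw [← h4 u]
      linear_combination (norm := module) h0 + h5 - h6 - h7
    have d0 : (E (lf ρ x₁) 1 ⊓ E (lf ρ x₂) (-1)) ⊓
        (E (lf ρ x₁) 1 ⊓ E (lf ρ x₂) 1 ⊓ E (rt ρ x₁) 1 ⊓ E (rt ρ x₂) (-1)) = ⊥ := by
      rw [eq_bot_iff]
      intro v hv
      have h5 := mem_Em.1 hv.1.2
      rw [mem_E1.1 hv.2.1.1.2] at h5
      exact zero_of_smul h2 (by linear_combination (norm := module) h5)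
    have d1 := Submodule.finrank_sup_add_finrank_inf_eq (E (lf ρ x₁) 1 ⊓ E (lf ρ x₂) (-1))
      (E (lf ρ x₁) 1 ⊓ E (lf ρ x₂) 1 ⊓ E (rt ρ x₁) 1 ⊓ E (rt ρ x₂) (-1))
    rw [d0, finrank_bot] at d1
    refine le_trans (by omega) (le_of_inj (A := (E (lf ρ x₁) 1 ⊓ E (lf ρ x₂) (-1)) ⊔
      (E (lf ρ x₁) 1 ⊓ E (lf ρ x₂) 1 ⊓ E (rt ρ x₁) 1 ⊓ E (rt ρ x₂) (-1))) ((ρ (t, t) - 1) ^ 2)
      (fun v _ => LinearMap.mem_range_self _ v) fun v hv h0 => ?_)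
    obtain ⟨u, hu, u', hu', rfl⟩ := Submodule.mem_sup.1 hv
    rw [sq] at h0
    have z1 : u = 0 := by
      refine wt TL (ρ (t, t)) (fun c d v h5 h6 => ?_) u u' (mem_E.1 hu.1) (mem_E.1 hu.2) (mem_E.1 hu'.1.1.1)
        (mem_E.1 hu'.1.1.2) h0
      rw [← lf_rt]
      exact TL.wt (by rw [← rt_lf, h5, map_smul]) (by rw [← rt_lf, h6, map_smul])
    have z2 : u' = 0 := by
      refine wt TR (ρ (t, t)) (fun c d v h5 h6 => ?_) u' 0 (mem_E.1 hu'.1.2) (mem_E.1 hu'.2) (by simp) (by simp)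
        (by rw [z1, add_comm 0] at h0; exact h0)
      rw [← lf_rt, ← rt_lf]
      exact TR.wt (by rw [rt_lf, h5, map_smul]) (by rw [rt_lf, h6, map_smul])
    rw [z1, z2, add_zero]
  · -- the Jordan blocks
    have hn : ∀ v, (lf ρ t - 1) ((lf ρ t - 1) ((lf ρ t - 1) v)) = 0 := fun v => by
      simp only [LinearMap.sub_apply, Module.End.one_apply, map_sub, TL.sss]
      linear_combination (norm := module) h3 • (lf ρ t v - lf ρ t (lf ρ t v))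
    have n3 : ∀ N, Inv (lf ρ t) N → 3 * finrank K (N.map ((lf ρ t - 1) * (lf ρ t - 1))) ≤ finrank K N := fun N hN =>
      nil3 hn fun v hv => sub_mem (hN v hv) hv
    have iE : Inv (lf ρ t) (E (lf ρ x₁) 1 ⊓ E (lf ρ x₂) 1) := fun v hv => by
      have := TL.wt (mem_E.1 hv.1) (mem_E.1 hv.2)
      rw [mul_one] at this
      exact ⟨mem_E.2 this.1, mem_E.2 this.2⟩
    have ap : ∀ v, (1 + lf ρ x₁ + lf ρ x₂ + lf ρ x₁ * lf ρ x₂ : Module.End K V) v =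
        v + lf ρ x₁ v + lf ρ x₂ v + lf ρ x₁ (lf ρ x₂ v) := fun v => by
      simp only [LinearMap.add_apply, Module.End.mul_apply, Module.End.one_apply]
    have pm1 : ∀ v, v + lf ρ x₁ v + lf ρ x₂ v + lf ρ x₁ (lf ρ x₂ v) ∈ E (lf ρ x₁) 1 ⊓ E (lf ρ x₂) 1 := fun v => by
      refine ⟨mem_E1.2 ?_, mem_E1.2 ?_⟩
      · simp only [map_add, TL.aa]
        abel
      · simp only [map_add, TL.ab, TL.bb]
        abel
    have pm2 : ∀ u ∈ E (lf ρ x₁) 1 ⊓ E (lf ρ x₂) 1, u + lf ρ x₁ u + lf ρ x₂ u + lf ρ x₁ (lf ρ x₂ u) = u := fun u hu => by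
      rw [mem_E1.1 hu.2, mem_E1.1 hu.1, h4]
    obtain ⟨M, hM⟩ : ∃ M : Submodule K V, ∀ v, v ∈ M ↔ v + lf ρ x₁ v + lf ρ x₂ v + lf ρ x₁ (lf ρ x₂ v) = 0 :=
      ⟨LinearMap.ker (1 + lf ρ x₁ + lf ρ x₂ + lf ρ x₁ * lf ρ x₂), fun v => by rw [LinearMap.mem_ker, ap]⟩
    have m1 : finrank K (⊤ : Submodule K V) = finrank K M + finrank K ↥(E (lf ρ x₁) 1 ⊓ E (lf ρ x₂) 1) :=
      split (1 + lf ρ x₁ + lf ρ x₂ + lf ρ x₁ * lf ρ x₂) (fun v => by simp only [hM, ap, Submodule.mem_top, true_and])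
        (fun v _ => by rw [ap]; exact pm1 v) fun u hu => ⟨u, Submodule.mem_top, by rw [ap, pm2 u hu]⟩
    have m2 : (⊤ : Submodule K V) ≤ M ⊔ (E (lf ρ x₁) 1 ⊓ E (lf ρ x₂) 1) := fun v _ => by
      rw [← sub_add_cancel v (v + lf ρ x₁ v + lf ρ x₂ v + lf ρ x₁ (lf ρ x₂ v))]
      refine Submodule.add_mem_sup ?_ (pm1 v)
      rw [hM, ← ap, map_sub, ap, ap, pm2 _ (pm1 v), sub_self]
    have m3 : Inv (lf ρ t) M := fun v hv => by
      rw [hM] at hv ⊢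
      have h5 := congrArg (lf ρ t) hv
      simp only [map_add, TL.sa, TL.sb, ← TL.ab, TL.bb, map_zero] at h5
      rw [← h5]
      abel
    have r0 := map_le_add ((lf ρ t - 1) * (lf ρ t - 1)) m2
    have r1 := map_le_add ((lf ρ t - 1) * (lf ρ t - 1)) (pm_sup h2 TR.aa ((iR x₁ x₁ 1).inf (iR x₁ x₂ 1)))
    have r2 := fun c => map_le_add ((lf ρ t - 1) * (lf ρ t - 1))
      (pm_sup h2 TR.bb (((iR x₂ x₁ 1).inf (iR x₂ x₂ 1)).inf (inv_E TR.ab c)))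
    have r3 := fun c d => n3 _ ((iE.inf (iL t x₁ c)).inf (iL t x₂ d))
    have := r2 1
    have := r2 (-1)
    have := r3 1 1
    have := r3 1 (-1)
    have := r3 (-1) 1
    have := r3 (-1) (-1)
    have := n3 M m3
    rw [finrank_top] at m1
    rw [rk2, LinearMap.range_eq_map, pow_two, ← lf_apply]
    omega

end two

/-- **the linear algebra box** -/
theorem boxLin : BoxLin where
  sixteen _ _ _ _ _ _ _ _ _ ρ := sixteen ρ
  num _ _ _ _ _ _ _ _ _ ρ := num ρ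
  three _ _ _ _ _ _ _ _ _ ρ := three ρ
  jor _ _ _ _ _ _ _ _ _ ρ := jor ρ

end Cfsg.Agent.Cam.Odd.Lin
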