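import Cfsg.Agent.Cam.Odd.Low
import Cfsg.Agent.Cam.Ex.E2D

/-!
# S3689, S3690, exceptional rows: the core of `P8` for one root (helper70)

`boxOne : Big → BoxOne`, `boxLowB : Big → BoxLow`.
-/

set_option autoImplicit false
set_option linter.unusedVariables false
set_option linter.unusedSectionVars false
set_option maxRecDepth 100000

namespace Cfsg.Agent.Cam.Odd.One

open CoxeterSystem Cfsg Cfsg.Lie Subgroup
open Cfsg.Agent.ChevalleyStructure.CoxeterGeom Cfsg.Agent.ChevalleyStructure.CoxeterGeomTypes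
open Cfsg.Agent.Tits.Roots Cfsg.Agent.Nodes.BNOf Cfsg.Agent.Nodes.RGDChev Cfsg.Agent.Nodes.Coroot
open Cfsg.Agent.KFacts.RgdChevCoord Cfsg.Agent.BpExc.TorCent Cfsg.Agent.BpExc.LangFr
open Cfsg.Agent.Cam.Spor Cfsg.Agent.Cam.Ex Cfsg.Agent.Cam.Ex.S2 Cfsg.Agent.Cam.Ex.En Cfsg.Agent.Cam.Odd.Low
open Cfsg.Agent.Cam.Ex.Cb (V gt dot toF Ent Dt Tab dG2 dD4 dE6 dE7 tabG2 tabD4 tabE6 tabE7)
open Cfsg.Agent.ChevalleyStructure.SL2Hom (up lo)
open Cfsg.Agent.Nodes.RGDFoldSL (hS wS)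
open scoped commutatorElement

variable {D : ChevalleyDatum} {l : ℕ} {M : CoxeterMatrix (Fin l)} {hp : IsType D l M} {p : ℕ} [Fact p.Prime]
  {d : ℕ} {g0 : Lat l ≃+ Lat l} {L : Type} [Group L]

/-- the fixed points of the root `SL₂` of a fixed root -/
theorem exists_fix (E : Frame hp p d g0 L) {c : Lat l} (hc : Rt hp c) (hg : E.g c = c) (hq : 4 ≤ E.q) :
    ∃ X : Subgroup L, ⁅X, X⁆ = X ∧ X ≠ ⊥ ∧ (∀ x ∈ X, E.ι x ∈ (sl p hc).range) ∧
      ∃ x ∈ X, E.ι x = sl p hc (hS (-1)) := by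
  obtain ⟨μ, hμ, h1, h2⟩ := sl_frob E hc hg
  obtain ⟨s, hs, e⟩ := exists_fix_pow hμ (two_le_q E)
  have hf : ∀ t : kb p, iterateFrobenius (kb p) p E.e t = t ^ E.q := fun t => iterateFrobenius_def _ _ _
  have hF := E2.frob_sl E hc hμ h1 h2
  have hcop : (E.q - 1).Coprime p := by
    have h3 : p ∣ E.q := dvd_pow_self p E.he.ne'
    exact Nat.Coprime.coprime_dvd_right h3 ((Nat.coprime_self_sub_left (by omega)).2 (Nat.coprime_one_left _))
  obtain ⟨ω, hω⟩ := exists_zeta p hcop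
  have hω0 : ω ≠ 0 := hω.ne_zero (by omega)
  have hωq : ω ^ E.q = ω := by
    rw [show E.q = (E.q - 1) + 1 by omega, pow_succ, hω.pow_eq_one, one_mul]
  set G₀ := P.fixG (iterateFrobenius (kb p) p E.e) hμ with hG₀
  have hG : ⁅G₀, G₀⁆ = G₀ := P.fixG_perfect hs (by rw [hf, e]) hω0 (by rw [hf, hωq])
    (hω.pow_ne_one_of_pos_of_lt two_ne_zero (by omega))
  have hle : G₀.map (sl p hc) ≤ E.ι.range := by
    rw [← map_perf _ hG, commutator_le]
    rintro _ ⟨A, hA, rfl⟩ _ ⟨B, hB, rfl⟩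
    exact E.der _ _ (by rw [hF, P.mem_fixG.1 hA]) (by rw [hF, P.mem_fixG.1 hB])
  have hXm : ((G₀.map (sl p hc)).comap E.ι).map E.ι = G₀.map (sl p hc) := map_comap_eq_self hle
  refine ⟨(G₀.map (sl p hc)).comap E.ι, map_injective E.inj (by rw [map_commutator, hXm, map_perf _ hG]), fun h0 => ?_,
    fun x ⟨A, _, hA⟩ => ⟨A, hA⟩, ?_⟩
  · obtain ⟨x, hx⟩ := hle (mem_map_of_mem _ (P.up_mem_fixG (t := s) (by rw [hf, e])))
    have h3 : x ∈ (G₀.map (sl p hc)).comap E.ι := ⟨_, P.up_mem_fixG (t := s) (by rw [hf, e]), hx.symm⟩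
    rw [h0, mem_bot] at h3
    rw [h3, map_one, sl_up] at hx
    exact hs ((xc_eq_one hc).1 hx.symm)
  · have h3 : hS (-1) ∈ G₀ := P.hS_mem_fixG (neg_ne_zero.2 one_ne_zero) (by rw [map_neg, map_one])
    obtain ⟨x, hx⟩ := hle (mem_map_of_mem _ h3)
    exact ⟨x, ⟨_, h3, hx.symm⟩, hx⟩

theorem neg_one_center {k : Type*} [Field k] : (hS (-1) : SL k) ∈ center (SL k) := by
  have h : (-1 : k) ≠ 0 := neg_ne_zero.2 one_ne_zero
  exact mem_center_iff'.2 ⟨hS01 h, hS10 h, by rw [hS00 h, hS11 h, inv_neg, inv_one]⟩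

/-- the fixed points of the root `SL₂` of a stable pair of roots -/
theorem exists_X (E : Frame hp p d g0 L) {c : Lat l} (hc : Rt hp c) (hg : E.g c = c ∨ E.g c = -c) (hq : 4 ≤ E.q) :
    ∃ X : Subgroup L, ⁅X, X⁆ = X ∧ X ≠ ⊥ ∧ (∀ x ∈ X, E.ι x ∈ (sl p hc).range) ∧
      ∃ x ∈ X, E.ι x = sl p hc (hS (-1)) := by
  obtain ⟨E', he, hg', z, hz, hι⟩ := exists_move_fix E hc hg
  obtain ⟨X, h1, h2, h3, x, hx, h4⟩ := exists_fix E' hc hg' (by rwa [Frame.q, he])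
  rw [← sl_range hc] at hz
  have hι' : ∀ y, E.ι y = z * E'.ι y * z⁻¹ := fun y => by rw [hι]; group
  refine ⟨X, h1, h2, fun y hy => ?_, x, hx, ?_⟩
  · rw [hι']
    exact mul_mem (mul_mem hz (h3 y hy)) (inv_mem hz)
  · obtain ⟨j, rfl⟩ := hz
    rw [hι', h4, ← map_mul, mem_center_iff.1 neg_one_center j, map_mul, mul_inv_cancel_right]

variable [Finite L] {U : Type} [Group U] [Finite U] {τ α β : U →* L} {R R' : Subgroup L}

theorem le_cent (E : Frame hp p d g0 L) {c : Lat l} (hc : Rt hp c) (hcen : Cen E R {c, -c}) :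
    (sl p hc).range.comap E.ι ≤ centralizer (R : Set L) := by
  rintro x ⟨j, hj⟩
  refine mem_centralizer_iff.2 fun y hy => E.inj ?_
  rw [map_mul, map_mul, ← hj]
  exact (cen_iff E hc).1 hcen _ (mem_map_of_mem _ hy) j

/-- **The core of `P8`** for a stable `A₁`-component of the centralizer of an element of prime order -/
theorem one_a1 (big : Big) (E : Frame hp p d g0 L) (co : Core τ α β R R') (hq : 4 ≤ E.q) {r : ℕ} (hr : r.Prime)
    {ζ : kb p} (hζ : IsPrimitiveRoot ζ r) {u : U} {φ : Lat l →+ ZMod r} (hφ : Chi hp ζ (E.ι (τ u)) φ) {c : Lat l}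
    (hc : A1c hp (Psi hp φ) c) (hg : E.g c = c ∨ E.g c = -c) : ¬ Cen E R {c, -c} := by
  intro hcen
  have : NeZero r := ⟨hr.ne_zero⟩
  obtain ⟨X, h1, h2, h3, -⟩ := exists_X E hc.1.1 hg hq
  have hJ := le_cent E hc.1.1 hcen
  have hT := P.perf_le big co h1 fun x hx => hJ (h3 x hx)
  have hm : (X.comap τ).map τ = X := map_comap_eq_self hT
  have h4 : ⁅X.comap τ, X.comap τ⁆ = X.comap τ := map_injective co.pair.inj (by rw [map_commutator, hm, h1])
  have h5 : Cz (sl p hc.1.1) (E.ι (τ u)) := (cz_T hc.1.1 hφ.1).2 (by rw [hφ.2 c hc.1.1, hc.1.2, ZMod.val_zero, pow_zero])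
  have h6 : ((X.comap τ).map α).map E.ι ≤ MS D l p (Psi hp φ) := by
    rw [← hφ.psiS hζ]
    refine E.perf_le hr ?_ (map_perf _ h4) ?_
    · rintro _ rfl
      exact ⟨hφ.1, hφ.pow_eq_one hζ⟩
    · rintro _ rfl _ ⟨v, hv, rfl⟩
      obtain ⟨j, hj⟩ := h3 _ hv
      have h7 : u * v = v * u := co.pair.inj (E.inj (by rw [map_mul, map_mul, map_mul, map_mul, ← hj]; exact h5 j))
      rw [← map_mul, ← mem_centralizer_singleton_iff.1 (co.alpha_mem_cent h7), map_mul]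
  refine h2 (eq_bot_of_perfect_comm h1 fun a ha b hb => ?_)
  obtain ⟨v, rfl⟩ := hT ha
  obtain ⟨v', rfl⟩ := hT hb
  rw [← map_mul, ← map_mul, P.comm_of_norm co hJ (d := v') (v := v) ?_ (h3 _ ha)]
  rintro y ⟨j, hj⟩
  obtain ⟨j', hj'⟩ := (spl_psi (p := p) hc.1.1 hc).inn _ (h6 (mem_map_of_mem _ (mem_map_of_mem _ hb)))
  exact ⟨j' * j * j'⁻¹, by rw [map_mul E.ι, map_mul E.ι, map_inv E.ι, ← hj, hj']⟩

theorem oneA (big : Big) : OneA := fun D l M hp hl hB2 p _ d g0 L _ _ E U _ _ τ α β R R' co hp2 hq u φ hφ c hc hg =>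
  one_a1 big E co (by omega) Nat.prime_two (Low.prim2 hp2) hφ hc hg

/-- the roots with an even Cartan integer -/
def Lg (hp : IsType D l M) (c : Lat l) : Prop := ∀ a, Rt hp a → Even (cp hp a c) → a = c ∨ a = -c ∨ cp hp a c = 0

theorem one_long (big : Big) (hp2 : p ≠ 2) (E : Frame hp p d g0 L) (co : Core τ α β R R') (hq : 4 ≤ E.q) {c : Lat l}
    (hc : Rt hp c) (hl : Lg hp c) (hg : E.g c = c ∨ E.g c = -c) : ¬ Cen E R {c, -c} := by
  intro hcen
  obtain ⟨X, h1, -, h3, x, hx, h4⟩ := exists_X E hc hg hq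
  obtain ⟨u, rfl⟩ := P.perf_le big co h1 (fun x hx => le_cent E hc hcen (h3 x hx)) hx
  have h0 : (-1 : kb p) ≠ 0 := neg_ne_zero.2 one_ne_zero
  obtain ⟨φ, hφ⟩ := exists_chi hp2 E (x := τ u) (E.inj (by
    rw [map_mul, h4, ← map_mul, center_mul_self neg_one_center, map_one, map_one])) (by rw [h4]; exact sl_hS_mem hc h0)
  refine one_a1 big E co hq Nat.prime_two (Low.prim2 hp2) hφ (c := c) ?_ hg hcen
  rw [← hφ.psiS (Low.prim2 hp2), h4]
  refine ⟨⟨hc, ?_⟩, fun a ha => hl a ha.1 ?_⟩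
  · rintro _ rfl
    rw [ch_sl_hS hc h0 hc, cp_self hc]
    norm_num
  · have h5 := ha.2 _ rfl
    rw [ch_sl_hS hc h0 ha.1] at h5
    exact even_iff_two_dvd.2 (((Low.prim2 hp2).zpow_eq_one_iff_dvd _).1 h5)

theorem lg_of {d : Dt} (hT : Tab hp d)
    (h : ∀ e ∈ d.T, ∀ e' ∈ d.T, dot e'.b e.cv % 2 = 0 → e'.b = e.b ∨ dot e'.b e.cv = 0) {c : Lat l} (hc : Rt hp c) :
    Lg hp c := by
  intro a ha h1
  obtain ⟨e, he, h2⟩ := hT.sur c hc
  obtain ⟨e', he', h3⟩ := hT.sur a ha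
  have h4 : cp hp a c = dot e'.b e.cv ∨ cp hp a c = -dot e'.b e.cv := by
    rw [← cp_toF hT he he']
    rcases h2 with rfl | rfl <;> rcases h3 with rfl | rfl
    · exact Or.inl rfl
    · exact Or.inr (cp_neg _ hc)
    · exact Or.inr (cp_neg_right _ (hT.rt e he))
    · exact Or.inl (by rw [cp_neg _ hc, cp_neg_right _ (hT.rt e he), neg_neg])
  obtain ⟨m, hm⟩ := h1
  rcases h e he e' he' (by omega) with h5 | h5
  · rw [h5] at h3
    rcases h2 with rfl | rfl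
    · exact h3.imp_right Or.inl
    · rw [neg_neg]
      exact h3.symm.imp_right Or.inl
  · right; right
    omega

/-- **`BoxOne`.** -/
theorem boxOne (big : Big) : BoxOne := by
  intro D l M hp hl hB2 p _ d g0 L _ _ E U _ _ τ α β R R' co hp2 hq c hc hg
  have hp' := hp
  simp only [IsType, typeList, List.mem_cons, List.not_mem_nil, or_false, Prod.mk.injEq] at hp'
  rcases hp' with ⟨rfl, h⟩ | ⟨rfl, h⟩ | ⟨rfl, h⟩ | ⟨rfl, h⟩ | ⟨rfl, h⟩ | ⟨rfl, h⟩ | ⟨rfl, h⟩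
  · cases h
    exact one_long big hp2 E co (by omega) hc (lg_of tabG2 (by decide +kernel) hc) hg
  · exact absurd rfl hB2
  · cases h
    exact one_long big hp2 E co (by omega) hc (lg_of tabD4 (by decide +kernel) hc) hg
  · cases h
    exact fun _ => noCore_f4 (oneA big) hp2 E hq U τ α β R R' co
  · cases h
    exact one_long big hp2 E co (by omega) hc (lg_of tabE6 (by decide +kernel) hc) hg
  · cases h
    exact one_long big hp2 E co (by omega) hc (lg_of tabE7 (by decide +kernel) hc) hg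
  · cases h
    omega

/-- **`BoxLow`.** -/
theorem boxLowB (big : Big) : BoxLow := boxLow' (oneA big)

end Cfsg.Agent.Cam.Odd.One
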