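import Cfsg.Agent.Cam.Odd.E7B
import Cfsg.Agent.Cam.Ex.Five2B
import Cfsg.Agent.Cam.Ex.Grp5

/-!
# The small cases of the exceptional rows (helper81)
-/

set_option autoImplicit false
set_option linter.unusedVariables false
set_option linter.unusedSectionVars false

namespace Cfsg.Agent.Cam.Odd

open Cfsg Cfsg.Lie Subgroup
open Cfsg.Agent.Tits.Roots Cfsg.Agent.Nodes.BNOf Cfsg.Agent.Nodes.RGDChev Cfsg.Agent.KFacts.RgdChevCoord
open Cfsg.Agent.ChevalleyStructure.CoxeterGeom Cfsg.Agent.ChevalleyStructure.CoxeterGeomTypes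
open Cfsg.Agent.Cam.Spor Cfsg.Agent.Cam.Ex

variable {D : ChevalleyDatum} {l : ℕ} {M : CoxeterMatrix (Fin l)} {hp : IsType D l M} {p : ℕ} [Fact p.Prime]
  {d : ℕ} {g0 : Lat l ≃+ Lat l} {L : Type} [Group L] [Finite L] {U : Type} [Group U] [Finite U]
  {τ α β : U →* L} {R R' : Subgroup L}

/-- Burnside: the order of a simple group has a prime divisor at least five -/
theorem exists_five (hs : IsSimpleGroup U) (hU : ¬ IsMulCommutative U) :
    ∃ r : ℕ, r.Prime ∧ 5 ≤ r ∧ r ∣ Nat.card U := by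
  by_contra h
  have h1 : ∀ r : ℕ, r.Prime → r ∣ Nat.card U → r ≤ 4 := fun r h1 h2 => by
    by_contra h3
    exact h ⟨r, h1, by omega, h2⟩
  have h3 := Grp5.three_primes hU fun r h2 h4 => (h1 r h2 h4).trans (by norm_num)
  have hle : (Nat.card U).primeFactors ⊆ {2, 3} := by
    intro r hr
    have h2 := Nat.prime_of_mem_primeFactors hr
    have h4 := h1 r h2 (Nat.dvd_of_mem_primeFactors hr)
    have h5 := h2.two_le
    have h6 : r ≠ 4 := by
      rintro rfl
      norm_num at h2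
    simp only [Finset.mem_insert, Finset.mem_singleton]
    omega
  have h7 : (Nat.card U).primeFactors.card ≤ 2 := (Finset.card_le_card hle).trans (by decide)
  omega

theorem p_le_q (E : Frame hp p d g0 L) : p ≤ E.q := Nat.le_self_pow E.he.ne' p

theorem k3_p (C : Core τ α β R R') (h : ∀ r : ℕ, r.Prime → 5 ≤ r → r ∣ Nat.card U → r = p) :
    5 ≤ p ∧ p ∣ Nat.card U := by
  obtain ⟨r, h1, h2, h3⟩ := exists_five C.simple C.noncomm
  rw [← h r h1 h2 h3]
  exact ⟨h2, h3⟩

theorem noK3_of (h : NoOdd hp d g0) : NoK3 hp d g0 := fun p _ L _ _ E U _ _ τ α β R R' C h5 => by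
  have h1 := (k3_p C h5).1
  exact h p L E U τ α β R R' C (by omega) (h1.trans (p_le_q E))

/-- `q ≡ ± 1 (5)`, `q` odd, `p ≠ 5` -/
theorem seven_le (E : Frame hp p d g0 L) (h2 : p ≠ 2) (h5 : 5 ≠ p)
    (h : p = 3 → (E.q : ZMod 5) = 1 ∨ (E.q : ZMod 5) = -1) : 7 ≤ E.q := by
  by_cases h3 : p = 3
  · have h4 := Five2.four_le E.two_le (h h3)
    have h6 : E.q = 3 ^ E.e := congrArg (· ^ E.e) h3
    rcases (show E.e = 1 ∨ 2 ≤ E.e by have := E.he; omega) with h7 | h7
    · rw [h7] at h6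
      omega
    · have h8 : 3 ^ 2 ≤ 3 ^ E.e := Nat.pow_le_pow_right (by norm_num) h7
      omega
  · have h4 := (Fact.out : p.Prime).five_le_of_ne_two_of_ne_three h2 h3
    have h6 : p ≠ 6 := fun e => absurd (e ▸ (Fact.out : p.Prime)) (by decide)
    have h7 := p_le_q E
    omega

theorem primes_le3 {N : ℕ} (h : ∀ r : ℕ, r.Prime → 7 ≤ r → r ∣ N → r = 3) : ∀ r : ℕ, r.Prime → r ∣ N → r ≤ 5 := by
  intro r h1 h2
  by_contra h3
  by_cases h4 : r = 6
  · subst h4
    exact absurd h1 (by decide)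
  · have := h r h1 (by omega) h2
    omega

/-- **The small cases.** -/
theorem boxSmall (big : Big) (bp : BoxP) (be : BoxEnd) (f5 : BoxFin5) (g5 : BoxGrp5) (o3 : BoxOut3) (s3 : BoxSL3)
    (low : BoxLow) (one : BoxOne) (l7 : BoxL7) (grp : BoxGrp) (lin : BoxLin) (nt : BoxNT) (ext : BoxExt)
    (st : BoxSt) : BoxSmall where
  g2 := noK3_of low.g2
  d4 g0 h := noK3_of (low.d4 g0 h)
  f4 := noK3_of low.f4
  e6 d ε h := noK3_of (low.e6 d ε h)
  e7 d hd p _ L _ _ E U _ _ τ α β R R' C h5 := by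
    obtain ⟨h1, h2⟩ := k3_p C h5
    exact no_core7 one l7 grp lin nt ext st hd E C (by omega) (h1.trans (p_le_q E)) (fun h => by omega)
      fun _ => Or.inl h2
  e6five d ε hd p _ L _ _ E U _ _ τ α β R R' ζ u v A B h hc h7 := by
    by_cases h2 : p = 2
    · subst h2
      exact Five2.e6 big f5 g5 o3 hd E h hc h7
    · have h1 := seven_le E h2 h.ne fun _ => (f5.e6 _ _ _ _ _ _ hc).1
      exact low.e6 d ε hd p L E U τ α β R R' h.core h2 (by omega)
  e7five d hd p _ L _ _ E U _ _ τ α β R R' ζ u v A B h hc h7 := by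
    by_cases h2 : p = 2
    · subst h2
      exact Five2.e7 bp be f5 g5 s3 hd E h hc h7
    · have h1 := seven_le E h2 h.ne fun h3 => by
        have h4 := (g5 U h.core.simple h.core.noncomm (primes_le3 fun r k1 k2 k3 => (h7 r k1 k2 k3).trans h3)).1
        rcases f5.e7 _ _ _ _ _ _ hc (Five2.k5s (by norm_num) h h4) with h5 | ⟨c, c', -, -, ε, h5, -⟩
        · exact h5.1
        · rcases Int.units_eq_one_or ε with rfl | rfl
          · exact Or.inl (by rw [h5]; simp)
          · exact Or.inr (by rw [h5]; simp)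
      exact no_core7 one l7 grp lin nt ext st hd E h.core h2 (by omega) (fun _ => h1)
        fun _ => Or.inr ⟨h.ne.symm, u, v, h.ord, h.inv⟩

end Cfsg.Agent.Cam.Odd
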