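import Cfsg.Agent.Cam.Ex.Cb2
import Cfsg.Agent.Cam.Ex.CbT

/-!
# The root lattice of `E₇` modulo two and three: the finite checks (helper53)
-/

set_option autoImplicit false
set_option linter.unusedVariables false
set_option maxRecDepth 100000

namespace Cfsg.Agent.Cam.Odd.L7

open Cfsg.Agent.Cam.Ex Cfsg.Agent.Cam.Ex.Cb

/-- the number of positive roots killed modulo `m` -/
noncomputable def cn (m : ℤ) (P : V) : ℕ := cnt (fun e => zr m (dot e.b P)) dE7.T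

/-- congruence modulo `m` -/
noncomputable def cg (m : ℤ) (P Q : V) : Bool := al (fun i => zr m (Int.sub (gt P i) (gt Q i))) (List.range 7)

/-- the Kac coordinates modulo two -/
def K2 : List V := [[0, 0, 0, 0, 0, 0, 0], [0, 0, 0, 0, 0, 0, 1], [0, 0, 0, 0, 0, 0, 2], [1, 0, 0, 0, 0, 0, 0],
  [0, 1, 0, 0, 0, 0, 0], [0, 0, 0, 0, 0, 1, 0]]

/-- the Kac coordinates modulo three -/
def K3 : List V := [[0, 0, 0, 0, 0, 0, 0], [0, 0, 0, 0, 0, 0, 1], [0, 0, 0, 0, 0, 0, 2], [0, 0, 0, 0, 0, 0, 3],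
  [1, 0, 0, 0, 0, 0, 0], [0, 1, 0, 0, 0, 0, 0], [0, 0, 0, 0, 0, 1, 0], [1, 0, 0, 0, 0, 0, 1], [0, 1, 0, 0, 0, 0, 1],
  [0, 0, 0, 0, 0, 1, 1], [0, 0, 1, 0, 0, 0, 0], [0, 0, 0, 0, 1, 0, 0]]

theorem chk1 : al (fun P => cg 2 P [] || cond (zr 2 (dot [0, 1, 0, 0, 1, 0, 1] P))
    (Nat.beq (cn 2 P) 31 && an (fun e => cg 2 P e.cv) dE7.T) (Nat.beq (cn 2 P) 28 || Nat.beq (cn 2 P) 36))
    (pats [0, 1] 7) = true := by
  decide +kernel

theorem chk2 : al (fun e => al (fun e' => !ieq (dot e'.b e.cv) 0 ||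
    an (fun a => ieq (dot a.b e.cv) 0 && (ieq (dot a.b e'.cv) 1 || ieq (dot a.b e'.cv) (-1))) dE7.T) dE7.T) dE7.T =
    true := by
  decide +kernel

theorem chk3 : al (fun P => Nat.beq (cn 2 P) 31 || (Nat.beq (cn 2 P) 63 ||
    al (fun e => !zr 2 (dot e.b P) || !Nat.beq (cn 2 (axpy (-1) P e.cv)) (cn 2 P)) dE7.T)) K2 = true := by
  decide +kernel

theorem chk4 : al (fun P => leq P [0, 0, 0, 0, 0, 0, 1] || !Nat.beq (cn 2 P) 36) K2 = true := by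
  decide +kernel

theorem chk5 : al (fun e => ieq (gt e.b 6) 0 || ieq (gt e.b 6) 1) dE7.T = true := by
  decide +kernel

theorem chk6 : al (fun P => cg 3 P [] || (Nat.beq (cn 3 P) 18 || (Nat.beq (cn 3 P) 21 || (Nat.beq (cn 3 P) 30 ||
    Nat.beq (cn 3 P) 36)))) K3 = true := by
  decide +kernel

theorem chk7 : al (fun P => !Nat.beq (cn 3 P) 30 || al (fun Q => !Nat.beq (cn 2 Q) 28 ||
    !Nat.beq (cnt (fun e => zr 2 (dot e.b Q) && zr 3 (dot e.b P)) dE7.T) 11) (pats [0, 1] 7)) K3 = true := by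
  decide +kernel

theorem chk8 : cn 2 [] = 63 := by
  decide +kernel

theorem mem_K2 (c : Fin 7 → ℕ) (h : 2 * c 0 + 2 * c 1 + 3 * c 2 + 4 * c 3 + 3 * c 4 + 2 * c 5 + c 6 ≤ 2) :
    (List.ofFn fun i => (c i : ℤ)) ∈ K2 := by
  have e : (List.ofFn fun i => (c i : ℤ)) = [(c 0 : ℤ), c 1, c 2, c 3, c 4, c 5, c 6] := rfl
  rw [e]
  generalize c 0 = x0, c 1 = x1, c 2 = x2, c 3 = x3, c 4 = x4, c 5 = x5, c 6 = x6 at h ⊢
  obtain rfl : x2 = 0 := by omega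
  obtain rfl : x3 = 0 := by omega
  obtain rfl : x4 = 0 := by omega
  have h0 : x0 ≤ 1 := by omega
  have h1 : x1 ≤ 1 := by omega
  have h5 : x5 ≤ 1 := by omega
  have h6 : x6 ≤ 2 := by omega
  interval_cases x0 <;> interval_cases x1 <;> interval_cases x5 <;> interval_cases x6 <;>
    first | omega | decide

theorem mem_K3 (c : Fin 7 → ℕ) (h : 2 * c 0 + 2 * c 1 + 3 * c 2 + 4 * c 3 + 3 * c 4 + 2 * c 5 + c 6 ≤ 3) :
    (List.ofFn fun i => (c i : ℤ)) ∈ K3 := by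
  have e : (List.ofFn fun i => (c i : ℤ)) = [(c 0 : ℤ), c 1, c 2, c 3, c 4, c 5, c 6] := rfl
  rw [e]
  generalize c 0 = x0, c 1 = x1, c 2 = x2, c 3 = x3, c 4 = x4, c 5 = x5, c 6 = x6 at h ⊢
  obtain rfl : x3 = 0 := by omega
  have h0 : x0 ≤ 1 := by omega
  have h1 : x1 ≤ 1 := by omega
  have h2 : x2 ≤ 1 := by omega
  have h4 : x4 ≤ 1 := by omega
  have h5 : x5 ≤ 1 := by omega
  have h6 : x6 ≤ 3 := by omega
  interval_cases x0 <;> interval_cases x1 <;> interval_cases x2 <;> interval_cases x4 <;> interval_cases x5 <;>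
    interval_cases x6 <;> first | omega | decide

end Cfsg.Agent.Cam.Odd.L7
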