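import Cfsg.Agent.Cam.Odd.Iface
import Cfsg.Agent.Cam.Odd.L7T
import Cfsg.Agent.Cam.Ex.End1

/-!
# The root lattice of `E₇` modulo two and three: `BoxL7` (helper53)
-/

set_option autoImplicit false
set_option linter.unusedVariables false
set_option linter.unusedSectionVars false

namespace Cfsg.Agent.Cam.Odd.L7

open CoxeterSystem Cfsg Cfsg.Lie
open Cfsg.Agent.ChevalleyStructure.CoxeterGeom Cfsg.Agent.ChevalleyStructure.CoxeterGeomTypes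
open Cfsg.Agent.Tits.Roots Cfsg.Agent.Nodes.RGDChev
open Cfsg.Agent.H931.KC (hr psi psi_apply psi_sr Kac exists_alcove)
open Cfsg.Agent.Cam.Ex Cfsg.Agent.Cam.Ex.Cb

/-- `P` represents `φ` -/
structure Rp {m : ℕ} (φ : Lat 7 →+ ZMod m) (P : V) : Prop where
  len : P.length = 7
  eq : ∀ a, φ a = ((psi (toF 7 P) a : ℤ) : ZMod m)

section rp

variable {m : ℕ} {φ ψ : Lat 7 →+ ZMod m} {P Q : V}

theorem Rp.zero_iff (h : Rp φ P) {e : Ent} (he : e ∈ dE7.T) : zr m (dot e.b P) = true ↔ φ (toF 7 e.b) = 0 := by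
  rw [h.eq, tabE7.psi_b he, ZMod.intCast_zmod_eq_zero_iff_dvd, zr_iff]

theorem Rp.nk_eq (h : Rp φ P) : nk tE7 φ = 2 * cn m P := tabE7.ncard_eq φ fun e he => h.zero_iff he

theorem Rp.add (h : Rp φ P) (h' : Rp ψ Q) : Rp (φ + ψ) (axpy (-1) P Q) :=
  ⟨(length_axpy _ _ _).trans h.len, fun a => by
    rw [AddMonoidHom.add_apply, h.eq, h'.eq, toF_axpy _ h.len, psi_sub_smul]
    push_cast
    ring⟩

theorem Rp.of_cg (h : Rp φ P) (hc : cg m P Q = true) (a : Lat 7) : φ a = ((psi (toF 7 Q) a : ℤ) : ZMod m) := by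
  rw [h.eq, psi_apply, psi_apply]
  push_cast
  refine Finset.sum_congr rfl fun i _ => ?_
  have h1 : (m : ℤ) ∣ gt P i - gt Q i := zr_iff.1 (al_iff.1 hc i (List.mem_range.2 i.2))
  rw [← ZMod.intCast_zmod_eq_zero_iff_dvd, Int.cast_sub, sub_eq_zero] at h1
  rw [toF_apply, toF_apply, h1]

theorem Rp.eq_zero (h : Rp φ P) (hc : cg m P [] = true) : φ = 0 :=
  AddMonoidHom.ext fun a => by
    rw [h.of_cg hc, psi_apply, Finset.sum_eq_zero fun i _ => by rw [toF_apply, gt_nil, mul_zero], Int.cast_zero]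
    rfl

theorem exists_rp [NeZero m] (φ : Lat 7 →+ ZMod m) :
    ∃ c : Fin 7 → ℕ, (∀ i, c i < m) ∧ Rp φ (List.ofFn fun i => (c i : ℤ)) := by
  refine ⟨fun i => (φ (sr i)).val, fun i => ZMod.val_lt _, List.length_ofFn, fun a => ?_⟩
  rw [toF_ofFn, eq_sum φ a, psi_apply]
  push_cast
  exact Finset.sum_congr rfl fun i _ => by rw [ZMod.natCast_zmod_val]

theorem exists_kac [NeZero m] (φ : Lat 7 →+ ZMod m) : ∃ w, ∃ c : Fin 7 → ℕ,
    2 * c 0 + 2 * c 1 + 3 * c 2 + 4 * c 3 + 3 * c 4 + 2 * c 5 + c 6 ≤ m ∧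
      Rp (cw tE7 φ w) (List.ofFn fun i => (c i : ℤ)) := by
  obtain ⟨b, -, hb⟩ := exists_rp φ
  obtain ⟨w, c, c0, hk, hw⟩ := exists_alcove tE7 (Nat.pos_of_ne_zero (NeZero.ne m))
    (psi (toF 7 (List.ofFn fun i => (b i : ℤ))))
  refine ⟨w, c, ?_, List.length_ofFn, fun a => ?_⟩
  · have h1 := hk.sum
    rw [← tabE7.hi, Fin.sum_univ_seven] at h1
    change (c0 : ℤ) + (2 * (c 0 : ℤ) + 2 * (c 1 : ℤ) + 3 * (c 2 : ℤ) + 4 * (c 3 : ℤ) + 3 * (c 4 : ℤ) + 2 * (c 5 : ℤ) +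
      1 * (c 6 : ℤ)) = m at h1
    omega
  · have h1 := hw a
    rw [← ZMod.intCast_zmod_eq_zero_iff_dvd, Int.cast_sub, sub_eq_zero] at h1
    rw [cw_apply, hb.eq, ← h1, toF_ofFn, psi_apply]

end rp

theorem exists_pat (φ : Lat 7 →+ ZMod 2) : ∃ P ∈ pats [0, 1] 7, Rp φ P := by
  obtain ⟨c, hc, h⟩ := exists_rp φ
  refine ⟨_, mem_pats _ fun i => ?_, h⟩
  have := hc i
  have h1 : c i = 0 ∨ c i = 1 := by omega
  rcases h1 with h1 | h1 <;> rw [h1] <;> decide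

theorem exists_K2 (φ : Lat 7 →+ ZMod 2) : ∃ w, ∃ P ∈ K2, Rp (cw tE7 φ w) P := by
  obtain ⟨w, c, hc, h⟩ := exists_kac φ
  exact ⟨w, _, mem_K2 c hc, h⟩

theorem exists_K3 (φ : Lat 7 →+ ZMod 3) : ∃ w, ∃ P ∈ K3, Rp (cw tE7 φ w) P := by
  obtain ⟨w, c, hc, h⟩ := exists_kac φ
  exact ⟨w, _, mem_K3 c hc, h⟩

/-- `φ` is the coroot of `c` modulo two -/
structure Co (φ : Lat 7 →+ ZMod 2) (c : Lat 7) : Prop where
  rt : Rt tE7 c
  eq : ∀ a, φ a = (cp tE7 a c : ZMod 2)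

theorem nk_zero : nk tE7 (0 : Lat 7 →+ ZMod 2) = 126 := by
  refine (tabE7.ncard_eq (0 : Lat 7 →+ ZMod 2) (P := fun e => zr 2 (dot e.b [])) fun e he => ?_).trans
    (congrArg (2 * ·) chk8)
  · refine ⟨fun _ => rfl, fun _ => zr_iff.2 ?_⟩
    rw [← tabE7.psi_b he, psi_apply, Finset.sum_eq_zero fun i _ => by rw [toF_apply [], gt_nil, mul_zero]]
    exact dvd_zero _

/-- the types -/
theorem cases2 {φ : Lat 7 →+ ZMod 2} (h0 : φ ≠ 0) :
    (eps φ = 0 ∧ nk tE7 φ = 62 ∧ ∃ c, Co φ c) ∨ (eps φ ≠ 0 ∧ (nk tE7 φ = 56 ∨ nk tE7 φ = 72)) := by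
  obtain ⟨P, hP, h⟩ := exists_pat φ
  have h1 := al_iff.1 chk1 P hP
  rcases Bool.or_eq_true_iff.1 h1 with h2 | h2
  · exact absurd (h.eq_zero h2) h0
  have he : eps φ = 0 ↔ zr 2 (dot [0, 1, 0, 0, 1, 0, 1] P) = true := by
    have e : (![0, 1, 0, 0, 1, 0, 1] : Lat 7) = toF 7 [0, 1, 0, 0, 1, 0, 1] := by decide +kernel
    unfold eps
    rw [e, h.eq, psi_toF (by rfl), ZMod.intCast_zmod_eq_zero_iff_dvd, zr_iff]
    rfl
  have hn : nk tE7 φ = 2 * cn 2 P := h.nk_eq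
  cases h3 : zr 2 (dot [0, 1, 0, 0, 1, 0, 1] P)
  · rw [h3, cond_false] at h2
    refine Or.inr ⟨fun h4 => ?_, ?_⟩
    · rw [he.1 h4] at h3
      exact Bool.false_ne_true h3.symm
    · rcases Bool.or_eq_true_iff.1 h2 with h4 | h4 <;> rw [Nat.eq_of_beq_eq_true h4] at hn
      · exact Or.inl hn
      · exact Or.inr hn
  · rw [h3, cond_true] at h2
    obtain ⟨h4, h5⟩ := Bool.and_eq_true_iff.1 h2
    rw [Nat.eq_of_beq_eq_true h4] at hn
    obtain ⟨e, he', h6⟩ := an_iff.1 h5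
    exact Or.inl ⟨he.2 h3, hn, _, tabE7.rt e he', fun a => by rw [h.of_cg h6, tabE7.cpe e he']⟩

theorem ne_zero_of_nk {φ : Lat 7 →+ ZMod 2} (h : nk tE7 φ ≠ 126) : φ ≠ 0 := by
  rintro rfl
  exact h nk_zero

theorem of_nk {φ : Lat 7 →+ ZMod 2} (h : nk tE7 φ = 62) : eps φ = 0 ∧ ∃ c, Co φ c := by
  rcases cases2 (φ := φ) (ne_zero_of_nk (by omega)) with h1 | h1
  · exact ⟨h1.1, h1.2.2⟩
  · omega

theorem of_eps {φ : Lat 7 →+ ZMod 2} (h0 : φ ≠ 0) (h : eps φ = 0) : ∃ c, Co φ c := by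
  rcases cases2 h0 with h1 | h1
  · exact h1.2.2
  · exact absurd h h1.1

/-- an even pairing -/
theorem even_cp {a c : Lat 7} (ha : Rt tE7 a) (hc : Rt tE7 c) (h : (cp tE7 a c : ZMod 2) = 0) :
    a = c ∨ a = -c ∨ cp tE7 a c = 0 := by
  by_cases h1 : a = c
  · exact Or.inl h1
  by_cases h2 : a = -c
  · exact Or.inr (Or.inl h2)
  have h3 := abs_le.1 (En.abs_cp ha hc h1 h2)
  have h4 : (2 : ℤ) ∣ cp tE7 a c := (ZMod.intCast_zmod_eq_zero_iff_dvd _ 2).1 h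
  exact Or.inr (Or.inr (by omega))

theorem neg2 (x : ZMod 2) : -x = x := by revert x; decide

namespace Co

variable {φ ψ : Lat 7 →+ ZMod 2} {c c' : Lat 7}

theorem self (h : Co φ c) : φ c = 0 := by
  rw [h.eq, Cb.cp_self tE7 h.rt]
  rfl

theorem a1c (h : Co φ c) : A1c tE7 (Psi tE7 φ) c :=
  ⟨⟨h.rt, h.self⟩, fun a ha => even_cp ha.1 h.rt ((h.eq a).symm.trans ha.2)⟩

theorem neg (h : Co φ c) : Co φ (-c) :=
  ⟨h.rt.neg, fun a => by rw [h.eq, Cb.cp_neg_right tE7 a h.rt, Int.cast_neg, neg2]⟩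

theorem eq_of (h : Co φ c) (h' : Co ψ c) : φ = ψ := AddMonoidHom.ext fun a => by rw [h.eq, h'.eq]

theorem act (h : Co φ c) (w : CoxeterMatrix.E₇.Group) : Co (cw tE7 φ w) (wa tE7 w⁻¹ c) :=
  ⟨h.rt.act _, fun a => by rw [cw_apply, h.eq, ← Cb.cp_wa tE7 w a (h.rt.act w⁻¹), Cb.wa_inv']⟩

theorem tab (h : Co φ c) : ∃ e ∈ dE7.T, Co φ (toF 7 e.b) ∧ (c = toF 7 e.b ∨ c = -toF 7 e.b) := by
  obtain ⟨e, he, h1 | h1⟩ := tabE7.sur c h.rt
  · exact ⟨e, he, h1 ▸ h, Or.inl h1⟩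
  · refine ⟨e, he, ?_, Or.inr h1⟩
    have h2 := h.neg
    rwa [h1, neg_neg] at h2

theorem rp {e : Ent} (he : e ∈ dE7.T) (h : Co φ (toF 7 e.b)) : Rp φ e.cv :=
  ⟨tabE7.lc e he, fun a => by rw [h.eq, tabE7.cpe e he]⟩

end Co

theorem A1c.neg' {K : Type} [AddCommGroup K] {φ : Lat 7 →+ K} {c : Lat 7} (h : A1c tE7 (Psi tE7 φ) c) :
    A1c tE7 (Psi tE7 φ) (-c) := by
  refine ⟨neg_mem_Psi tE7 h.1, fun a ha => ?_⟩
  rcases h.2 a ha with h1 | h1 | h1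
  · exact Or.inr (Or.inl (by rw [h1, neg_neg]))
  · exact Or.inl h1
  · exact Or.inr (Or.inr (by rw [Cb.cp_neg_right tE7 a h.1.1, h1, neg_zero]))

theorem A1c.wa' {φ : Lat 7 →+ ZMod 2} {w : CoxeterMatrix.E₇.Group} (hφ : Fixs tE7 w φ) {c : Lat 7}
    (h : A1c tE7 (Psi tE7 φ) c) : A1c tE7 (Psi tE7 φ) (wa tE7 w c) := by
  refine ⟨⟨h.1.1.act w, (hφ c).trans h.1.2⟩, fun a ha => ?_⟩
  have h1 : wa tE7 w⁻¹ a ∈ Psi tE7 φ := ⟨ha.1.act _, by rw [← hφ, Cb.wa_inv']; exact ha.2⟩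
  rcases h.2 _ h1 with h2 | h2 | h2
  · exact Or.inl (by rw [← h2, Cb.wa_inv'])
  · exact Or.inr (Or.inl (by rw [← Cb.wa_neg, ← h2, Cb.wa_inv']))
  · exact Or.inr (Or.inr (by rw [← h2, ← Cb.cp_wa tE7 w _ h.1.1, Cb.wa_inv']))

theorem uniq_tab {φ : Lat 7 →+ ZMod 2} {e e' : Ent} (he : e ∈ dE7.T) (he' : e' ∈ dE7.T) (h : Co φ (toF 7 e.b))
    (h' : A1c tE7 (Psi tE7 φ) (toF 7 e'.b)) : toF 7 e'.b = toF 7 e.b ∨ toF 7 e'.b = -toF 7 e.b := by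
  rcases h.a1c.2 _ h'.1 with h1 | h1 | h1
  · exact Or.inl h1
  · exact Or.inr h1
  exfalso
  rw [tabE7.cp_b he' he] at h1
  have h2 := al_iff.1 (al_iff.1 chk2 e he) e' he'
  rw [ieq_iff.2 h1] at h2
  rw [Bool.not_true, Bool.false_or] at h2
  obtain ⟨a, ha, h3⟩ := an_iff.1 h2
  obtain ⟨h4, h5⟩ := Bool.and_eq_true_iff.1 h3
  have h6 : cp tE7 (toF 7 a.b) (toF 7 e'.b) = 1 ∨ cp tE7 (toF 7 a.b) (toF 7 e'.b) = -1 := by
    rw [tabE7.cp_b ha he']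
    exact (Bool.or_eq_true_iff.1 h5).imp ieq_iff.1 ieq_iff.1
  have h7 : toF 7 a.b ∈ Psi tE7 φ := ⟨tabE7.rt a ha, by rw [h.eq, tabE7.cp_b ha he, ieq_iff.1 h4, Int.cast_zero]⟩
  rcases h'.2 _ h7 with h8 | h8 | h8
  · rw [h8, Cb.cp_self tE7 h'.1.1] at h6
    omega
  · rw [h8, Cb.cp_neg tE7 _ h'.1.1, Cb.cp_self tE7 h'.1.1] at h6
    omega
  · omega

/-- the `A₁` component is unique -/
theorem Co.uniq {φ : Lat 7 →+ ZMod 2} {c c' : Lat 7} (h : Co φ c) (h' : A1c tE7 (Psi tE7 φ) c') :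
    c' = c ∨ c' = -c := by
  obtain ⟨e, he, h1, h2⟩ := h.tab
  obtain ⟨e', he', h3⟩ := tabE7.sur c' h'.1.1
  have h4 : A1c tE7 (Psi tE7 φ) (toF 7 e'.b) := by
    rcases h3 with h3 | h3
    · exact h3 ▸ h'
    · have h5 := A1c.neg' h'
      rwa [h3, neg_neg] at h5
  rcases uniq_tab he he' h1 h4 with h5 | h5 <;> rcases h2 with h2 | h2 <;> rcases h3 with h3 | h3 <;>
    rw [h2, h3, h5] <;> simp

theorem eps_add (φ ψ : Lat 7 →+ ZMod 2) : eps (φ + ψ) = eps φ + eps ψ := rfl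

/-- the last part of `l3` -/
theorem Co.nk_ne {φ ψ : Lat 7 →+ ZMod 2} {c : Lat 7} (h : Co φ c) (hψ : eps ψ = 1) :
    ψ c = 0 ↔ nk tE7 (ψ + φ) ≠ nk tE7 ψ := by
  constructor
  · intro h0
    have h1 : nk tE7 ψ = 56 ∨ nk tE7 ψ = 72 := by
      rcases cases2 (φ := ψ) (by rintro rfl; exact absurd hψ (by decide)) with h1 | h1
      · rw [h1.1] at hψ
        exact absurd hψ (by decide)
      · exact h1.2
    obtain ⟨w, P, hP, hr⟩ := exists_K2 ψ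
    obtain ⟨e, he, h2, h3⟩ := (h.act w).tab
    have h4 : cw tE7 ψ w (toF 7 e.b) = 0 := by
      have h5 : cw tE7 ψ w (wa tE7 w⁻¹ c) = 0 := by rw [cw_apply, Cb.wa_inv', h0]
      rcases h3 with h3 | h3
      · rwa [h3] at h5
      · rwa [h3, map_neg, neg_eq_zero] at h5
    have h5 : nk tE7 ψ = 2 * cn 2 P := (ncard_cw tE7 ψ w).symm.trans hr.nk_eq
    have h6 : nk tE7 (ψ + φ) = 2 * cn 2 (axpy (-1) P e.cv) :=
      (ncard_cw tE7 (ψ + φ) w).symm.trans (hr.add (h2.rp he)).nk_eq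
    rcases Bool.or_eq_true_iff.1 (al_iff.1 chk3 P hP) with h7 | h7
    · have := Nat.eq_of_beq_eq_true h7
      omega
    rcases Bool.or_eq_true_iff.1 h7 with h7 | h7
    · have := Nat.eq_of_beq_eq_true h7
      omega
    have h8 := al_iff.1 h7 e he
    have h9 : zr 2 (dot e.b P) = true := (hr.zero_iff he).2 h4
    rw [h9] at h8
    have h10 : Nat.beq (cn 2 (axpy (-1) P e.cv)) (cn 2 P) = false := by simpa using h8
    have := Nat.ne_of_beq_eq_false h10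
    omega
  · intro h0
    by_contra h1
    have h2 : ψ c = 1 := by
      revert h1
      generalize ψ c = x
      revert x
      decide
    obtain ⟨v, -, hv⟩ := En.exists_refl (hp := tE7) h.rt (S := {c}) rfl
    refine h0 ?_
    have h3 : ψ + φ = cw tE7 ψ v := AddMonoidHom.ext fun a => by
      rw [cw_apply, hv, map_sub, map_zsmul, h2, AddMonoidHom.add_apply, h.eq, zsmul_one, sub_eq_add_neg, neg2]
    rw [h3]
    exact ncard_cw tE7 ψ v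

/-! ### seven orthogonal roots -/

/-- the coroot functional -/
noncomputable def cpH {c : Lat 7} (hc : Rt tE7 c) : Lat 7 →+ ℤ :=
  AddMonoidHom.mk' (fun a => cp tE7 a c) fun a b => Cb.cp_add tE7 a b hc

theorem cpH_apply {c : Lat 7} (hc : Rt tE7 c) (a : Lat 7) : cpH hc a = cp tE7 a c := rfl

section seven

variable {ι : Type} [Fintype ι] [DecidableEq ι] (h7 : Fintype.card ι = 7) {c : ι → Lat 7} (hc : ∀ i, Rt tE7 (c i))
  (ho : ∀ i j, i ≠ j → cp tE7 (c i) (c j) = 0)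

include h7 hc ho

theorem span7 (a : Lat 7) : ∃ n : ℤ, n ≠ 0 ∧ ∃ g : ι → ℤ, n • a = ∑ i, g i • c i := by
  have h1 : ¬ LinearIndependent ℤ fun o : Option ι => o.elim a c := fun h => by
    have h2 := h.fintype_card_le_finrank
    rw [Fintype.card_option, h7, Module.finrank_fin_fun] at h2
    omega
  obtain ⟨g, h2, i, hi⟩ := Fintype.not_linearIndependent_iff.1 h1
  rw [Fintype.sum_option] at h2
  change g none • a + ∑ i, g (some i) • c i = 0 at h2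
  refine ⟨g none, fun h3 => hi ?_, fun i => -g (some i), ?_⟩
  · rcases i with _ | i
    · exact h3
    · rw [h3, zero_smul, zero_add] at h2
      have h4 := congrArg (cpH (hc i)) h2
      rw [map_sum, map_zero, Finset.sum_eq_single i, map_zsmul, cpH_apply, Cb.cp_self tE7 (hc i), smul_eq_mul] at h4
      · omega
      · intro j _ hj
        rw [map_zsmul, cpH_apply, ho j i hj, smul_zero]
      · exact fun h => absurd (Finset.mem_univ i) h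
  · rw [eq_neg_of_add_eq_zero_left h2, ← Finset.sum_neg_distrib]
    exact Finset.sum_congr rfl fun i _ => (neg_smul _ _).symm

theorem eq_one7 {w : CoxeterMatrix.E₇.Group} (hw : ∀ i, wa tE7 w (c i) = c i) : w = 1 := by
  refine rep_injective CoxeterMatrix.E₇.toCoxeterSystem tE7.isCartan (LinearMap.ext fun a => ?_)
  obtain ⟨n, hn, g, hg⟩ := span7 h7 hc ho a
  have h1 : n • wa tE7 w a = n • a := by
    rw [← Cb.wa_smul, hg]
    exact (map_sum _ _ _).trans (Finset.sum_congr rfl fun i _ => (Cb.wa_smul tE7 w _ _).trans (by rw [hw]))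
  exact (smul_right_injective _ hn h1).trans (Cb.wa_one tE7 a).symm

theorem mem_WW7 {S : Set (Lat 7)} (hS : ∀ i, c i ∈ S) (s : Finset ι) : ∀ w : CoxeterMatrix.E₇.Group,
    (∀ i, wa tE7 w (c i) = c i ∨ wa tE7 w (c i) = -c i) → (∀ i, i ∉ s → wa tE7 w (c i) = c i) → w ∈ WW tE7 S := by
  induction s using Finset.induction_on with
  | empty =>
    intro w _ h2
    rw [eq_one7 h7 hc ho fun i => h2 i (Finset.notMem_empty i)]
    exact one_mem _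
  | insert j s hj ih =>
    intro w h1 h2
    rcases h1 j with h3 | h3
    · refine ih w h1 fun i hi => ?_
      by_cases h4 : i = j
      · rw [h4, h3]
      · exact h2 i fun h5 => (Finset.mem_insert.1 h5).elim h4 hi
    · obtain ⟨v, hv, hv'⟩ := En.exists_refl (hp := tE7) (hc j) (hS j)
      have h4 : wa tE7 (v * w) (c j) = c j := by
        rw [Cb.wa_mul, h3, Cb.wa_neg, hv', Cb.cp_self tE7 (hc j), two_smul]
        abel
      have h5 : ∀ i, i ≠ j → wa tE7 v (c i) = c i := fun i hi => by rw [hv', ho i j hi, zero_smul, sub_zero]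
      have h6 := ih (v * w) (fun i => ?_) fun i hi => ?_
      · exact (Subgroup.mul_mem_cancel_left _ hv).1 h6
      · by_cases h8 : i = j
        · rw [h8]
          exact Or.inl h4
        · rw [Cb.wa_mul]
          rcases h1 i with h9 | h9
          · exact Or.inl (by rw [h9, h5 i h8])
          · exact Or.inr (by rw [h9, Cb.wa_neg, h5 i h8])
      · by_cases h8 : i = j
        · rw [h8, h4]
        · rw [Cb.wa_mul, h2 i fun h5 => (Finset.mem_insert.1 h5).elim h8 hi, h5 i h8]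

theorem not_perp7 {a : Lat 7} (ha : Rt tE7 a) : ¬ ∀ i, cp tE7 (c i) a = 0 := by
  intro h
  obtain ⟨n, hn, g, hg⟩ := span7 h7 hc ho a
  have h1 := congrArg (cpH ha) hg
  rw [map_sum, map_zsmul, cpH_apply, Cb.cp_self tE7 ha, smul_eq_mul,
    Finset.sum_eq_zero fun i _ => by rw [map_zsmul, cpH_apply, h i, smul_zero]] at h1
  omega

end seven

/-- the symplectic form vanishes -/
def Oz (φ ψ : Lat 7 →+ ZMod 2) : Prop := ∀ c, Co φ c → ψ c = 0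

section oz

variable {φ ψ χ : Lat 7 →+ ZMod 2}

theorem oz_of (h : Ort φ ψ) : Oz φ ψ := fun c hc => h c hc.a1c

theorem oz_self (φ : Lat 7 →+ ZMod 2) : Oz φ φ := fun c hc => hc.self

theorem Oz.add (h : Oz φ ψ) (h' : Oz φ χ) : Oz φ (ψ + χ) := fun c hc => by
  rw [AddMonoidHom.add_apply, h c hc, h' c hc, add_zero]

theorem Oz.smul (h : Oz φ ψ) (a : ZMod 2) : Oz φ (a • ψ) := fun c hc => by
  rw [AddMonoidHom.smul_apply, h c hc, smul_zero]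

theorem Oz.cancel (h : Oz φ ψ) (h' : Oz φ (ψ + χ)) : Oz φ χ := fun c hc => by
  have h1 := h' c hc
  rwa [AddMonoidHom.add_apply, h c hc, zero_add] at h1

theorem Oz.symm (h : Oz φ ψ) (he : eps φ = 0) : Oz ψ φ := fun c' hc' => by
  by_cases h0 : φ = 0
  · rw [h0]
    rfl
  obtain ⟨c, hc⟩ := of_eps h0 he
  rw [hc.eq, En.cp_symm hc'.rt hc.rt, ← hc'.eq]
  exact h c hc

end oz

theorem add_eq_zero2 {φ ψ : Lat 7 →+ ZMod 2} (h : φ + ψ = 0) : φ = ψ :=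
  AddMonoidHom.ext fun a => by
    have h1 := DFunLike.congr_fun h a
    rw [AddMonoidHom.add_apply, AddMonoidHom.zero_apply] at h1
    rw [eq_neg_of_add_eq_zero_left h1, neg2]

theorem z2 (x : ZMod 2) : x = 0 ∨ x = 1 := by revert x; decide

theorem l4 (φ₁ φ₂ φ₃ : Lat 7 →+ ZMod 2) (n1 : nk tE7 φ₁ = 62) (n2 : nk tE7 φ₂ = 62) (n3 : nk tE7 φ₃ = 62)
    (h12 : φ₁ ≠ φ₂) (h31 : φ₃ ≠ φ₁) (h32 : φ₃ ≠ φ₂) (h3 : φ₃ ≠ φ₁ + φ₂) (o12 : Ort φ₁ φ₂) (o13 : Ort φ₁ φ₃)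
    (o23 : Ort φ₂ φ₃) :
    (∀ w, Fixs tE7 w φ₁ → Fixs tE7 w φ₂ → Fixs tE7 w φ₃ → w ∈ WW tE7 (Psi tE7 φ₁ ∩ Psi tE7 φ₂ ∩ Psi tE7 φ₃)) ∧
    ∀ φ₄ : Lat 7 →+ ZMod 2, eps φ₄ = 0 → Ort φ₁ φ₄ → Ort φ₂ φ₄ → Ort (φ₁ + φ₃) (φ₂ + φ₄) →
      ∃ i j k : ℕ, φ₄ = i • φ₁ + j • φ₂ + k • φ₃ := by
  classical
  have e1 := (of_nk n1).1
  have e2 := (of_nk n2).1
  have e3 := (of_nk n3).1
  have z1 : φ₁ ≠ 0 := ne_zero_of_nk (by omega)
  have z2' : φ₂ ≠ 0 := ne_zero_of_nk (by omega)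
  have z3 : φ₃ ≠ 0 := ne_zero_of_nk (by omega)
  let f : ZMod 2 × ZMod 2 × ZMod 2 → (Lat 7 →+ ZMod 2) := fun v => v.1 • φ₁ + v.2.1 • φ₂ + v.2.2 • φ₃
  have fe : ∀ v, eps (f v) = 0 := fun v => by
    change v.1 • eps φ₁ + v.2.1 • eps φ₂ + v.2.2 • eps φ₃ = 0
    rw [e1, e2, e3, smul_zero, smul_zero, smul_zero, add_zero, add_zero]
  have f0 : ∀ v, f v = 0 → v = 0 := by
    rintro ⟨a, b, c⟩ h
    change a • φ₁ + b • φ₂ + c • φ₃ = 0 at h
    rcases z2 a with rfl | rfl <;> rcases z2 b with rfl | rfl <;> rcases z2 c with rfl | rfl <;>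
      simp only [zero_smul, one_smul, zero_add, add_zero] at h
    · rfl
    · exact absurd h z3
    · exact absurd h z2'
    · exact absurd (add_eq_zero2 h).symm h32
    · exact absurd h z1
    · exact absurd (add_eq_zero2 h).symm h31
    · exact absurd (add_eq_zero2 h) h12
    · exact absurd (add_eq_zero2 h).symm h3
  have finj : ∀ v v', f v = f v' → v = v' := fun v v' h => by
    refine sub_eq_zero.1 (f0 _ ?_)
    have h1 : f (v - v') = f v - f v' := by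
      change (v.1 - v'.1) • φ₁ + (v.2.1 - v'.2.1) • φ₂ + (v.2.2 - v'.2.2) • φ₃ =
        v.1 • φ₁ + v.2.1 • φ₂ + v.2.2 • φ₃ - (v'.1 • φ₁ + v'.2.1 • φ₂ + v'.2.2 • φ₃)
      rw [sub_smul, sub_smul, sub_smul]
      abel
    rw [h1, h, sub_self]
  have fo : ∀ {ψ : Lat 7 →+ ZMod 2}, Oz ψ φ₁ → Oz ψ φ₂ → Oz ψ φ₃ → ∀ v, Oz ψ (f v) := fun a b c v =>
    ((a.smul _).add (b.smul _)).add (c.smul _)
  have p1 := fun v => (fo (oz_self φ₁) (oz_of o12) (oz_of o13) v).symm e1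
  have p2 := fun v => (fo ((oz_of o12).symm e1) (oz_self φ₂) (oz_of o23) v).symm e2
  have p3 := fun v => (fo ((oz_of o13).symm e1) ((oz_of o23).symm e2) (oz_self φ₃) v).symm e3
  have hex : ∀ v : {v : ZMod 2 × ZMod 2 × ZMod 2 // v ≠ 0}, ∃ c, Co (f v.1) c := fun v =>
    of_eps (fun h => v.2 (f0 _ h)) (fe _)
  choose c hc using hex
  have h7 : Fintype.card {v : ZMod 2 × ZMod 2 × ZMod 2 // v ≠ 0} = 7 := by
    rw [Fintype.card_subtype_compl, Fintype.card_subtype_eq]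
    rfl
  have ho : ∀ i j, i ≠ j → cp tE7 (c i) (c j) = 0 := by
    intro i j hij
    have h1 : f j.1 (c i) = 0 := fo (p1 _) (p2 _) (p3 _) _ _ (hc i)
    rw [(hc j).eq] at h1
    rcases even_cp (hc i).rt (hc j).rt h1 with h2 | h2 | h2
    · exact absurd (Subtype.ext (finj _ _ ((hc i).eq_of (h2 ▸ hc j)))) hij
    · exact absurd (Subtype.ext (finj _ _ ((hc i).eq_of (h2 ▸ (hc j).neg)))) hij
    · exact h2
  refine ⟨fun w w1 w2 w3 => ?_, fun φ₄ e4 o14 o24 o4 => ?_⟩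
  · refine mem_WW7 h7 (fun i => (hc i).rt) ho (S := Psi tE7 φ₁ ∩ Psi tE7 φ₂ ∩ Psi tE7 φ₃)
      (fun i => ⟨⟨⟨(hc i).rt, p1 _ _ (hc i)⟩, (hc i).rt, p2 _ _ (hc i)⟩, (hc i).rt, p3 _ _ (hc i)⟩) Finset.univ w
      (fun i => (hc i).uniq (A1c.wa' (fun a => ?_) (hc i).a1c)) fun i hi => absurd (Finset.mem_univ i) hi
    change i.1.1 • φ₁ (wa tE7 w a) + i.1.2.1 • φ₂ (wa tE7 w a) + i.1.2.2 • φ₃ (wa tE7 w a) = _
    rw [w1, w2, w3]
    rfl
  · by_cases h0 : φ₄ = 0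
    · exact ⟨0, 0, 0, by rw [h0, zero_smul, zero_smul, zero_smul, add_zero, add_zero]⟩
    obtain ⟨a, ha⟩ := of_eps h0 e4
    have q1 := (oz_of o14).symm e1
    have q2 := (oz_of o24).symm e2
    have q13 : Oz (φ₁ + φ₃) φ₂ := (((oz_of o12).symm e1).add (oz_of o23)).symm e2
    have q3 := q1.cancel ((q13.cancel (oz_of o4)).symm (by rw [eps_add, e1, e3, add_zero]))
    have h1 : ∃ v, φ₄ = f v := by
      by_contra h1
      refine not_perp7 h7 (fun i => (hc i).rt) ho ha.rt fun i => ?_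
      have h2 : f i.1 a = 0 := fo q1 q2 q3 _ _ ha
      rw [(hc i).eq] at h2
      rcases even_cp ha.rt (hc i).rt h2 with h3 | h3 | h3
      · exact (h1 ⟨_, ha.eq_of (h3 ▸ hc i)⟩).elim
      · exact (h1 ⟨_, ha.eq_of (h3 ▸ (hc i).neg)⟩).elim
      · rw [En.cp_symm (hc i).rt ha.rt, h3]
    obtain ⟨v, hv⟩ := h1
    have h2 : ∀ (x : ZMod 2) (ψ : Lat 7 →+ ZMod 2), x • ψ = x.val • ψ := fun x ψ => by
      rw [← Nat.cast_smul_eq_nsmul (ZMod 2), ZMod.natCast_zmod_val]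
    exact ⟨v.1.val, v.2.1.val, v.2.2.val, by rw [← h2, ← h2, ← h2]; exact hv⟩

theorem l6 (χ : Lat 7 →+ ZMod 3) (h0 : χ ≠ 0) : nk tE7 χ = 36 ∨ nk tE7 χ = 42 ∨ nk tE7 χ = 60 ∨ nk tE7 χ = 72 := by
  obtain ⟨w, P, hP, hr⟩ := exists_K3 χ
  have h1 : nk tE7 χ = 2 * cn 3 P := (ncard_cw tE7 χ w).symm.trans hr.nk_eq
  have h2 := al_iff.1 chk6 P hP
  simp only [Bool.or_eq_true, Nat.beq_eq] at h2
  rcases h2 with h2 | h2
  · exact absurd (hr.eq_zero h2) (cw_ne tE7 h0 w)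
  · omega

theorem psi_prod {K K' : Type} [AddCommGroup K] [AddCommGroup K'] (φ : Lat 7 →+ K) (χ : Lat 7 →+ K') :
    Psi tE7 φ ∩ Psi tE7 χ = Psi tE7 (φ.prod χ) := by
  ext a
  exact ⟨fun h => ⟨h.1.1, Prod.ext h.1.2 h.2.2⟩, fun h => ⟨⟨h.1, congrArg Prod.fst h.2⟩, h.1, congrArg Prod.snd h.2⟩⟩

theorem l7 (φ : Lat 7 →+ ZMod 2) (χ : Lat 7 →+ ZMod 3) (h1 : nk tE7 φ = 56) (h2 : nk tE7 χ = 60) :
    (Psi tE7 φ ∩ Psi tE7 χ).ncard ≠ 22 := by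
  obtain ⟨w, P, hP, hr⟩ := exists_K3 χ
  obtain ⟨Q, hQ, hq⟩ := exists_pat (cw tE7 φ w)
  have h3 : nk tE7 χ = 2 * cn 3 P := (ncard_cw tE7 χ w).symm.trans hr.nk_eq
  have h4 : nk tE7 φ = 2 * cn 2 Q := (ncard_cw tE7 φ w).symm.trans hq.nk_eq
  have h5 : (Psi tE7 φ ∩ Psi tE7 χ).ncard = 2 * cnt (fun e => zr 2 (dot e.b Q) && zr 3 (dot e.b P)) dE7.T := by
    rw [psi_prod, ← ncard_cw tE7 _ w]
    refine tabE7.ncard_eq _ fun e he => ?_
    rw [Bool.and_eq_true_iff]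
    exact (and_congr (hq.zero_iff he) (hr.zero_iff he)).trans ⟨fun h => Prod.ext h.1 h.2,
      fun h => ⟨congrArg Prod.fst h, congrArg Prod.snd h⟩⟩
  have h6 := al_iff.1 chk7 P hP
  rw [show cn 3 P = 30 by omega, Nat.beq_refl, Bool.not_true, Bool.false_or] at h6
  have h7 := al_iff.1 h6 Q hQ
  rw [show cn 2 Q = 28 by omega] at h7
  have h8 : Nat.beq (cnt (fun e => zr 2 (dot e.b Q) && zr 3 (dot e.b P)) dE7.T) 11 = false := by simpa using h7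
  have := Nat.ne_of_beq_eq_false h8
  omega

/-- **`BoxL7`.** -/
theorem boxL7 : BoxL7 where
  l1 φ h := by rcases cases2 h with h1 | h1 <;> omega
  l2 φ h := by
    rcases cases2 h with h1 | h1
    · exact ⟨fun _ => h1.2.1, fun _ => h1.1⟩
    · exact ⟨fun h2 => absurd h2 h1.1, fun h2 => by omega⟩
  l3 φ h := by
    obtain ⟨-, c, hc⟩ := of_nk h
    exact ⟨c, hc.a1c, fun c' h' => hc.uniq h', hc.eq, fun ψ hψ => hc.nk_ne hψ⟩
  l4 := l4
  l6 := l6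
  l7 := l7

/-- **The type `E₆ T₁`.** -/
theorem exists_om {φ : Lat 7 →+ ZMod 2} (h : nk tE7 φ = 72) : ∃ ω : Lat 7 →+ ℤ,
    (∀ a, Rt tE7 a → ω a = 0 ∨ ω a = 1 ∨ ω a = -1) ∧ (∀ a, φ a = (ω a : ZMod 2)) ∧ (∃ a, Rt tE7 a ∧ ω a = 1) ∧
    ∀ f : Lat 7 ≃+ Lat 7, (∀ a, Rt tE7 (f a) ↔ Rt tE7 a) → (∀ a, φ (f a) = φ a) →
      (∀ a, ω (f a) = ω a) ∨ ∀ a, ω (f a) = -ω a := by
  obtain ⟨w, P, hP, hr⟩ := exists_K2 φ
  have h1 : nk tE7 φ = 2 * cn 2 P := (ncard_cw tE7 φ w).symm.trans hr.nk_eq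
  have h2 := al_iff.1 chk4 P hP
  rw [show cn 2 P = 36 by omega] at h2
  have h3 : P = [0, 0, 0, 0, 0, 0, 1] := leq_iff.1 (by simpa using h2)
  have h4 : toF 7 P = sr 6 := by
    rw [h3]
    decide +kernel
  have h5 : ∀ a, cw tE7 φ w a = (a 6 : ZMod 2) := fun a => by rw [hr.eq, h4, psi_sr']
  have h6 : ∀ a, Rt tE7 a → a 6 = 0 ∨ a 6 = 1 ∨ a 6 = -1 := by
    refine tabE7.of_T (P := fun a => a 6 = 0 ∨ a 6 = 1 ∨ a 6 = -1) (fun a h => ?_) fun e he => ?_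
    · rw [Pi.neg_apply]
      omega
    · rcases Bool.or_eq_true_iff.1 (al_iff.1 chk5 e he) with h7 | h7
      · exact Or.inl (ieq_iff.1 h7)
      · exact Or.inr (Or.inl (ieq_iff.1 h7))
  have h7 : Ex1 tE7 (cw tE7 φ w) 6 := fun a ha => by
    rw [h5, ZMod.intCast_zmod_eq_zero_iff_dvd]
    have := h6 a ha
    push_cast
    omega
  refine ⟨cw tE7 (psi (sr 6)) w⁻¹, fun a ha => ?_, fun a => ?_, ⟨wa tE7 w (sr 6), (Cb.rt_sr tE7 6).act w, ?_⟩,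
    fun f hf hφ => ?_⟩
  · rw [cw_apply, psi_sr']
    exact h6 _ (ha.act _)
  · rw [cw_apply, psi_sr', ← h5, cw_apply, Cb.wa_inv']
  · rw [cw_apply, Cb.wa_inv, psi_sr', sr_self]
  · have h8 := h7.res (gw tE7 f w) (fun a => by rw [gw_apply, rt_wa, hf, rt_wa]) (e := 1) fun a => by
      rw [cw_apply, cw_apply, gw_apply, Cb.wa_inv', hφ, one_mul]
    refine h8.imp (fun h9 a => ?_) fun h9 a => ?_
    · have h10 := h9.2 (wa tE7 w⁻¹ a)
      rw [gw_apply, Cb.wa_inv'] at h10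
      rw [cw_apply, cw_apply, psi_sr', psi_sr', h10]
    · have h10 := h9.2 (wa tE7 w⁻¹ a)
      rw [gw_apply, Cb.wa_inv'] at h10
      rw [cw_apply, cw_apply, psi_sr', psi_sr', h10]

end Cfsg.Agent.Cam.Odd.L7
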