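import Cfsg.Agent.Cam.Odd.K3
import Cfsg.Agent.Cam.Odd.L7
import Cfsg.Agent.Cam.Ex.Five2B
import Cfsg.Agent.Cam.Ex.PGrp

/-!
# An involution of type `E₆ T₁`: `BoxSt` (helper53)
-/

set_option autoImplicit false
set_option linter.unusedVariables false
set_option linter.unusedSectionVars false

namespace Cfsg.Agent.Cam.Odd.St

open CoxeterSystem Cfsg Cfsg.Lie Subgroup Module
open Cfsg.Agent.Tits.Roots Cfsg.Agent.Nodes.BNOf Cfsg.Agent.Nodes.RGDChev Cfsg.Agent.KFacts.RgdChevCoord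
open Cfsg.Agent.ChevalleyStructure.CoxeterGeom Cfsg.Agent.ChevalleyStructure.CoxeterGeomTypes
open Cfsg.Agent.Cam.Spor Cfsg.Agent.Cam.Ex Cfsg.Agent.TwoFusion.PerfCore
open Cfsg.Agent.DS.Nt (dd Tp RP DZ)

variable {D : ChevalleyDatum} {l : ℕ} {M : CoxeterMatrix (Fin l)} {hp : IsType D l M} {p : ℕ} [Fact p.Prime]

/-- `ω` is a minuscule lift of `φ`, unique up to sign -/
structure Om (hp : IsType D l M) (φ : Lat l →+ ZMod 2) (ω : Lat l →+ ℤ) : Prop where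
  val : ∀ a, Rt hp a → ω a = 0 ∨ ω a = 1 ∨ ω a = -1
  eq : ∀ a, φ a = (ω a : ZMod 2)
  one : ∃ a, Rt hp a ∧ ω a = 1
  sgn : ∀ f : Lat l ≃+ Lat l, (∀ a, Rt hp (f a) ↔ Rt hp a) → (∀ a, φ (f a) = φ a) →
    (∀ a, ω (f a) = ω a) ∨ ∀ a, ω (f a) = -ω a

/-- reduction modulo `m` -/
def md (m : ℕ) (ω : Lat l →+ ℤ) : Lat l →+ ZMod m := (Int.castAddHom (ZMod m)).comp ω

theorem md_apply (m : ℕ) (ω : Lat l →+ ℤ) (a : Lat l) : md m ω a = (ω a : ZMod m) := rfl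

variable {φ : Lat l →+ ZMod 2} {ω : Lat l →+ ℤ}

theorem Om.zero (h : Om hp φ ω) {a : Lat l} (ha : a ∈ Psi hp φ) : ω a = 0 := by
  have h1 := ha.2
  rw [h.eq] at h1
  rcases h.val a ha.1 with h2 | h2 | h2
  · exact h2
  · rw [h2] at h1
    exact absurd h1 (by decide)
  · rw [h2] at h1
    exact absurd h1 (by decide)

theorem Om.mem_WW (hl : l ≤ 7) (h : Om hp φ ω) {w : M.Group} (hw : ∀ a, ω (wa hp w a) = ω a) :
    w ∈ WW hp (Psi hp φ) := by
  have h1 := boxConn D l M hp hl 5 (by norm_num) le_rfl {md 5 ω} w (by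
    rintro _ rfl a
    rw [md_apply, md_apply, hw])
  have h2 : {a | Rt hp a ∧ ∀ ψ ∈ ({md 5 ω} : Set (Lat l →+ ZMod 5)), ψ a = 0} = Psi hp φ := by
    ext a
    constructor
    · rintro ⟨ha, h3⟩
      have h4 := h3 _ rfl
      rw [md_apply] at h4
      refine ⟨ha, ?_⟩
      rw [h.eq]
      rcases h.val a ha with h5 | h5 | h5 <;> rw [h5] at h4 ⊢
      · rfl
      · exact absurd h4 (by decide)
      · exact absurd h4 (by decide)
    · intro ha
      refine ⟨ha.1, ?_⟩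
      rintro _ rfl
      rw [md_apply, h.zero ha, Int.cast_zero]
  rwa [h2] at h1

variable {m : ℕ} [NeZero m] {ζ : kb p} {x s : YY D p}

theorem Om.comm (h : Om hp φ ω) (hs : Chi hp ζ s (md m ω)) {y : YY D p} (hy : y ∈ MS D l p (Psi hp φ)) :
    y * s = s * y :=
  En.comm_MS (hp := hp) (fun a ha => ha.1) hs.1 (fun a ha => by
    rw [hs.2 a ha.1, md_apply, h.zero ha, Int.cast_zero, ZMod.val_zero, pow_zero]) hy

/-- the centralizer of `x` normalizes the central torus -/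
theorem Om.conj (hl : l ≤ 7) (h2 : p ≠ 2) (h : Om hp φ ω) (hζ : IsPrimitiveRoot ζ m) (hx : Chi hp (-1) x φ)
    (hs : Chi hp ζ s (md m ω)) {c : YY D p} (hc : c * x = x * c) :
    (c ∈ DZ hp p {x} ∧ c * s * c⁻¹ = s) ∨ c * s * c⁻¹ = s⁻¹ := by
  obtain ⟨y, hy, w, k, hk, hkx, rfl⟩ := form_one (hp := hp) hx.1 hx.1 (n := c) (by rw [hc, mul_inv_cancel_right])
  have hw : Fixs hp w φ := Chi.of_conj (prim2 h2) hx hx fun a ha => by
    have h1 := ch_rp hk hx.1 ha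
    rwa [hkx] at h1
  have hy' : y * s = s * y := h.comm hs (by rwa [← hx.psiS (prim2 h2)])
  have e : y * k * s * (y * k)⁻¹ = y * (k * s * k⁻¹) * y⁻¹ := by group
  rcases h.sgn (BpExc.Fr.repAut M.toCoxeterSystem hp.isCartan w) (Cb.rt_wa hp w) hw with h1 | h1
  · left
    have h3 : k * s * k⁻¹ = s := Five2.conj_of_rp hk hs.1 hs.1 fun a ha => by
      rw [hs.2 _ (ha.wa' w), hs.2 a ha, md_apply, md_apply]
      exact congrArg (fun z : ℤ => ζ ^ (z : ZMod m).val) (h1 a)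
    refine ⟨?_, by rw [e, h3, hy', mul_inv_cancel_right]⟩
    have h4 := h.mem_WW hl h1
    rw [← hx.psiS (prim2 h2)] at h4
    have cs := cs_psiS (hp := hp) (Q := {x}) (by rintro _ rfl; exact hx.1)
    obtain ⟨y', hy1, hk'⟩ := DS.Ex.Tor.exists_rp_MS (p := p) (fun a ha => ha.1) (fun a ha => cs.neg a ha) h4
    have h5 : y'⁻¹ * k ∈ TT D (kb p) := by
      have h6 := hk'.inv.mul hk
      rw [inv_mul_cancel] at h6
      exact h6.mem_T
    refine mul_mem (DS.Nt.Mz_le_DZ hy) ?_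
    rw [show k = y' * (y'⁻¹ * k) by group]
    exact mul_mem (DS.Nt.Mz_le_DZ hy1) (DS.Nt.T_le_DZ h5)
  · right
    have h3 : k * s * k⁻¹ = s⁻¹ := conj_of_neg hζ hs hk fun a => by
      rw [md_apply, md_apply, ← Int.cast_neg]
      exact congrArg (fun z : ℤ => (z : ZMod m)) (h1 a)
    rw [e, h3, mul_inv_eq_iff_eq_mul]
    exact (Commute.inv_right (show Commute y s from hy')).eq

variable {d : ℕ} {g0 : Lat l ≃+ Lat l} {L : Type} [Group L] [Finite L] {U : Type} [Group U] [Finite U]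
  {τ α β : U →* L} {R R' : Subgroup L}

theorem exists_mod (E : Frame hp p d g0 L) (hq : 7 ≤ E.q) {e : ℤ} (he : e = 1 ∨ e = -1) :
    ∃ m : ℕ, 6 ≤ m ∧ m.Coprime p ∧ (E.q : ZMod m) = e := by
  have hd : p ∣ E.q := dvd_pow_self p E.he.ne'
  have hp' : p.Prime := Fact.out
  rcases he with rfl | rfl
  · obtain ⟨m, hm⟩ : ∃ m, E.q = m + 1 := ⟨E.q - 1, by omega⟩
    refine ⟨m, by omega, ((Nat.Prime.coprime_iff_not_dvd hp').2 fun h => ?_).symm, ?_⟩
    · rw [hm] at hd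
      exact hp'.one_lt.ne' (Nat.dvd_one.1 ((Nat.dvd_add_right h).1 hd))
    · rw [hm, Nat.cast_succ, ZMod.natCast_self, zero_add, Int.cast_one]
  · refine ⟨E.q + 1, by omega, ((Nat.Prime.coprime_iff_not_dvd hp').2 fun h => ?_).symm, ?_⟩
    · exact hp'.one_lt.ne' (Nat.dvd_one.1 ((Nat.dvd_add_right hd).1 h))
    · have h1 := ZMod.natCast_self (E.q + 1)
      rw [Nat.cast_succ] at h1
      rw [Int.cast_neg, Int.cast_one]
      exact eq_neg_of_add_eq_zero_left h1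

theorem tp_of (big : Big) (hl : l ≤ 7) (E : Frame hp p d g0 L) (C : Core τ α β R R') (h2 : p ≠ 2) (hq : 7 ≤ E.q)
    {u u' : U} (hu : u ^ 2 = 1) (hu' : u' ^ 2 = 1) (hc : u * u' = u' * u) (hx : Chi hp (-1) (E.ι (τ u)) φ)
    (h : Om hp φ ω) : Tp p (E.ι (τ u)) (E.ι (τ u')) := by
  obtain ⟨e, he, hg⟩ : ∃ e : ℤ, (e = 1 ∨ e = -1) ∧ ∀ a, ω (E.g a) = e * ω a := by
    rcases h.sgn E.g E.fr.root (chi2_g E h2 hx) with h1 | h1
    · exact ⟨1, Or.inl rfl, fun a => by rw [h1, one_mul]⟩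
    · exact ⟨-1, Or.inr rfl, fun a => by rw [h1, neg_one_mul]⟩
  obtain ⟨m, h6, hm, hqe⟩ := exists_mod E hq he
  have : NeZero m := ⟨by omega⟩
  obtain ⟨ζ, hζ⟩ := exists_zeta p hm
  obtain ⟨s, hs⟩ := chi_sur hp hζ (md m ω)
  have hF : E.F s = s := E.fix_of_chi hζ hs fun a => by rw [md_apply, md_apply, hg, hqe, Int.cast_mul]
  have hn : E.ι (τ u') * E.ι (τ u) = E.ι (τ u) * E.ι (τ u') := by
    rw [← map_mul, ← map_mul, ← map_mul, ← map_mul, hc]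
  rcases h.conj hl h2 hζ hx hs hn with h1 | h1
  · obtain ⟨g, h3, h4⟩ := tor_DZ (hp := hp) h2 (Set.finite_singleton _) (by
      rintro _ rfl
      exact ⟨hx.1, hx.pow_eq_one (prim2 h2)⟩) h1.1 (by rw [← map_pow, ← map_pow, hu', map_one, map_one])
    exact ⟨g, h3 _ rfl, h4⟩
  exfalso
  have hR : ∀ r ∈ R, E.ι r * s = s * E.ι r := fun r hr => h.comm hs (by
    rw [← hx.psiS (prim2 h2)]
    refine E.perf_le Nat.prime_two (Q := {E.ι (τ u)}) ?_ C.pair.perfect ?_ ⟨r, hr, rfl⟩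
    · rintro _ rfl
      exact ⟨hx.1, hx.pow_eq_one (prim2 h2)⟩
    · rintro _ rfl y hy
      rw [← map_mul, ← map_mul, C.pair.comm u y hy])
  obtain ⟨σ, hσ⟩ := Five2.exists_aut E hF
  have hσ1 : ∀ y, E.ι (σ y) = s * E.ι y * s⁻¹ := fun y => by
    have h3 := hσ 1 y
    rwa [pow_one, pow_one] at h3
  have hT : (σ.toMonoidHom.comp τ).range ≤ τ.range := by
    refine P.perf_le big C (range_perfect C.simple C.noncomm _) ?_
    rintro _ ⟨v, rfl⟩
    refine mem_centralizer_iff.2 fun r hr => E.inj ?_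
    change E.ι (r * σ (τ v)) = E.ι (σ (τ v) * r)
    have h3 : E.ι (τ v) * E.ι r = E.ι r * E.ι (τ v) := by rw [← map_mul, ← map_mul, C.pair.comm v r hr]
    have h4 : s⁻¹ * E.ι r = E.ι r * s⁻¹ := (Commute.inv_right (show Commute (E.ι r) s from hR r hr)).eq.symm
    rw [map_mul, map_mul, hσ1, mul_assoc _ s⁻¹, h4, ← mul_assoc, ← mul_assoc, hR r hr, mul_assoc s, ← h3]
    group
  obtain ⟨v, hv⟩ := hT ⟨u', rfl⟩
  have hy : E.ι (τ (v * u'⁻¹)) = s * s := by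
    have h3 : E.ι (τ v) = s * E.ι (τ u') * s⁻¹ := by
      rw [hv]
      exact hσ1 _
    have h4 : E.ι (τ u') * s⁻¹ * (E.ι (τ u'))⁻¹ = s := by
      rw [← conj_inv, h1, inv_inv]
    rw [map_mul, map_mul, map_inv, map_inv, h3, mul_assoc, mul_assoc, ← mul_assoc (E.ι _), h4]
  generalize v * u'⁻¹ = y at hy
  have ha : E.ι (α u') * E.ι (τ u) = E.ι (τ u) * E.ι (α u') := by
    rw [← map_mul, ← map_mul, mem_centralizer_iff.1 (C.alpha_mem_cent hc) _ rfl]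
  have h3 : ∃ z, α u' * (τ y)⁻¹ * (α u')⁻¹ = τ z := by
    have e : E.ι (α u' * (τ y)⁻¹ * (α u')⁻¹) = (E.ι (α u') * s * (E.ι (α u'))⁻¹ * (E.ι (α u') * s * (E.ι (α u'))⁻¹))⁻¹ := by
      rw [map_mul, map_mul, map_inv, map_inv, hy]
      group
    rcases h.conj hl h2 hζ hx hs ha with h4 | h4
    · exact ⟨y⁻¹, E.inj (by rw [e, h4.2, map_inv, map_inv, hy])⟩
    · exact ⟨y, E.inj (by rw [e, h4, hy, mul_inv_rev, inv_inv])⟩
  obtain ⟨z, hz⟩ := h3
  have h4 : y * u' = u' * y := C.sp (centralizer_le_normalizer _ (by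
    rw [mul_assoc, mul_assoc, ← mul_assoc (α u'), hz, ← map_mul]
    exact C.pair.tau_mem_cent _))
  have h5 : s * s = s⁻¹ * s⁻¹ := by
    have h6 : E.ι (τ u') * (s * s) * (E.ι (τ u'))⁻¹ = s * s := by
      rw [← hy, ← map_mul, ← map_mul, ← h4, map_mul, map_mul, mul_inv_cancel_right]
    rw [← h6, ← h1, conj_mul]
  have h7 : s ^ 4 = 1 := by
    calc s ^ 4 = s * s * (s * s) := by rw [show 4 = 1 + 1 + (1 + 1) from rfl, pow_add, pow_add, pow_one]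
      _ = 1 := by
        nth_rewrite 1 [h5]
        group
  obtain ⟨a, ha1, ha2⟩ := h.one
  have h8 := ch_pow ha1 hs.1 4
  have : Fact (1 < m) := ⟨by omega⟩
  rw [h7, ch_one ha1, hs.2 a ha1, md_apply, ha2, Int.cast_one, ZMod.val_one, pow_one] at h8
  have := Nat.le_of_dvd (by norm_num) (hζ.dvd_of_pow_eq_one 4 h8.symm)
  omega

/-- **`BoxSt`.** -/
theorem boxSt (big : Big) : BoxSt := by
  intro p _ d hd L _ _ E U _ _ τ α β R R' C h2 hq u u' hu hu' hc h79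
  have hu2 : u ^ 2 = 1 := by rw [← hu, pow_orderOf_eq_one]
  have hu2' : u' ^ 2 = 1 := by rw [← hu', pow_orderOf_eq_one]
  have hτ : τ u ^ 2 = 1 := by rw [← map_pow, hu2, map_one]
  obtain ⟨E', hE, hx⟩ := exists_frame₁ E h2 hτ
  obtain ⟨φ, hφ⟩ := exists_chi2 E' h2 hx hτ
  have h1 := dd_chi (prim2 h2) hφ
  rw [cj_dd hE, h79] at h1
  obtain ⟨ω, h3, h4, h5, h6⟩ := L7.exists_om (φ := φ) (by omega)
  exact (cj_tp hE).1 (tp_of big le_rfl E' C h2 (by rwa [cj_q hE]) hu2 hu2' hc hφ ⟨h3, h4, h5, h6⟩)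

end Cfsg.Agent.Cam.Odd.St
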