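import Cfsg.Agent.Cam.Odd.Iface
import Cfsg.Agent.Cam.Ex.Asm
import Cfsg.Agent.DS.Nt.Kac

/-!
# Exceptional rows, odd characteristic: common tools and `K3` for involutions (helper81)
-/

set_option autoImplicit false
set_option linter.unusedVariables false
set_option linter.unusedSectionVars false

namespace Cfsg.Agent.Cam.Odd

open CoxeterSystem Cfsg Cfsg.Lie Subgroup Module
open Cfsg.Agent.Tits.Roots Cfsg.Agent.Nodes.BNOf Cfsg.Agent.Nodes.RGDChev Cfsg.Agent.KFacts.RgdChevCoord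
open Cfsg.Agent.ChevalleyStructure.CoxeterGeom Cfsg.Agent.ChevalleyStructure.CoxeterGeomTypes
open Cfsg.Agent.Cam.Spor Cfsg.Agent.Cam.Ex Cfsg.Agent.Cam.Ex.S2 Cfsg.Agent.TwoFusion.PerfCore
open Cfsg.Agent.DS.Nt (dd ad Fx Tp RP DZ)
open scoped commutatorElement

variable {D : ChevalleyDatum} {l : ℕ} {M : CoxeterMatrix (Fin l)} {hp : IsType D l M} {p : ℕ} [Fact p.Prime]

theorem prim2 (h2 : p ≠ 2) : IsPrimitiveRoot (-1 : kb p) 2 := IsPrimitiveRoot.neg_one p h2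

/-- the dimension of the fixed space of a torus element -/
theorem dd_psiS {t : YY D p} (ht : t ∈ TT D (kb p)) : dd p t = l + (PsiS hp {t}).ncard := by
  classical
  rw [DS.Nt.dd_tor (hp := hp) ht]
  congr 1
  have h1 : PsiS hp {t} = (fun s : Fin D.nroots => vec D l s) ''
      ((Finset.univ.filter fun s : Fin D.nroots => H129.TorusChar.cX hp t (vec D l s) = 1 : Finset _) : Set _) := by
    ext a
    constructor
    · rintro ⟨ha, h⟩
      obtain ⟨r, hr, rfl⟩ := (isRoot_iff hp M.toCoxeterSystem a).1 ha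
      refine ⟨⟨r, hr⟩, ?_, rfl⟩
      simp only [Finset.coe_filter, Finset.mem_univ, true_and, Set.mem_ofPred_eq]
      rw [cX_rt ht ha]
      exact h t rfl
    · rintro ⟨s, hs, rfl⟩
      simp only [Finset.coe_filter, Finset.mem_univ, true_and, Set.mem_ofPred_eq] at hs
      have ha : Rt hp (vec D l s) := (isRoot_iff hp M.toCoxeterSystem _).2 ⟨s, s.2, rfl⟩
      refine ⟨ha, fun u hu => ?_⟩
      rw [Set.mem_singleton_iff.1 hu, ← cX_rt ht ha]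
      exact hs
  rw [h1, Set.ncard_image_of_injective _ fun a b hab => Fin.ext (vec_inj hp a.2 b.2 hab), Set.ncard_coe_finset]

theorem dd_chi {m : ℕ} [NeZero m] {ζ : kb p} (hζ : IsPrimitiveRoot ζ m) {t : YY D p} {φ : Lat l →+ ZMod m}
    (h : Chi hp ζ t φ) : dd p t = l + nk hp φ := by
  rw [dd_psiS (hp := hp) h.1, h.psiS hζ]

/-- if the stabilizer in `W` is the reflection group then the centralizer is connected -/
theorem mem_DZ_of_conn {Z : Set (YY D p)} (hfin : Z.Finite) (hZ : ∀ t ∈ Z, t ∈ TT D (kb p))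
    (h : ∀ w, (∀ a, Rt hp a → ∀ t ∈ Z, ch hp (wa hp w a) t = ch hp a t) → w ∈ WW hp (PsiS hp Z)) {c : YY D p}
    (hc : ∀ t ∈ Z, c * t = t * c) : c ∈ DZ hp p Z := by
  have := finite_WW hp
  obtain ⟨m, hm, w, -, k, hk, hkZ, rfl⟩ := DS.Nt.form hp hfin hZ hc
  have hw := h w fun a ha t ht => by
    have h1 := ch_rp hk (hZ t ht) ha
    rwa [hkZ t ht, mul_inv_cancel_right] at h1
  have cs := cs_psiS (hp := hp) hZ
  obtain ⟨m', hm', hk'⟩ := DS.Ex.Tor.exists_rp_MS (p := p) (fun a ha => ha.1) (fun a ha => cs.neg a ha) hw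
  have h1 : m'⁻¹ * k ∈ TT D (kb p) := by
    have h2 := hk'.inv.mul hk
    rw [inv_mul_cancel] at h2
    exact h2.mem_T
  refine mul_mem (DS.Nt.Mz_le_DZ hm) ?_
  rw [show k = m' * (m'⁻¹ * k) by group]
  exact mul_mem (DS.Nt.Mz_le_DZ hm') (DS.Nt.T_le_DZ h1)

/-- a toral set of involutions and an involution of its connected centralizer -/
theorem tor_DZ (h2 : p ≠ 2) {Z : Set (YY D p)} (hfin : Z.Finite) (hZ : ∀ t ∈ Z, t ∈ TT D (kb p) ∧ t ^ 2 = 1)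
    {x : YY D p} (hx : x ∈ DZ hp p Z) (hx2 : x ^ 2 = 1) :
    ∃ g : YY D p, (∀ t ∈ Z, g * t * g⁻¹ ∈ TT D (kb p)) ∧ g * x * g⁻¹ ∈ TT D (kb p) := by
  have hc : ∀ t ∈ Z, x * t = t * x := fun t ht => DS.Nt.DZ_comm (fun t ht => (hZ t ht).1) hx ht
  have hQ : IsPGroup 2 (closure (insert x Z)) := DS.Nt.isPGroup_of_comm (by
    rintro a (rfl | ha) b (rfl | hb)
    · rfl
    · exact hc b hb
    · exact (hc a ha).symm
    · exact T_comm hp (hZ a ha).1 (hZ b hb).1) (by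
    rintro a (rfl | ha)
    · exact ⟨1, hx2⟩
    · exact ⟨1, (hZ a ha).2⟩)
  obtain ⟨g, hg⟩ := DS.Nt.toral_step (n := 1) Nat.prime_two h2.symm hfin (fun t ht => (hZ t ht).1) hx hx2 hQ le_rfl
  exact ⟨g, fun t ht => hg t (subset_closure (Or.inr ht)), hg x (subset_closure (Or.inl rfl))⟩

/-- a toral set of involutions and an involution of a perfect group centralizing it -/
theorem tor_perf (hp : IsType D l M) (h2 : p ≠ 2) {Z : Set (YY D p)} (hfin : Z.Finite) {z : YY D p}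
    (hZ : ∀ t ∈ Z, z * t * z⁻¹ ∈ TT D (kb p) ∧ t ^ 2 = 1) {J : Subgroup (YY D p)} (hJ : ⁅J, J⁆ = J)
    (hc : ∀ j ∈ J, ∀ t ∈ Z, j * t = t * j) {x : YY D p} (hx : x ∈ J) (hx2 : x ^ 2 = 1) :
    ∃ g : YY D p, (∀ t ∈ Z, g * t * g⁻¹ ∈ TT D (kb p)) ∧ g * x * g⁻¹ ∈ TT D (kb p) := by
  have hsq : ∀ y : YY D p, y ^ 2 = 1 → (z * y * z⁻¹) ^ 2 = 1 := fun y hy => by
    rw [conj_pow, hy, mul_one, mul_inv_cancel]
  have h1 := chi_perf hp Nat.prime_two (Q := (fun t => z * t * z⁻¹) '' Z) (by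
    rintro _ ⟨t, ht, rfl⟩
    exact ⟨(hZ t ht).1, 1, hsq t (hZ t ht).2⟩) (map_perfect hJ (MulAut.conj z).toMonoidHom) (by
    rintro _ ⟨j, hj, rfl⟩
    rw [mem_centralizer_iff]
    rintro _ ⟨t, ht, rfl⟩
    exact DS.Nt.conj_comm (hc j hj t ht).symm)
  obtain ⟨g, hg, hg'⟩ := tor_DZ (hp := hp) h2 (hfin.image fun t => z * t * z⁻¹) (by
    rintro _ ⟨t, ht, rfl⟩
    exact ⟨(hZ t ht).1, hsq t (hZ t ht).2⟩) (DS.Nt.Mz_le_DZ (h1 ⟨x, hx, rfl⟩)) (hsq x hx2)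
  refine ⟨g * z, fun t ht => ?_, ?_⟩
  · have h3 := hg _ ⟨t, ht, rfl⟩
    rwa [show g * (z * t * z⁻¹) * g⁻¹ = g * z * t * (g * z)⁻¹ by group] at h3
  · change g * (z * x * z⁻¹) * g⁻¹ ∈ _ at hg'
    rwa [show g * (z * x * z⁻¹) * g⁻¹ = g * z * x * (g * z)⁻¹ by group] at hg'

theorem A1c.map {K : Type} [AddCommGroup K] {φ : Lat l →+ K} {f : Lat l ≃+ Lat l} (hr : ∀ a, Rt hp (f a) ↔ Rt hp a)
    (hc : ∀ a c, Rt hp c → cp hp (f a) (f c) = cp hp a c) (hφ : ∀ a, φ (f a) = φ a) {c : Lat l}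
    (h : A1c hp (Psi hp φ) c) : A1c hp (Psi hp φ) (f c) := by
  refine ⟨⟨(hr c).2 h.1.1, (hφ c).trans h.1.2⟩, fun a ha => ?_⟩
  obtain ⟨a, rfl⟩ := f.surjective a
  rcases h.2 a ⟨(hr a).1 ha.1, (hφ a).symm.trans ha.2⟩ with h1 | h1 | h1
  · exact Or.inl (by rw [h1])
  · exact Or.inr (Or.inl (by rw [h1, map_neg]))
  · exact Or.inr (Or.inr (by rw [hc a c h.1.1, h1]))

theorem A1c.wa {K : Type} [AddCommGroup K] {φ : Lat l →+ K} {w : M.Group} (hφ : Fixs hp w φ) {c : Lat l}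
    (h : A1c hp (Psi hp φ) c) : A1c hp (Psi hp φ) (wa hp w c) := by
  refine ⟨⟨h.1.1.wa' w, (hφ c).trans h.1.2⟩, fun a ha => ?_⟩
  rw [← wa_wa_inv (hp := hp) w a] at ha ⊢
  rcases h.2 (Ex.wa hp w⁻¹ a) ⟨by have := ha.1.wa' w⁻¹; rwa [wa_inv_wa] at this, (hφ _).symm.trans ha.2⟩ with h1 | h1 | h1
  · exact Or.inl (by rw [h1])
  · exact Or.inr (Or.inl (by rw [h1, wa_neg]))
  · exact Or.inr (Or.inr (by rw [cp_wa w _ h.1.1, h1]))

section frame

variable {d : ℕ} {g0 : Lat l ≃+ Lat l} {L : Type} [Group L] [Finite L]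

theorem cj_q {E E' : Frame hp p d g0 L} (h : E.Cj E') : E'.q = E.q := by
  unfold Frame.q
  rw [h.1]

theorem cj_dd {E E' : Frame hp p d g0 L} (h : E.Cj E') (x : L) : dd p (E'.ι x) = dd p (E.ι x) := by
  obtain ⟨-, z, hz⟩ := h
  have h1 := DS.Nt.dd_conj z⁻¹ (E.ι x)
  rwa [inv_inv, ← hz] at h1

theorem cj_trans {E E' E'' : Frame hp p d g0 L} (h : E.Cj E') (h' : E'.Cj E'') : E.Cj E'' := by
  obtain ⟨h1, z, hz⟩ := h
  obtain ⟨h2, z', hz'⟩ := h'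
  exact ⟨h2.trans h1, z * z', fun x => by rw [hz', hz]; group⟩

theorem cj_tp {E E' : Frame hp p d g0 L} (h : E.Cj E') {x y : L} :
    Tp p (E'.ι x) (E'.ι y) ↔ Tp p (E.ι x) (E.ι y) := by
  obtain ⟨-, z, hz⟩ := h
  rw [hz, hz]
  constructor
  · intro h
    refine DS.Nt.Tp.of_conj (c := z⁻¹) ?_
    rwa [inv_inv]
  · intro h
    have h1 := h.conj z⁻¹
    rwa [inv_inv] at h1

theorem q_odd (E : Frame hp p d g0 L) (h2 : p ≠ 2) : (E.q : ZMod 2) = 1 := by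
  have h1 : Odd E.q := ((Fact.out : p.Prime).odd_of_ne_two h2).pow
  exact (ZMod.natCast_eq_one_iff_odd).2 h1

/-- the character of a toral involution of `L` -/
theorem exists_chi2 (E : Frame hp p d g0 L) (h2 : p ≠ 2) {x : L} (hx : E.ι x ∈ TT D (kb p)) (hx2 : x ^ 2 = 1) :
    ∃ φ : Lat l →+ ZMod 2, Chi hp (-1) (E.ι x) φ :=
  chi_ex hp (prim2 h2) two_pos hx (by rw [← map_pow, hx2, map_one])

theorem chi2_g (E : Frame hp p d g0 L) (h2 : p ≠ 2) {x : L} {φ : Lat l →+ ZMod 2} (h : Chi hp (-1) (E.ι x) φ)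
    (a : Lat l) : φ (E.g a) = φ a := by
  rw [h.frob (prim2 h2) boxChi E (E.fix x) a, q_odd E h2, one_mul]

theorem chi2_ne (E : Frame hp p d g0 L) (h2 : p ≠ 2) {x y : L} {φ ψ : Lat l →+ ZMod 2} (h : Chi hp (-1) (E.ι x) φ)
    (h' : Chi hp (-1) (E.ι y) ψ) (hne : x ≠ y) : φ ≠ ψ := fun e => by
  subst e
  exact hne (E.inj (Chi.eq_of (prim2 h2) boxChi h h'))

theorem chi2_ne_zero (E : Frame hp p d g0 L) (h2 : p ≠ 2) {x : L} {φ : Lat l →+ ZMod 2} (h : Chi hp (-1) (E.ι x) φ)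
    (hne : x ≠ 1) : φ ≠ 0 :=
  h.ne_zero (prim2 h2) boxChi fun e => hne (E.inj (by rw [e, map_one]))

theorem chi2_mul (E : Frame hp p d g0 L) (h2 : p ≠ 2) {x y : L} {φ ψ : Lat l →+ ZMod 2} (h : Chi hp (-1) (E.ι x) φ)
    (h' : Chi hp (-1) (E.ι y) ψ) : Chi hp (-1) (E.ι (x * y)) (φ + ψ) := by
  rw [map_mul]
  exact h.mul (prim2 h2) h'

/-- the `A₁` component is moved by the Frobenius map to an `A₁` component -/
theorem a1c_g (E : Frame hp p d g0 L) (h2 : p ≠ 2) {x : L} {φ : Lat l →+ ZMod 2} (h : Chi hp (-1) (E.ι x) φ)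
    {c : Lat l} (hc : A1c hp (Psi hp φ) c) : A1c hp (Psi hp φ) (E.g c) :=
  A1c.map E.fr.root E.gcp (chi2_g E h2 h) hc

/-- a perfect group centralizing a toral involution acts on an `A₁` component by inner automorphisms -/
theorem inn_of_perf (h2 : p ≠ 2) {x : YY D p} {φ : Lat l →+ ZMod 2} (h : Chi hp (-1) x φ) {c : Lat l}
    (hc : A1c hp (Psi hp φ) c) {J : Subgroup (YY D p)} (hJ : ⁅J, J⁆ = J) (hx : ∀ j ∈ J, x * j = j * x) {j : YY D p}
    (hj : j ∈ J) : ∃ s, IA (sl p hc.1.1) j s := by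
  have h1 := chi_perf hp Nat.prime_two (Q := {x}) (by
    rintro _ rfl
    exact ⟨h.1, 1, h.pow_eq_one (prim2 h2)⟩) hJ (fun j hj => mem_centralizer_iff.2 (by
    rintro _ rfl
    exact hx j hj))
  rw [h.psiS (prim2 h2)] at h1
  exact (spl_psi hc.1.1 hc).inn _ (h1 hj)

/-- a torus element centralizes `K_c` iff its character kills `c` -/
theorem cz_chi (h2 : p ≠ 2) {x : YY D p} {φ : Lat l →+ ZMod 2} (h : Chi hp (-1) x φ) {c : Lat l} (hc : Rt hp c) :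
    Cz (sl p hc) x ↔ φ c = 0 := by
  rw [cz_T hc h.1, h.2 c hc, zeta_eq_one (prim2 h2)]

variable {U : Type} [Group U] [Finite U] {τ α β : U →* L} {R R' : Subgroup L}

/-- **`K3` for involutions.** -/
theorem k3 (one : BoxOne) (hl : l ≤ 7) (hB : D ≠ chevB2) (E : Frame hp p d g0 L) (C : Core τ α β R R') (h2 : p ≠ 2)
    (hq : 5 ≤ E.q) {u : U} {φ : Lat l →+ ZMod 2} (h : Chi hp (-1) (E.ι (τ u)) φ) {c : Lat l}
    (hc : A1c hp (Psi hp φ) c) (hg : E.g c = c ∨ E.g c = -c) {u' : U} (hi : ∃ j, IA (sl p hc.1.1) (E.ι (τ u')) j) :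
    Cz (sl p hc.1.1) (E.ι (τ u')) := by
  obtain ⟨j, hj⟩ := hi
  have hcom : ∀ v : U, ∀ r ∈ R.map E.ι, E.ι (τ v) * r = r * E.ι (τ v) := by
    rintro v _ ⟨r, hr, rfl⟩
    rw [← map_mul, ← map_mul, C.pair.comm v r hr]
  refine (sl_ck hc.1.1).cz_of_perfect (map_perfect C.pair.perfect E.ι)
    (fun r hr => inn_of_perf h2 h hc (map_perfect C.pair.perfect E.ι) (hcom u) hr) (fun hall => ?_) hj (hcom u')
  exact one D l M hp hl hB p d g0 L E U τ α β R R' C h2 hq c hc.1.1 hg fun a ha y hy x hx =>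
    (cz_iff hc.1.1).1 (hall _ ⟨x, hx, rfl⟩) a ha y hy

/-- **`K3` for a toral pair of involutions.** -/
theorem k3t (one : BoxOne) (hl : l ≤ 7) (hB : D ≠ chevB2) (E : Frame hp p d g0 L) (C : Core τ α β R R') (h2 : p ≠ 2)
    (hq : 5 ≤ E.q) {u u' : U} {φ φ' : Lat l →+ ZMod 2} (h : Chi hp (-1) (E.ι (τ u)) φ)
    (h' : Chi hp (-1) (E.ι (τ u')) φ') {c : Lat l} (hc : A1c hp (Psi hp φ) c) (hg : E.g c = c ∨ E.g c = -c) :
    φ' c = 0 := by
  obtain ⟨a, -, -, ha⟩ := inn_T hc.1.1 h'.1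
  exact (cz_chi h2 h' hc.1.1).1 (k3 one hl hB E C h2 hq h hc hg ⟨_, ha⟩)

/-- the core whose first group is `α U` -/
theorem exists_coreA (C : Core τ α β R R') : ∃ (θ : MulAut L) (ψ : U →* U) (α' β' : U →* L) (Q Q' : Subgroup L),
    Function.Injective ψ ∧ Core (θ.toMonoidHom.comp τ) α' β' Q Q' ∧ ∀ u, (θ.toMonoidHom.comp τ) (ψ u) = α u := by
  obtain ⟨θ, ψ, h1, h2⟩ := exists_cmp C
  exact ⟨θ, ψ, _, _, _, _, h1, C.map θ, h2⟩

theorem alpha_ne_tau (C : Core τ α β R R') {u v : U} (hu : u ≠ 1) : α u ≠ τ v := fun e =>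
  hu (C.anorm u (le_normalizer (by rw [e]; exact mem_sup_left ⟨v, rfl⟩)))

/-- `α (g u g⁻¹) * β u` is conjugate to `τ u` -/
theorem mix_left (C : Core τ α β R R') (g u v : U) :
    α (g * u * g⁻¹) * β v = α g * (α u * β v) * (α g)⁻¹ := by
  have h1 : β v * (α g)⁻¹ = (α g)⁻¹ * β v := by
    rw [← map_inv]
    exact (C.ab g⁻¹ v).symm
  rw [map_mul, map_mul, map_inv, mul_assoc (α g) (α u * β v), mul_assoc (α u), h1]
  group

theorem mix_right (C : Core τ α β R R') (g u v : U) :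
    α u * β (g * v * g⁻¹) = β g * (α u * β v) * (β g)⁻¹ := by
  have h1 : α u * β g = β g * α u := C.ab u g
  rw [map_mul, map_mul, map_inv, ← mul_assoc, ← mul_assoc, h1]
  group

theorem dd_conjL (E : Frame hp p d g0 L) (g x : L) : dd p (E.ι (g * x * g⁻¹)) = dd p (E.ι x) := by
  rw [map_mul, map_mul, map_inv]
  exact DS.Nt.dd_conj _ _

/-- a frame in which a finite toral set lies in the torus -/
theorem exists_frame (E : Frame hp p d g0 L) {Q : Set L} (hQ : Q.Finite) {g : YY D p}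
    (hg : ∀ x ∈ Q, g * E.ι x * g⁻¹ ∈ TT D (kb p)) :
    ∃ E' : Frame hp p d g0 L, E.Cj E' ∧ ∀ x ∈ Q, E'.ι x ∈ TT D (kb p) := by
  obtain ⟨E', h1, h2⟩ := E.exists_cj hQ hg
  exact ⟨E', h1, fun x hx => by rw [h2 x hx]; exact hg x hx⟩

theorem exists_frame₂ (E : Frame hp p d g0 L) {x y : L} (h : Tp p (E.ι x) (E.ι y)) :
    ∃ E' : Frame hp p d g0 L, E.Cj E' ∧ E'.ι x ∈ TT D (kb p) ∧ E'.ι y ∈ TT D (kb p) := by
  obtain ⟨g, h1, h2⟩ := h
  obtain ⟨E', h3, h4⟩ := exists_frame E (Q := {x, y}) (Set.toFinite _) (g := g) (by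
    rintro _ (rfl | rfl)
    · exact h1
    · exact h2)
  exact ⟨E', h3, h4 x (Or.inl rfl), h4 y (Or.inr rfl)⟩

theorem exists_frame₁ (E : Frame hp p d g0 L) (h2 : p ≠ 2) {x : L} (hx : x ^ 2 = 1) :
    ∃ E' : Frame hp p d g0 L, E.Cj E' ∧ E'.ι x ∈ TT D (kb p) := by
  obtain ⟨g, hg⟩ := DS.Nt.exists_conj_T hp (x := E.ι x) (n := 1) Nat.prime_two h2.symm
    (by rw [pow_one, ← map_pow, hx, map_one])
  obtain ⟨E', h3, h4, -⟩ := exists_frame₂ E (x := x) (y := x) ⟨g, hg, hg⟩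
  exact ⟨E', h3, h4⟩

/-- `α u` and `β v` are toral together -/
theorem tp_ab (E : Frame hp p d g0 L) (C : Core τ α β R R') (h2 : p ≠ 2) {u v : U} (hu : u ^ 2 = 1) (hv : v ^ 2 = 1) :
    Tp p (E.ι (α u)) (E.ι (β v)) := by
  obtain ⟨z, hz⟩ := DS.Nt.exists_conj_T hp (x := E.ι (α u)) (n := 1) Nat.prime_two h2.symm
    (by rw [pow_one, ← map_pow, ← map_pow, hu, map_one, map_one])
  obtain ⟨g, h3, h4⟩ := tor_perf hp h2 (Z := {E.ι (α u)}) (Set.toFinite _) (z := z) (by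
    rintro _ rfl
    exact ⟨hz, by rw [← map_pow, ← map_pow, hu, map_one, map_one]⟩) (map_perfect C.pair'.perfect E.ι) (by
    rintro _ ⟨r, hr, rfl⟩ _ rfl
    rw [← map_mul, ← map_mul, C.pair'.comm u r hr]) (x := E.ι (β v)) ⟨_, C.bmem v, rfl⟩
    (by rw [← map_pow, ← map_pow, hv, map_one, map_one])
  exact ⟨g, h3 _ rfl, h4⟩

end frame

end Cfsg.Agent.Cam.Odd
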