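import Mathlib.LinearAlgebra.Eigenspace.Basic
import Mathlib.LinearAlgebra.FiniteDimensional.Lemmas
import Mathlib.Tactic.Module
import Mathlib.Tactic.LinearCombination

/-!
# Dimension relations for small groups of operators (lead)

All relations are stated on an invariant subspace `N`.
-/

set_option autoImplicit false
set_option linter.unusedSectionVars false

namespace Cfsg.Agent.Cam.Odd.Lin

open Module

variable {K V : Type} [Field K] [AddCommGroup V] [Module K V] [FiniteDimensional K V]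

/-- eigenspaces -/
abbrev E (g : Module.End K V) (c : K) : Submodule K V := Module.End.eigenspace g c

theorem mem_E {g : Module.End K V} {c : K} {v : V} : v ∈ E g c ↔ g v = c • v := Module.End.mem_eigenspace_iff

theorem mem_E1 {g : Module.End K V} {v : V} : v ∈ E g 1 ↔ g v = v := by rw [mem_E, one_smul]

theorem mem_Em {g : Module.End K V} {v : V} : v ∈ E g (-1) ↔ g v = -v := by rw [mem_E, neg_one_smul]

/-- invariant subspaces -/
def Inv (g : Module.End K V) (N : Submodule K V) : Prop := ∀ v ∈ N, g v ∈ N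

theorem Inv.top (g : Module.End K V) : Inv g ⊤ := fun _ _ => Submodule.mem_top

theorem Inv.inf {g : Module.End K V} {N N' : Submodule K V} (h : Inv g N) (h' : Inv g N') : Inv g (N ⊓ N') :=
  fun v hv => ⟨h v hv.1, h' v hv.2⟩

theorem inv_E {g h : Module.End K V} (hc : ∀ v, h (g v) = g (h v)) (c : K) : Inv g (E h c) := fun v hv => by
  rw [mem_E] at hv ⊢
  rw [hc, hv, map_smul]

theorem ker_map (N : Submodule K V) (f : Module.End K V) :
    finrank K N = finrank K ↥(N ⊓ LinearMap.ker f) + finrank K (N.map f) := by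
  have h1 := LinearMap.finrank_range_add_finrank_ker (f.domRestrict N)
  rw [LinearMap.range_domRestrict, LinearMap.ker_domRestrict, ← Submodule.finrank_map_subtype_eq,
    Submodule.map_comap_subtype] at h1
  omega

/-- the rank-nullity formula with named kernel and image -/
theorem split {N A B : Submodule K V} (f : Module.End K V) (hA : ∀ v, v ∈ A ↔ v ∈ N ∧ f v = 0)
    (h1 : ∀ v ∈ N, f v ∈ B) (h2 : ∀ u ∈ B, ∃ v ∈ N, f v = u) : finrank K N = finrank K A + finrank K B := by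
  have eA : N ⊓ LinearMap.ker f = A := by
    ext v
    rw [hA, Submodule.mem_inf, LinearMap.mem_ker]
  have eB : N.map f = B := by
    ext u
    rw [Submodule.mem_map]
    exact ⟨fun ⟨v, hv, e⟩ => e ▸ h1 v hv, h2 u⟩
  rw [ker_map N f, eA, eB]

theorem le_of_inj {A B : Submodule K V} (f : Module.End K V) (h1 : ∀ v ∈ A, f v ∈ B) (h2 : ∀ v ∈ A, f v = 0 → v = 0) :
    finrank K A ≤ finrank K B := by
  have h3 : A ⊓ LinearMap.ker f = ⊥ := by
    rw [eq_bot_iff]
    intro v hv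
    exact (Submodule.mem_bot K).2 (h2 v hv.1 hv.2)
  have h4 : A.map f ≤ B := by
    rintro _ ⟨v, hv, rfl⟩
    exact h1 v hv
  have h5 := Submodule.finrank_mono h4
  rw [ker_map A f, h3, finrank_bot]
  omega

theorem zero_of_smul {c : K} (hc : c ≠ 0) {v : V} (h : c • v = 0) : v = 0 := (smul_eq_zero.1 h).resolve_left hc

/-- an involution -/
theorem pm (h2 : (2 : K) ≠ 0) {y : Module.End K V} (hy : ∀ v, y (y v) = v) {N : Submodule K V} (hN : Inv y N) :
    finrank K N = finrank K ↥(N ⊓ E y 1) + finrank K ↥(N ⊓ E y (-1)) := by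
  refine split (y - 1) (fun v => ?_) (fun v hv => ?_) (fun u hu => ?_)
  · rw [Submodule.mem_inf, mem_E1, LinearMap.sub_apply, Module.End.one_apply, sub_eq_zero]
  · rw [Submodule.mem_inf, mem_Em, LinearMap.sub_apply, Module.End.one_apply, map_sub, hy, neg_sub]
    exact ⟨sub_mem (hN v hv) hv, rfl⟩
  · rw [Submodule.mem_inf, mem_Em] at hu
    refine ⟨(-(2 : K)⁻¹) • u, N.smul_mem _ hu.1, ?_⟩
    rw [LinearMap.sub_apply, Module.End.one_apply, map_smul, hu.2]
    have h3 : (2 : K)⁻¹ * 2 = 1 := inv_mul_cancel₀ h2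
    linear_combination (norm := module) h3 • (u)

theorem pm_sup (h2 : (2 : K) ≠ 0) {y : Module.End K V} (hy : ∀ v, y (y v) = v) {N : Submodule K V} (hN : Inv y N) :
    N ≤ (N ⊓ E y 1) ⊔ (N ⊓ E y (-1)) := by
  intro v hv
  have h3 : (2 : K)⁻¹ * 2 = 1 := inv_mul_cancel₀ h2
  have e : v = (2 : K)⁻¹ • (v + y v) + (2 : K)⁻¹ • (v - y v) := by
    linear_combination (norm := module) (-h3) • v
  rw [e]
  refine Submodule.add_mem_sup (Submodule.smul_mem _ _ ⟨add_mem hv (hN v hv), ?_⟩)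
    (Submodule.smul_mem _ _ ⟨sub_mem hv (hN v hv), ?_⟩)
  · rw [SetLike.mem_coe, mem_E1, map_add, hy, add_comm]
  · rw [SetLike.mem_coe, mem_Em, map_sub, hy, neg_sub]

/-- an element of order three -/
theorem r3 (h3 : (3 : K) ≠ 0) {ω : K} (hω : ω * ω + ω + 1 = 0) {s : Module.End K V} (hs : ∀ v, s (s (s v)) = v)
    {N : Submodule K V} (hN : Inv s N) :
    finrank K N = finrank K ↥(N ⊓ E s 1) + finrank K ↥(N ⊓ E s ω) + finrank K ↥(N ⊓ E s (ω * ω)) := by
  have i3 : (3 : K)⁻¹ * 3 = 1 := inv_mul_cancel₀ h3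
  have m : ∀ v, v ∈ N ⊓ LinearMap.ker (s * s + s + 1) ↔ v ∈ N ∧ s (s v) + s v + v = 0 := fun v => by
    simp only [Submodule.mem_inf, LinearMap.mem_ker, LinearMap.add_apply, Module.End.mul_apply, Module.End.one_apply]
  have h1 : finrank K N = finrank K ↥(N ⊓ E s 1) + finrank K ↥(N ⊓ LinearMap.ker (s * s + s + 1)) := by
    refine split (s - 1) (fun v => ?_) (fun v hv => ?_) (fun u hu => ?_)
    · rw [Submodule.mem_inf, mem_E1, LinearMap.sub_apply, Module.End.one_apply, sub_eq_zero]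
    · rw [m, LinearMap.sub_apply, Module.End.one_apply, map_sub, map_sub, hs]
      exact ⟨sub_mem (hN v hv) hv, by abel⟩
    · rw [m] at hu
      refine ⟨(-(3 : K)⁻¹) • (s u + (2 : K) • u), N.smul_mem _ (add_mem (hN u hu.1) (N.smul_mem _ hu.1)), ?_⟩
      rw [LinearMap.sub_apply, Module.End.one_apply, map_smul, map_add, map_smul]
      linear_combination (norm := module) (-(3 : K)⁻¹) • hu.2 + i3 • (u)
  have h4 : finrank K ↥(N ⊓ LinearMap.ker (s * s + s + 1)) =
      finrank K ↥(N ⊓ E s ω) + finrank K ↥(N ⊓ E s (ω * ω)) := by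
    refine split (s - ω • 1) (fun v => ?_) (fun v hv => ?_) (fun u hu => ?_)
    · rw [m, Submodule.mem_inf, mem_E, LinearMap.sub_apply, LinearMap.smul_apply, Module.End.one_apply, sub_eq_zero]
      refine ⟨fun h => ⟨⟨h.1, ?_⟩, h.2⟩, fun h => ⟨h.1.1, h.2⟩⟩
      rw [h.2, map_smul, h.2]
      linear_combination (norm := module) hω • (v)
    · rw [m] at hv
      rw [Submodule.mem_inf, mem_E, LinearMap.sub_apply, LinearMap.smul_apply, Module.End.one_apply, map_sub, map_smul]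
      refine ⟨sub_mem (hN v hv.1) (N.smul_mem _ hv.1), ?_⟩
      linear_combination (norm := module) hv.2 - hω • (s v) + ((ω - 1) * hω) • (v)
    · rw [Submodule.mem_inf, mem_E] at hu
      refine ⟨((3 : K)⁻¹ * (ω - ω * ω)) • u, Submodule.smul_mem _ _ ((m u).2 ⟨hu.1, ?_⟩), ?_⟩
      · rw [hu.2, map_smul, hu.2]
        linear_combination (norm := module) ((ω * ω - ω + 1) * hω) • (u)
      · rw [LinearMap.sub_apply, LinearMap.smul_apply, Module.End.one_apply, map_smul, hu.2]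
        linear_combination (norm := module) (i3 - (3 : K)⁻¹ * (ω * ω - 3 * ω + 3) * hω) • (u)
  omega

section four

variable (h2 : (2 : K) ≠ 0) {a b : Module.End K V} (ha : ∀ v, a (a v) = v) (hb : ∀ v, b (b v) = v)
  (hab : ∀ v, a (b v) = b (a v)) {N : Submodule K V} (hNa : Inv a N) (hNb : Inv b N)
include h2 ha hb hab hNa hNb

theorem w1 (c : K) : finrank K ↥(N ⊓ E a c) = finrank K ↥(N ⊓ E a c ⊓ E b 1) + finrank K ↥(N ⊓ E a c ⊓ E b (-1)) :=
  pm h2 hb (hNb.inf (inv_E hab c))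

theorem w2 : finrank K ↥(N ⊓ E b 1) = finrank K ↥(N ⊓ E a 1 ⊓ E b 1) + finrank K ↥(N ⊓ E a (-1) ⊓ E b 1) := by
  rw [pm h2 ha (hNa.inf (inv_E (fun v => (hab v).symm) 1)), inf_right_comm N (E b 1), inf_right_comm N (E b 1)]

theorem w3 : finrank K ↥(N ⊓ E (a * b) 1) =
    finrank K ↥(N ⊓ E a 1 ⊓ E b 1) + finrank K ↥(N ⊓ E a (-1) ⊓ E b (-1)) := by
  have e : ∀ c : K, c * c = 1 → N ⊓ E (a * b) 1 ⊓ E a c = N ⊓ E a c ⊓ E b c := fun c hc => by
    ext v
    simp only [Submodule.mem_inf, mem_E, one_smul, Module.End.mul_apply]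
    constructor
    · rintro ⟨⟨h1, h3⟩, h4⟩
      refine ⟨⟨h1, h4⟩, ?_⟩
      rw [← h4, ← ha (b v), h3]
    · rintro ⟨⟨h1, h3⟩, h4⟩
      refine ⟨⟨h1, ?_⟩, h3⟩
      rw [h4, map_smul, h3, smul_smul, hc, one_smul]
  rw [pm h2 ha (hNa.inf (inv_E (fun v => by simp only [Module.End.mul_apply, hab]) 1)), e 1 (by ring), e (-1) (by ring)]

/-- a four-group -/
theorem r4 : finrank K N + 2 * finrank K ↥(N ⊓ E a 1 ⊓ E b 1) =
    finrank K ↥(N ⊓ E a 1) + finrank K ↥(N ⊓ E b 1) + finrank K ↥(N ⊓ E (a * b) 1) := by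
  have := pm h2 ha hNa
  have := w1 h2 ha hb hab hNa hNb 1
  have := w1 h2 ha hb hab hNa hNb (-1)
  have := w2 h2 ha hb hab hNa hNb
  have := w3 h2 ha hb hab hNa hNb
  omega

end four

/-- an elementary abelian group of order nine -/
theorem r9 (h3 : (3 : K) ≠ 0) {ω : K} (hω : ω * ω + ω + 1 = 0) {s t : Module.End K V} (hs : ∀ v, s (s (s v)) = v)
    (ht : ∀ v, t (t (t v)) = v) (hst : ∀ v, s (t v) = t (s v)) {N : Submodule K V} (hNs : Inv s N) (hNt : Inv t N) :
    finrank K N + 3 * finrank K ↥(N ⊓ E s 1 ⊓ E t 1) =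
      finrank K ↥(N ⊓ E s 1) + finrank K ↥(N ⊓ E t 1) + finrank K ↥(N ⊓ E (s * t) 1) +
        finrank K ↥(N ⊓ E (s * (t * t)) 1) := by
  have e1 : ∀ c c' : K, c * c' = 1 → N ⊓ E (s * t) 1 ⊓ E s c = N ⊓ E s c ⊓ E t c' := fun c c' hc => by
    ext v
    simp only [Submodule.mem_inf, mem_E, one_smul, Module.End.mul_apply]
    constructor
    · rintro ⟨⟨h1, h4⟩, h5⟩
      refine ⟨⟨h1, h5⟩, ?_⟩
      rw [hst, h5, map_smul] at h4
      linear_combination (norm := module) c' • h4 - hc • (t v)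
    · rintro ⟨⟨h1, h4⟩, h5⟩
      refine ⟨⟨h1, ?_⟩, h4⟩
      rw [h5, map_smul, h4, smul_smul, mul_comm, hc, one_smul]
  have e2 : ∀ c : K, c * c * c = 1 → N ⊓ E (s * (t * t)) 1 ⊓ E s c = N ⊓ E s c ⊓ E t c := fun c hc => by
    ext v
    simp only [Submodule.mem_inf, mem_E, one_smul, Module.End.mul_apply]
    constructor
    · rintro ⟨⟨h1, h4⟩, h5⟩
      refine ⟨⟨h1, h5⟩, ?_⟩
      rw [← h5, ← ht (s v), ← hst, ← hst, h4]
    · rintro ⟨⟨h1, h4⟩, h5⟩
      refine ⟨⟨h1, ?_⟩, h4⟩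
      rw [h5, map_smul, h5, map_smul, map_smul, h4, smul_smul, smul_smul, hc, one_smul]
  have c1 : ω * (ω * ω) = 1 := by linear_combination (ω - 1) * hω
  have c2 : ω * ω * ω = 1 := by linear_combination (ω - 1) * hω
  have c3 : ω * ω * (ω * ω) * (ω * ω) = 1 := by linear_combination (ω * ω * ω + 1) * c2
  have k0 := r3 h3 hω hs hNs
  have k1 := fun c => r3 h3 hω ht (hNt.inf (inv_E hst c))
  have k2 := r3 h3 hω hs (hNs.inf (inv_E (fun v => (hst v).symm) 1))
  have k3 := r3 h3 hω hs (hNs.inf (inv_E (h := s * t) (fun v => by simp only [Module.End.mul_apply, hst]) 1))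
  have k4 := r3 h3 hω hs (hNs.inf (inv_E (h := s * (t * t)) (fun v => by simp only [Module.End.mul_apply, hst]) 1))
  rw [inf_right_comm N (E t 1), inf_right_comm N (E t 1), inf_right_comm N (E t 1)] at k2
  rw [e1 1 1 (by ring), e1 _ _ c1, e1 _ _ c2] at k3
  rw [e2 1 (by ring), e2 _ c2, e2 _ c3] at k4
  have := k1 1
  have := k1 ω
  have := k1 (ω * ω)
  omega

/-- the symmetric group of degree three -/
theorem rS (h3 : (3 : K) ≠ 0) {ω : K} (hω : ω * ω + ω + 1 = 0) {s y : Module.End K V} (hs : ∀ v, s (s (s v)) = v)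
    (hy : ∀ v, y (y v) = v) (hys : ∀ v, y (s v) = s (s (y v))) {N : Submodule K V} (hNs : Inv s N) (hNy : Inv y N) :
    finrank K N + 2 * finrank K ↥(N ⊓ E s 1 ⊓ E y 1) = finrank K ↥(N ⊓ E s 1) + 2 * finrank K ↥(N ⊓ E y 1) := by
  have i3 : (3 : K)⁻¹ * 3 = 1 := inv_mul_cancel₀ h3
  have c2 : ω * ω * ω = 1 := by linear_combination (ω - 1) * hω
  have hsy : ∀ v, s (y v) = y (s (s v)) := fun v => by rw [hys, hys, hs]
  have sw : ∀ c c' : K, c' = c * c → ∀ v, s v = c • v → s (y v) = c' • y v := fun c c' hc v hv => by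
    rw [hsy, hv, map_smul, hv, smul_smul, map_smul, hc]
  have yinj : ∀ v, y v = 0 → v = 0 := fun v hv => by rw [← hy v, hv, map_zero]
  have k0 := r3 h3 hω hs hNs
  have k1 : finrank K ↥(N ⊓ E s ω) ≤ finrank K ↥(N ⊓ E s (ω * ω)) :=
    le_of_inj y (fun v hv => ⟨hNy v hv.1, mem_E.2 (sw _ _ rfl v (mem_E.1 hv.2))⟩) fun v _ => yinj v
  have k2 : finrank K ↥(N ⊓ E s (ω * ω)) ≤ finrank K ↥(N ⊓ E s ω) :=
    le_of_inj y (fun v hv => ⟨hNy v hv.1, mem_E.2 (sw _ _ (by linear_combination (-ω) * c2) v (mem_E.1 hv.2))⟩)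
      fun v _ => yinj v
  have ap : ∀ v, (1 + (ω * ω) • s + ω • (s * s) : Module.End K V) v = v + (ω * ω) • s v + ω • s (s v) := fun v => by
    simp only [LinearMap.add_apply, LinearMap.smul_apply, Module.End.mul_apply, Module.End.one_apply]
  have k3 : finrank K ↥(N ⊓ E y 1) = finrank K ↥(N ⊓ E s 1 ⊓ E y 1) + finrank K ↥(N ⊓ E s ω) := by
    refine split (1 + (ω * ω) • s + ω • (s * s)) (fun v => ?_) (fun v hv => ?_) (fun u hu => ?_)
    · simp only [Submodule.mem_inf, mem_E1, ap]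
      constructor
      · rintro ⟨⟨h1, h4⟩, h5⟩
        refine ⟨⟨h1, h5⟩, ?_⟩
        rw [h4, h4]
        linear_combination (norm := module) hω • (v)
      · rintro ⟨⟨h1, h4⟩, h5⟩
        refine ⟨⟨h1, ?_⟩, h4⟩
        have h6 := congrArg y h5
        rw [map_add, map_add, map_smul, map_smul, map_zero, ← hsy, hys, h4] at h6
        have h7 : s (s v) + s v = (2 : K) • v := by
          linear_combination (norm := module) (-1 : K) • h5 - h6 + hω • (s (s v) + s v)
        have h8 := congrArg s h7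
        rw [map_add, hs, map_smul] at h8
        refine sub_eq_zero.1 (zero_of_smul h3 ?_)
        linear_combination (norm := module) h7 - h8
    · rw [Submodule.mem_inf, mem_E, ap]
      refine ⟨add_mem (add_mem hv.1 (N.smul_mem _ (hNs v hv.1))) (N.smul_mem _ (hNs _ (hNs v hv.1))), ?_⟩
      rw [map_add, map_add, map_smul, map_smul, hs]
      linear_combination (norm := module) (-c2) • (s v)
    · rw [Submodule.mem_inf, mem_E] at hu
      refine ⟨(3 : K)⁻¹ • (u + y u), Submodule.smul_mem _ _ ⟨add_mem hu.1 (hNy u hu.1), ?_⟩, ?_⟩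
      · rw [SetLike.mem_coe, mem_E1, map_add, hy, add_comm]
      · have h5 := sw _ _ rfl u hu.2
        rw [map_smul, map_add, ap, ap, h5, map_smul, h5, hu.2, map_smul, hu.2]
        linear_combination (norm := module) (i3 + (3 : K)⁻¹ * 2 * c2) • (u) +
          ((3 : K)⁻¹ * (ω * ω * ω - ω + 1) * hω) • (y u)
  omega

/-- nilpotent operators -/
theorem nil3 {n : Module.End K V} (hn : ∀ v, n (n (n v)) = 0) {N : Submodule K V} (hN : Inv n N) :
    3 * finrank K (N.map (n * n)) ≤ finrank K N := by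
  have l1 : N.map n ≤ N := by
    rintro _ ⟨v, hv, rfl⟩
    exact hN v hv
  have l2 : (N.map n).map n ≤ N.map n := Submodule.map_mono l1
  have l3 : ((N.map n).map n).map n = ⊥ := by
    rw [eq_bot_iff]
    rintro _ ⟨_, ⟨_, ⟨v, _, rfl⟩, rfl⟩, rfl⟩
    exact (Submodule.mem_bot K).2 (hn v)
  have e : N.map (n * n) = (N.map n).map n := Submodule.map_comp n n N
  have k1 := ker_map N n
  have k2 := ker_map (N.map n) n
  have k3 := ker_map ((N.map n).map n) n
  have k4 := Submodule.finrank_mono (inf_le_inf_right (LinearMap.ker n) l1)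
  have k5 := Submodule.finrank_mono (inf_le_inf_right (LinearMap.ker n) l2)
  rw [l3, finrank_bot] at k3
  rw [e]
  omega

theorem map_le_add {N A B : Submodule K V} (f : Module.End K V) (h : N ≤ A ⊔ B) :
    finrank K (N.map f) ≤ finrank K (A.map f) + finrank K (B.map f) := by
  have h1 := Submodule.finrank_mono (Submodule.map_mono (f := f) h)
  rw [Submodule.map_sup] at h1
  exact h1.trans (Submodule.finrank_add_le_finrank_add_finrank _ _)

/-! ### the alternating group of degree four -/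

/-- the relations of `A₄` -/
structure TO (a b s : Module.End K V) : Prop where
  aa : ∀ v, a (a v) = v
  bb : ∀ v, b (b v) = v
  ab : ∀ v, a (b v) = b (a v)
  sa : ∀ v, s (a v) = b (s v)
  sb : ∀ v, s (b v) = a (b (s v))
  sss : ∀ v, s (s (s v)) = v

namespace TO

variable {a b s : Module.End K V} (h : TO a b s)
include h

theorem wt {c d : K} {v : V} (h1 : a v = c • v) (h2 : b v = d • v) : a (s v) = (c * d) • s v ∧ b (s v) = c • s v := by
  have h3 : b (s v) = c • s v := by rw [← h.sa, h1, map_smul]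
  refine ⟨?_, h3⟩
  have h4 := congrArg b (h.sb v)
  rw [h.ab, h.bb, h2, map_smul, map_smul, h3, smul_smul] at h4
  rw [← h4, mul_comm]

theorem s_inj {v : V} (hv : s v = 0) : v = 0 := by rw [← h.sss v, hv, map_zero, map_zero]

variable {N : Submodule K V} (hs : Inv s N)
include hs

theorem le_wt (c d : K) : finrank K ↥(N ⊓ E a c ⊓ E b d) ≤ finrank K ↥(N ⊓ E a (c * d) ⊓ E b c) :=
  le_of_inj s (fun v hv => ⟨⟨hs v hv.1.1, mem_E.2 (h.wt (mem_E.1 hv.1.2) (mem_E.1 hv.2)).1⟩,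
    mem_E.2 (h.wt (mem_E.1 hv.1.2) (mem_E.1 hv.2)).2⟩) fun _ _ => h.s_inj

variable (h2 : (2 : K) ≠ 0) (ha : Inv a N) (hb : Inv b N)
include h2 ha hb

theorem dims : finrank K N = finrank K ↥(N ⊓ E a 1 ⊓ E b 1) + 3 * finrank K ↥(N ⊓ E a 1 ⊓ E b (-1)) ∧
    finrank K ↥(N ⊓ E a 1) = finrank K ↥(N ⊓ E a 1 ⊓ E b 1) + finrank K ↥(N ⊓ E a 1 ⊓ E b (-1)) ∧
    finrank K ↥(N ⊓ E a (-1) ⊓ E b 1) = finrank K ↥(N ⊓ E a 1 ⊓ E b (-1)) ∧
    finrank K ↥(N ⊓ E a (-1) ⊓ E b (-1)) = finrank K ↥(N ⊓ E a 1 ⊓ E b (-1)) := by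
  have k1 := h.le_wt hs 1 (-1)
  have k2 := h.le_wt hs (-1) 1
  have k3 := h.le_wt hs (-1) (-1)
  rw [one_mul] at k1
  rw [mul_one] at k2
  rw [neg_mul_neg, one_mul] at k3
  have := pm h2 h.aa ha
  have := w1 h2 h.aa h.bb h.ab ha hb 1
  have := w1 h2 h.aa h.bb h.ab ha hb (-1)
  omega

theorem fix : finrank K ↥(N ⊓ E s 1) =
    finrank K ↥(N ⊓ E a 1 ⊓ E b 1 ⊓ E s 1) + finrank K ↥(N ⊓ E a 1 ⊓ E b (-1)) := by
  have h4 : (4 : K) ≠ 0 := by
    rw [show (4 : K) = 2 * 2 by norm_num]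
    exact mul_ne_zero h2 h2
  have i4 : (4 : K)⁻¹ * 4 = 1 := inv_mul_cancel₀ h4
  have ap : ∀ v, (1 + a - b - a * b : Module.End K V) v = v + a v - b v - a (b v) := fun v => by
    simp only [LinearMap.add_apply, LinearMap.sub_apply, Module.End.mul_apply, Module.End.one_apply]
  refine split (1 + a - b - a * b) (fun v => ?_) (fun v hv => ?_) (fun u hu => ?_)
  · simp only [Submodule.mem_inf, mem_E1, ap]
    constructor
    · rintro ⟨⟨⟨h1, h3⟩, h5⟩, h6⟩
      refine ⟨⟨h1, h6⟩, ?_⟩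
      rw [h5, h3]
      abel
    · rintro ⟨⟨h1, h3⟩, h5⟩
      have h6 := congrArg s h5
      rw [map_sub, map_sub, map_add, h.sa, h.sa, h.sb, h3, map_zero, ← h.ab, h.bb] at h6
      have h7 := congrArg s h6
      rw [map_sub, map_sub, map_add, h.sa, h.sa, h.sb, h3, map_zero, ← h.ab, h.bb] at h7
      refine ⟨⟨⟨h1, sub_eq_zero.1 (zero_of_smul h2 ?_)⟩, sub_eq_zero.1 (zero_of_smul h2 ?_)⟩, h3⟩
      · linear_combination (norm := module) (-1 : K) • h6 - h7
      · linear_combination (norm := module) (-1 : K) • h5 - h7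
  · rw [ap]
    refine ⟨⟨sub_mem (sub_mem (add_mem hv.1 (ha v hv.1)) (hb v hv.1)) (ha _ (hb v hv.1)), ?_⟩, ?_⟩
    · rw [SetLike.mem_coe, mem_E1, map_sub, map_sub, map_add, h.aa, h.aa]
      abel
    · rw [SetLike.mem_coe, mem_Em, map_sub, map_sub, map_add, h.bb, ← h.ab, ← h.ab, h.bb]
      abel
  · obtain ⟨⟨h1, h3⟩, h5⟩ := hu
    have u1 := mem_E.1 h3
    have u2 := mem_E.1 h5
    obtain ⟨v1, v2⟩ := h.wt u1 u2
    obtain ⟨t1, t2⟩ := h.wt v1 v2
    refine ⟨(4 : K)⁻¹ • (u + s u + s (s u)),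
      Submodule.smul_mem _ _ ⟨add_mem (add_mem h1 (hs u h1)) (hs _ (hs u h1)), ?_⟩, ?_⟩
    · rw [SetLike.mem_coe, mem_E1, map_add, map_add, h.sss]
      abel
    · rw [map_smul, map_add, map_add, ap, ap, ap, u2, v2, t2, map_smul, map_smul, map_smul, u1, v1, t1]
      linear_combination (norm := module) i4 • (u)

end TO

end Cfsg.Agent.Cam.Odd.Lin
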