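import Cfsg.Agent.Cam.Odd.LowB
import Cfsg.Agent.Cam.Odd.K3
import Cfsg.Agent.Cam.Ex.Cb1

/-!
# S3689, S3690, exceptional rows: `G₂`, `³D₄`, `F₄`, `E₆`, `²E₆` in odd characteristic (helper70)

`boxLow : BoxOne → BoxLow`.
-/

set_option autoImplicit false
set_option linter.unusedVariables false
set_option linter.unusedSectionVars false
set_option maxRecDepth 100000
set_option synthInstance.maxSize 4096

namespace Cfsg.Agent.Cam.Odd.Low

open CoxeterSystem Cfsg Cfsg.Lie Subgroup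
open Cfsg.Agent.ChevalleyStructure.CoxeterGeom Cfsg.Agent.ChevalleyStructure.CoxeterGeomTypes
open Cfsg.Agent.Tits.Roots Cfsg.Agent.Nodes.BNOf Cfsg.Agent.Nodes.RGDChev Cfsg.Agent.Nodes.Coroot
open Cfsg.Agent.KFacts.RgdChevCoord Cfsg.Agent.BpExc.TorCent Cfsg.Agent.BpExc.LangFr Cfsg.Agent.BpExc.SubBN
open Cfsg.Agent.Cam.Spor Cfsg.Agent.Cam.Ex Cfsg.Agent.Cam.Ex.S2
open Cfsg.Agent.Cam.Ex.Cb (V gt dot toF Ent Dt Tab toF_inj psi_toF eq_sum dG2 dD4 dF4 dE6 tabG2 tabD4 tabF4 tabE6 chkG2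
  wa_simple)
open Cfsg.Agent.DS.Nt (RP DZ)
open Cfsg.Agent.H931.KC (psi psi_apply psi_sr)
open Cfsg.Agent.H92.NE (bl bl_apply bl_comm bl_rep)

variable {D : ChevalleyDatum} {l : ℕ} {M : CoxeterMatrix (Fin l)} {hp : IsType D l M} {p : ℕ} [Fact p.Prime]

/-- the killed roots separate the simple roots from the negative roots -/
def sepk (d : Dt) (n : Fin l → ZMod 2) : Prop :=
  ∀ i : Fin l, ∀ e' ∈ d.T, ∃ c ∈ d.T, ev n c.b = 0 ∧ gt c.cv i + dot e'.b c.cv ≠ 0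

theorem eq_one_of_fix' {d : Dt} (hT : Tab hp d) {φ : Lat l →+ ZMod 2} (hs : sepk d (co φ)) {w : M.Group}
    (hw : ∀ c ∈ Psi hp φ, 0 ≤ c → wa hp w c = c) : w = 1 := by
  refine eq_one_of_nonneg M.toCoxeterSystem hp.isCartan w fun i => ?_
  obtain ⟨e', he', h1 | h1⟩ := hT.sur _ ((rt_sr hp i).wa' w)
  · exact (hT.pos e' he').trans_eq h1.symm
  · obtain ⟨c, hc, h2, h3⟩ := hs i e' he'
    have h4 := cp_wa w (sr i) (hT.rt c hc)
    rw [hw _ ⟨hT.rt c hc, by rwa [ev_co] at h2⟩ (hT.pos c hc), h1, cp_neg _ (hT.rt c hc), cp_toF hT hc he', hT.cpe c hc,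
      psi_sr] at h4
    exact absurd (by rw [show gt c.cv i = toF l c.cv i from rfl, ← h4, neg_add_cancel]) h3

/-- **A criterion for the connected centralizer.** -/
theorem mem_DZ_of {d : Dt} (hT : Tab hp d) (hp2 : p ≠ 2) {t y : YY D p} {φ : Lat l →+ ZMod 2} (h : Chi hp (-1) t φ)
    (hs : φ ≠ 0 → sepk d (co φ)) (hy : y * t = t * y)
    (hw : φ ≠ 0 → ∀ m ∈ MS D l p (Psi hp φ), ∀ w k, RP hp p w k → Fixs hp w φ → y = m * k →
      ∀ c ∈ Psi hp φ, wa hp w c = c ∨ wa hp w c = -c) : y ∈ DZ hp p {t} := by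
  have := DS.Nt.finW hp
  obtain ⟨m, hm, w, hw', k, hk, hkt, rfl⟩ := DS.Nt.form hp (Set.finite_singleton t) (Set.singleton_subset_iff.2 h.1)
    (c := y) (by rintro _ rfl; exact hy)
  have hpos : ∀ c ∈ Psi hp φ, 0 ≤ c → 0 ≤ wa hp w c := fun c hc h0 =>
    hw'.2 c (by rw [← h.psiS (prim2 hp2)] at hc; exact hc) h0
  have h1 : w = 1 := by
    by_cases h0 : φ = 0
    · refine eq_one_of_nonneg M.toCoxeterSystem hp.isCartan w fun i => hpos _ ⟨rt_sr hp i, by rw [h0]; rfl⟩ ?_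
      exact fun j => by
        by_cases e : j = i
        · rw [e]; simp
        · simp [Pi.single_eq_of_ne e]
    · refine eq_one_of_fix' hT (hs h0) fun c hc hc0 => ?_
      have h2 := hw h0 m (by rw [← h.psiS (prim2 hp2)]; exact hm) w k hk
        (fun a => Chi.of_conj (prim2 hp2) h h (fun a ha => hw'.1 a ha t rfl) a) rfl c hc
      refine h2.resolve_right fun h3 => hc.1.ne_zero' (le_antisymm ?_ hc0)
      have h4 := hpos c hc hc0
      rwa [h3, neg_nonneg] at h4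
  subst h1
  exact mul_mem (DS.Nt.Mz_le_DZ hm) (DS.Nt.T_le_DZ hk.mem_T)

variable {d : ℕ} {g0 : Lat l ≃+ Lat l} {L : Type} [Group L] [Finite L]

theorem comm_ι (E : Frame hp p d g0 L) {x y : L} (h : y * x = x * y) : E.ι y * E.ι x = E.ι x * E.ι y := by
  rw [← map_mul, h, map_mul]

/-! ### `F₄`, `E₆` -/

theorem adm_uniq (hp2 : p ≠ 2) (h : ∀ (φ : Lat l →+ ZMod 2) (c c' : Lat l), A1c hp (Psi hp φ) c →
    A1c hp (Psi hp φ) c' → c' = c ∨ c' = -c) : Adm hp p d g0 L (fun _ => True) :=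
  fun E x φ hφ => ⟨trivial, fun ⟨c, hc⟩ => ⟨c, hc, h φ _ _ hc (a1c_g E hp2 hφ hc)⟩⟩

theorem conn_typ (hp2 : p ≠ 2) (hD : DS.Ex.Typ D) (h7 : D ≠ chevE7) : ConnAll hp p d g0 L := by
  intro E x hx ht y hy
  rcases (DS.Nt.DZ_one hp hD Nat.prime_two hp2.symm ht (sq_ι E hx)).2 with h | h | h
  · exact h _ (comm_ι E hy)
  · exact absurd h.2.1 (by norm_num)
  · exact absurd h.1 h7

theorem ne_E7 {D : ChevalleyDatum} (h : D.nroots ≠ chevE7.nroots) : D ≠ chevE7 := fun e => h (by rw [e])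

/-! ### `G₂` -/

theorem sep2 : ∀ n : Fin 2 → ZMod 2, n ≠ 0 → sepk dG2 n := by
  unfold sepk
  decide +kernel

theorem len2 : ∀ n : Fin 2 → ZMod 2, n ≠ 0 → ∀ e ∈ dG2.T, ev n e.b = 0 → ∀ e' ∈ dG2.T, ev n e'.b = 0 →
    (∑ i, ∑ j, toF 2 e.b i * ![![2, -3], ![-3, 6]] i j * toF 2 e.b j =
      ∑ i, ∑ j, toF 2 e'.b i * ![![2, -3], ![-3, 6]] i j * toF 2 e'.b j) → e'.b = e.b := by
  decide +kernel

theorem co_ne {φ : Lat l →+ ZMod 2} (h : φ ≠ 0) : co φ ≠ 0 := fun e => h (co_eq_zero e)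

theorem fix2 {φ : Lat 2 →+ ZMod 2} (h0 : φ ≠ 0) {w : CoxeterMatrix.G₂.Group} (hw : Fixs tG2 w φ) {c : Lat 2}
    (hc : c ∈ Psi tG2 φ) : wa tG2 w c = c ∨ wa tG2 w c = -c := by
  obtain ⟨e, he, h1, h2⟩ := psi_ex tabG2 hc
  obtain ⟨e', he', h3, h4⟩ := psi_ex tabG2 (c := wa tG2 w c) ⟨hc.1.wa' w, by rw [hw c, hc.2]⟩
  have h5 := bl_rep tG2 chkG2.1 w c c
  have key : ∀ x y : Lat 2, (x = y ∨ x = -y) → bl ![![2, -3], ![-3, 6]] x x = bl ![![2, -3], ![-3, 6]] y y := by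
    rintro x y (rfl | rfl)
    · rfl
    · rw [map_neg, bl_comm chkG2.1.1, map_neg, neg_neg]
  rw [key _ _ h4, key _ _ h2] at h5
  rw [len2 _ (co_ne h0) e he h1 e' he' h3 h5.symm] at h4
  rcases h2 with h2 | h2
  · rwa [← h2] at h4
  · rw [← neg_eq_iff_eq_neg.2 h2, neg_neg] at h4
    exact h4.symm

theorem rho_ne {φ : Lat 2 →+ ZMod 2} (h : Rho tG2 (Psi tG2 φ)) : φ ≠ 0 := by
  rintro rfl
  exact absurd (((qk2.qd tabG2).rho 0 trivial).2 h) (by decide)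

theorem adm2 (hp2 : p ≠ 2) : Adm tG2 p d (sg 2 1) L (fun _ => True) := by
  intro E x φ hφ
  refine ⟨trivial, fun h => ?_⟩
  obtain ⟨w, hw⟩ := E.gr
  have hw' : ∀ a, E.g a = wa tG2 w a := fun a => by rw [hw, sg_apply, Units.val_one, one_smul]
  obtain ⟨c, hc⟩ := id h
  refine ⟨c, hc, ?_⟩
  rw [hw']
  exact fix2 (rho_ne h) (fun a => by rw [← hw', chi2_g E hp2 hφ]) hc.1

theorem conn2 (hp2 : p ≠ 2) {g0 : Lat 2 ≃+ Lat 2} : ConnAll tG2 p d g0 L := by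
  intro E x hx ht y hy
  obtain ⟨φ, hφ⟩ := exists_chi hp2 E hx ht
  exact mem_DZ_of tabG2 hp2 hφ (fun h0 => sep2 _ (co_ne h0)) (comm_ι E hy) fun h0 m _ w k _ hw _ c hc => fix2 h0 hw hc

/-! ### `D₄` -/

/-- reduction modulo two -/
def red (x : Lat l) : Fin l → ZMod 2 := fun i => (x i : ZMod 2)

theorem red_add (x y : Lat l) : red (x + y) = red x + red y := funext fun i => Int.cast_add _ _

theorem red_pm {x y : Lat l} (h : x = y ∨ x = -y) : red x = red y := by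
  rcases h with rfl | rfl
  · rfl
  · exact funext fun i => by rw [red, red, Pi.neg_apply, Int.cast_neg, CharTwo.neg_eq]

theorem apply_red (φ : Lat l →+ ZMod 2) (x : Lat l) : φ x = ∑ i, red x i * co φ i := eq_sum φ x

/-- the radical of the form modulo two -/
def Rad (v : Fin 4 → ZMod 2) : Prop := v 1 = 0 ∧ v 0 + v 2 + v 3 = 0

theorem rad_car : ∀ v : Fin 4 → ZMod 2, Rad v → ∀ j : Fin 4, ∑ i, v i * (cartanOf chevD4 4 j i : ZMod 2) = 0 := by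
  unfold Rad
  decide +kernel

theorem red_wa (w : coxeterD4.Group) {x : Lat 4} (h : Rad (red x)) : red (wa tD4 w x) = red x := by
  induction w using coxeterD4.toCoxeterSystem.simple_induction_left with
  | one => rw [wa_one]
  | mul_simple_left w j ih =>
    rw [wa_mul, wa_simple]
    funext i
    have h1 := rad_car _ (ih ▸ h) j
    rw [red, Pi.sub_apply, Pi.smul_apply, smul_eq_mul, Int.cast_sub, Int.cast_mul, psi_apply, Int.cast_sum]
    simp only [Int.cast_mul]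
    rw [show ∑ i, ((wa tD4 w x i : ℤ) : ZMod 2) * (cartanOf chevD4 4 j i : ZMod 2) = 0 from h1, zero_mul, sub_zero]
    exact congrFun ih i

/-- the two trialities -/
def rt4 (b : Bool) (v : Fin 4 → ZMod 2) : Fin 4 → ZMod 2 := if b then ![v 3, v 1, v 0, v 2] else ![v 2, v 1, v 3, v 0]

theorem tri_perm : ∀ σ : Equiv.Perm (Fin 4), σ ^ 3 = 1 → σ ≠ 1 →
    (∀ i j, cartanOf chevD4 4 (σ i) (σ j) = cartanOf chevD4 4 i j) →
    σ 1 = 1 ∧ ((σ 0 = 2 ∧ σ 2 = 3 ∧ σ 3 = 0) ∨ (σ 0 = 3 ∧ σ 3 = 2 ∧ σ 2 = 0)) := by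
  decide +kernel

theorem tri_red {g0 : Lat 4 ≃+ Lat 4} (h : IsTri g0) : ∃ b, ∀ x, red (g0 x) = rt4 b (red x) := by
  obtain ⟨σ, h1, h2, h3⟩ := h
  have key : ∀ x j, g0 x (σ j) = x j := fun x j => by
    have e : x = ∑ k, x k • (sr k : Lat 4) := by
      funext j
      simp [Finset.sum_apply, sr, Pi.single_apply]
    conv_lhs => rw [e, map_sum]
    simp only [map_zsmul, h3]
    simp [Finset.sum_apply, sr, Pi.single_apply]
  obtain ⟨e1, ⟨e0, e2, e3⟩ | ⟨e0, e3, e2⟩⟩ := tri_perm σ (by rw [← h1, pow_orderOf_eq_one])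
    (by rintro rfl; rw [orderOf_one] at h1; omega) h2
  · refine ⟨true, fun x => funext fun i => ?_⟩
    have := key x 0; have := key x 1; have := key x 2; have := key x 3
    fin_cases i <;> simp_all [red, rt4]
  · refine ⟨false, fun x => funext fun i => ?_⟩
    have := key x 0; have := key x 1; have := key x 2; have := key x 3
    fin_cases i <;> simp_all [red, rt4]

theorem rad_rt : ∀ (b : Bool) (v : Fin 4 → ZMod 2), Rad v → Rad (rt4 b v) ∧ (rt4 b v = v → v = 0) := by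
  unfold Rad
  decide +kernel

theorem red_g {g0 : Lat 4 ≃+ Lat 4} (h : IsTri g0) (E : Frame tD4 p d g0 L) :
    ∃ b, ∀ x, Rad (red x) → red (E.g x) = rt4 b (red x) := by
  obtain ⟨b, hb⟩ := tri_red h
  obtain ⟨w, hw⟩ := E.gr
  exact ⟨b, fun x hx => by rw [hw, red_wa w (by rw [hb]; exact (rad_rt b _ hx).1), hb]⟩

theorem sd_chk : ∀ (b : Bool) (n : Fin 4 → ZMod 2),
    (∑ i, rt4 b (red ![1, 0, 1, 0]) i * n i = ∑ i, red ![1, 0, 1, 0] i * n i) →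
    (∑ i, rt4 b (red ![1, 0, 0, 1]) i * n i = ∑ i, red ![1, 0, 0, 1] i * n i) → Sd n := by
  unfold Sd
  decide +kernel

theorem sd_of (hp2 : p ≠ 2) {g0 : Lat 4 ≃+ Lat 4} (h : IsTri g0) (E : Frame tD4 p d g0 L) {x : L}
    {φ : Lat 4 →+ ZMod 2} (hφ : Chi tD4 (-1) (E.ι x) φ) : Sd (co φ) := by
  obtain ⟨b, hb⟩ := red_g h E
  refine sd_chk b _ ?_ ?_
  · rw [← hb _ (by unfold Rad; decide), ← apply_red, ← apply_red, chi2_g E hp2 hφ]
  · rw [← hb _ (by unfold Rad; decide), ← apply_red, ← apply_red, chi2_g E hp2 hφ]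

theorem d4_chk : ∀ n : Fin 4 → ZMod 2, Sd n → n ≠ 0 → sepk dD4 n ∧ ∀ e ∈ dD4.T, ev n e.b = 0 → a1k dD4 n e ∧
    ∀ e' ∈ dD4.T, ev n e'.b = 0 → Rad (red (toF 4 e.b) + red (toF 4 e'.b)) ∧
      (red (toF 4 e'.b) = red (toF 4 e.b) → e'.b = e.b) ∧ ∀ b : Bool, ∃ f ∈ dD4.T, ev n f.b = 0 ∧
        red (toF 4 e'.b) + rt4 b (red (toF 4 e.b) + red (toF 4 f.b)) = red (toF 4 f.b) := by
  unfold Sd sepk a1k Rad
  decide +kernel

section d4

variable {φ : Lat 4 →+ ZMod 2} (hS : Sd (co φ)) (h0 : φ ≠ 0) {c c' : Lat 4}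
include hS h0

theorem d4_a1c (hc : c ∈ Psi tD4 φ) : A1c tD4 (Psi tD4 φ) c := by
  obtain ⟨e, he, h1, h2⟩ := psi_ex tabD4 hc
  have h3 := (a1c_iff tabD4 he).2 ((d4_chk _ hS (co_ne h0)).2 e he h1).1
  rcases h2 with rfl | rfl
  · exact h3
  · exact a1c_neg h3

theorem d4_rad (hc : c ∈ Psi tD4 φ) (hc' : c' ∈ Psi tD4 φ) : Rad (red (c + c')) := by
  obtain ⟨e, he, h1, h2⟩ := psi_ex tabD4 hc
  obtain ⟨e', he', h3, h4⟩ := psi_ex tabD4 hc'
  rw [red_add, red_pm h2, red_pm h4]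
  exact (((d4_chk _ hS (co_ne h0)).2 e he h1).2 e' he' h3).1

theorem d4_eq (hc : c ∈ Psi tD4 φ) (hc' : c' ∈ Psi tD4 φ) (h : red c' = red c) : c' = c ∨ c' = -c := by
  obtain ⟨e, he, h1, h2⟩ := psi_ex tabD4 hc
  obtain ⟨e', he', h3, h4⟩ := psi_ex tabD4 hc'
  rw [red_pm h2, red_pm h4] at h
  rw [(((d4_chk _ hS (co_ne h0)).2 e he h1).2 e' he' h3).2.1 h] at h4
  rcases h2 with rfl | rfl
  · exact h4
  · rw [neg_neg]
    exact h4.symm

theorem d4_fix (hc : c ∈ Psi tD4 φ) (hc' : c' ∈ Psi tD4 φ) (b : Bool) :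
    ∃ f ∈ Psi tD4 φ, red c' + rt4 b (red (c + f)) = red f := by
  obtain ⟨e, he, h1, h2⟩ := psi_ex tabD4 hc
  obtain ⟨e', he', h3, h4⟩ := psi_ex tabD4 hc'
  obtain ⟨f, hf, h5, h6⟩ := (((d4_chk _ hS (co_ne h0)).2 e he h1).2 e' he' h3).2.2 b
  exact ⟨toF 4 f.b, ⟨tabD4.rt f hf, by rwa [ev_co] at h5⟩, by rwa [red_add, red_pm h2, red_pm h4]⟩

end d4

theorem add_self_red (v : Fin l → ZMod 2) : v + v = 0 := funext fun i => CharTwo.add_self_eq_zero _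

theorem psi_g (hp2 : p ≠ 2) (E : Frame hp p d g0 L) {x : L} {φ : Lat l →+ ZMod 2} (hφ : Chi hp (-1) (E.ι x) φ)
    {c : Lat l} (hc : c ∈ Psi hp φ) : E.g c ∈ Psi hp φ :=
  ⟨(E.fr.root c).2 hc.1, by rw [chi2_g E hp2 hφ, hc.2]⟩

theorem admd (hp2 : p ≠ 2) {g0 : Lat 4 ≃+ Lat 4} (h : IsTri g0) : Adm tD4 p d g0 L (fun φ => Sd (co φ)) := by
  intro E x φ hφ
  have hS := sd_of hp2 h E hφ
  refine ⟨hS, fun hr => ?_⟩
  have h0 : φ ≠ 0 := by
    rintro rfl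
    exact absurd (((qkd.qd tabD4).rho 0 hS).2 hr) (by decide)
  obtain ⟨c, hc, -⟩ := hr
  obtain ⟨b, hb⟩ := red_g h E
  obtain ⟨f, hf, h1⟩ := d4_fix hS h0 hc (psi_g hp2 E hφ hc) b
  refine ⟨f, d4_a1c hS h0 hf, d4_eq hS h0 hf (psi_g hp2 E hφ hf) ?_⟩
  rw [← hb _ (d4_rad hS h0 hc hf), map_add, red_add, ← add_assoc, add_self_red, zero_add] at h1
  exact h1

theorem not_comm {a : Lat l} (ha : Rt hp a) : xc hp a (1 : kb p) * xc hp (-a) 1 ≠ xc hp (-a) 1 * xc hp a 1 := by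
  intro h
  rw [← sl_up ha, ← sl_lo ha] at h
  have h1 := comm_of_tr (tr_lo (1 : kb p)) ((sl_ck ha).cmt h)
  have h2 := congrArg (fun g : SL (kb p) => g.1 0 0) h1
  simp only [mul_e, up00, up01, up10, lo00, lo01, lo10] at h2
  exact one_ne_zero (α := kb p) (by linear_combination h2)

/-- a fixed point permutes the `A₁`-components compatibly with the Frobenius map -/
theorem comm_g (E : Frame hp p d g0 L) {φ : Lat l →+ ZMod 2} (hA : ∀ a ∈ Psi hp φ, A1c hp (Psi hp φ) a)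
    (hg : ∀ a ∈ Psi hp φ, E.g a ∈ Psi hp φ) {m k : YY D p} (hm : m ∈ MS D l p (Psi hp φ)) {w : M.Group}
    (hk : RP hp p w k) (hw : Fixs hp w φ) (hF : E.F (m * k) = m * k) {c : Lat l} (hc : c ∈ Psi hp φ) :
    wa hp w (E.g c) = E.g (wa hp w c) ∨ wa hp w (E.g c) = -E.g (wa hp w c) := by
  have hwa : ∀ a ∈ Psi hp φ, wa hp w a ∈ Psi hp φ := fun a ha => ⟨ha.1.wa' w, by rw [hw a, ha.2]⟩
  have c1 : ∀ a ∈ Psi hp φ, ∀ x ∈ XR D l p a, m * k * x * (m * k)⁻¹ ∈ MS D l p {wa hp w a, -wa hp w a} := by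
    intro a ha x hx
    obtain ⟨s, rfl⟩ := (mem_XR ha.1).1 hx
    obtain ⟨μ, -, h1⟩ := rp_xc hk ha.1
    have h2 := (hwa a ha).1
    obtain ⟨j, hj⟩ := (spl_psi (p := p) h2 (hA _ (hwa a ha))).inn _ hm
    have h3 : m * k * xc hp a s * (m * k)⁻¹ = m * (k * xc hp a s * k⁻¹) * m⁻¹ := by group
    rw [h3, h1, ← sl_up h2, hj]
    exact sl_mem h2 _
  have c2 : ∀ a ∈ Psi hp φ, ∀ x ∈ XR D l p (E.g a),
      m * k * x * (m * k)⁻¹ ∈ MS D l p {E.g (wa hp w a), -E.g (wa hp w a)} := by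
    intro a ha x hx
    obtain ⟨x, rfl⟩ := E.F.surjective x
    have h1 := c1 a ha x ((E.fr.map a ha.1 x).1 hx)
    rw [← hF, ← map_inv, ← map_mul, ← map_mul]
    refine (E.fr.mem_Sup ?_ (fun b => ?_) _).2 h1
    · rintro _ (rfl | rfl)
      · exact (hwa a ha).1
      · exact (hwa a ha).1.neg'
    · simp only [Set.mem_insert_iff, Set.mem_singleton_iff, ← map_neg, EmbeddingLike.apply_eq_iff_eq]
  by_contra hne
  rw [not_or] at hne
  have hb := hwa _ (hg c hc)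
  have hb' := hg _ (hwa c hc)
  have hgc := (hg c hc).1
  have h1 := c1 _ (hg c hc) _ (xc_mem_XR hgc 1)
  have h2 := c2 _ (psi_neg' hc) (xc hp (-E.g c) 1) (by rw [map_neg]; exact xc_mem_XR hgc.neg' 1)
  rw [wa_neg, map_neg, neg_neg, Set.pair_comm, ← sl_range hb'.1] at h2
  obtain ⟨j, hj⟩ := h2
  have h3 := (spl_psi (p := p) hb'.1 (hA _ hb')).cz _ (RGD.Sup_mono (by
    rintro _ (rfl | rfl)
    · exact ⟨hb, hne⟩
    · exact ⟨psi_neg' hb, fun e => hne.2 (neg_eq_iff_eq_neg.1 e), fun e => hne.1 (neg_injective e)⟩) h1) j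
  rw [hj] at h3
  refine not_comm (p := p) hgc ((MulAut.conj (m * k)).injective ?_)
  rw [map_mul (MulAut.conj (m * k)), map_mul (MulAut.conj (m * k))]
  exact h3

theorem connd (hp2 : p ≠ 2) {g0 : Lat 4 ≃+ Lat 4} (h : IsTri g0) : ConnAll tD4 p d g0 L := by
  intro E x hx ht y hy
  obtain ⟨φ, hφ⟩ := exists_chi hp2 E hx ht
  have hS := sd_of hp2 h E hφ
  refine mem_DZ_of tabD4 hp2 hφ (fun h0 => (d4_chk _ hS (co_ne h0)).1) (comm_ι E hy) fun h0 m hm w k hk hw e c hc => ?_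
  obtain ⟨b, hb⟩ := red_g h E
  have hwc : wa tD4 w c ∈ Psi tD4 φ := ⟨hc.1.wa' w, by rw [hw c, hc.2]⟩
  have h1 := red_pm (comm_g E (fun a ha => d4_a1c hS h0 ha) (fun a ha => psi_g hp2 E hφ ha) hm hk hw
    (by rw [← e, E.fix]) hc)
  have h2 := red_wa w (d4_rad hS h0 hc (psi_g hp2 E hφ hc))
  have h3 := d4_rad hS h0 hc hwc
  have h4 := hb _ h3
  rw [wa_add, red_add, red_add, h1] at h2
  rw [map_add, red_add] at h4
  have h5 := (rad_rt b _ h3).2 (by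
    rw [← h4, red_add, ← add_zero (red (E.g c) + _), ← add_self_red (red (wa tD4 w c))]
    calc red (E.g c) + red (E.g (wa tD4 w c)) + (red (wa tD4 w c) + red (wa tD4 w c))
        = red (E.g c) + (red (wa tD4 w c) + red (E.g (wa tD4 w c))) + red (wa tD4 w c) := by abel
      _ = red (E.g c) + red (E.g c) + (red c + red (wa tD4 w c)) := by rw [h2]; abel
      _ = _ := by rw [add_self_red, zero_add])
  refine d4_eq hS h0 hc hwc ?_
  rw [red_add] at h5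
  rw [← add_zero (red c), ← h5, ← add_assoc, add_self_red, zero_add]

theorem noCore_f4 (one : OneA) (hp2 : p ≠ 2) {g0 : Lat 4 ≃+ Lat 4} (E : Frame tF4 p d g0 L) (hq : 5 ≤ E.q) : NoCore L :=
  noCore_of one (by norm_num) f4_ne (qk4.qd tabF4) hp2 (adm_uniq hp2 fun _ _ _ => uniq_of tabF4 un4)
    (conn_typ hp2 (Or.inl rfl) (ne_E7 (by decide))) E hq

theorem boxLow' (one : OneA) : BoxLow where
  g2 p _ L _ _ E U _ _ τ α β R R' c hp2 hq :=
    noCore_of one (by norm_num) g2_ne (qk2.qd tabG2) hp2 (adm2 hp2) (conn2 hp2) E hq U τ α β R R' c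
  d4 g0 h p _ L _ _ E U _ _ τ α β R R' c hp2 hq :=
    noCore_of one (by norm_num) d4_ne (qkd.qd tabD4) hp2 (admd hp2 h) (connd hp2 h) E hq U τ α β R R' c
  f4 p _ L _ _ E U _ _ τ α β R R' c hp2 hq := noCore_f4 one hp2 E hq U τ α β R R' c
  e6 d ε _ p _ L _ _ E U _ _ τ α β R R' c hp2 hq :=
    noCore_of one (by norm_num) e6_ne (qk6.qd tabE6) hp2 (adm_uniq hp2 fun _ _ _ => uniq_of tabE6 un6)
      (conn_typ hp2 (Or.inr (Or.inl rfl)) (ne_E7 (by decide))) E hq U τ α β R R' c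

/-- **`BoxLow`.** -/
theorem boxLow (one : BoxOne) : BoxLow := boxLow' (OneA.of one)

end Cfsg.Agent.Cam.Odd.Low
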