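import Cfsg.Agent.Cam.Odd.Iface
import Cfsg.Agent.Cam.Ex.K
import Cfsg.Agent.Cam.Ex.Asm
import Cfsg.Agent.S0205
import Cfsg.Agent.S0215
import Cfsg.Agent.S1180

/-!
# S3689, S3690, exceptional rows: involutions, the abstract argument (helper70)

`p` is odd.  An involution of `L` has type one if the root system of its centralizer has a component `A₁`.  The type is a
quadratic form on the involutions of a torus (`QD`); it is additive on the commuting involutions of `τ U` and of `α U`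
(`K3`), and the `Z*`-theorem gives a totally singular three-dimensional subspace.
-/

set_option autoImplicit false
set_option linter.unusedVariables false
set_option linter.unusedSectionVars false

namespace Cfsg.Agent.Cam.Odd.Low

open CoxeterSystem Cfsg Cfsg.Lie Subgroup
open Cfsg.Agent.ChevalleyStructure.CoxeterGeom Cfsg.Agent.ChevalleyStructure.CoxeterGeomTypes
open Cfsg.Agent.Tits.Roots Cfsg.Agent.Nodes.BNOf Cfsg.Agent.Nodes.RGDChev Cfsg.Agent.Nodes.Coroot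
open Cfsg.Agent.KFacts.RgdChevCoord Cfsg.Agent.BpExc.TorCent Cfsg.Agent.BpExc.LangFr Cfsg.Agent.BpExc.SubBN
open Cfsg.Agent.Cam.Spor Cfsg.Agent.Cam.Ex Cfsg.Agent.Cam.Ex.S2
open Cfsg.Agent.DS.Nt (RP DZ)
open scoped commutatorElement

section zstar

variable {G : Type} [Group G] [Finite G]

/-- an involution of a non-abelian simple group commutes with another conjugate -/
theorem exists_commuting (hs : IsSimpleGroup G) (hG : ¬ IsMulCommutative G) {z : G} (hz : z * z = 1) (h1 : z ≠ 1) :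
    ∃ g : G, g * z * g⁻¹ ≠ z ∧ z * (g * z * g⁻¹) = (g * z * g⁻¹) * z := by
  have : Fact (Nat.Prime 2) := ⟨Nat.prime_two⟩
  have hz2 : orderOf z = 2 := orderOf_eq_prime (by rw [pow_two, hz]) h1
  by_contra hcon
  push Not at hcon
  have hiso : Cfsg.IsIsolatedInvolution z := ⟨hz2, fun g hg => by
    by_contra hne
    exact hcon g hne hg.eq⟩
  have hp : IsPGroup 2 (zpowers z) := IsPGroup.of_card (n := 1) (by rw [Nat.card_zpowers, hz2, pow_one])
  obtain ⟨P, hP⟩ := hp.exists_le_sylow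
  have htP : z ∈ P := hP (mem_zpowers z)
  obtain ⟨N, hN, hodd, hcomm⟩ := Cfsg.Agent.S0215.result P z hz2 htP
    (fun g hg => Cfsg.Agent.S1180.eq_of_conj_mem_isPGroup z hiso (P : Subgroup G) P.2 htP g hg)
  rcases hN.eq_bot_or_eq_top with h | h
  · have htc : z ∈ center G := by
      rw [mem_center_iff]
      intro g
      have := hcomm g
      rw [h, mem_bot, mul_inv_eq_one, mul_inv_eq_iff_eq_mul] at this
      exact this.symm
    rcases (inferInstance : (center G).Normal).eq_bot_or_eq_top with hc | hc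
    · rw [hc, mem_bot] at htc
      exact h1 htc
    · exact hG ⟨⟨fun a b => mem_center_iff.1 (by rw [hc]; exact mem_top b) a⟩⟩
  · rw [h, card_top] at hodd
    exact (Nat.not_even_iff_odd.2 hodd) (even_iff_two_dvd.2 (hz2 ▸ orderOf_dvd_natCard z))

theorem exists_inv (hs : IsSimpleGroup G) (hG : ¬ IsMulCommutative G) : ∃ z : G, z * z = 1 ∧ z ≠ 1 := by
  have : Fact (Nat.Prime 2) := ⟨Nat.prime_two⟩
  have h1 : 2 ∣ Nat.card G := by
    by_contra h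
    have h2 := Cfsg.Agent.S0205.result (G := G) (Nat.not_even_iff_odd.1 fun h3 => h (even_iff_two_dvd.1 h3))
    exact hG ⟨⟨IsSimpleGroup.comm_iff_isSolvable.2 h2⟩⟩
  obtain ⟨z, hz⟩ := exists_prime_orderOf_dvd_card' 2 h1
  refine ⟨z, by rw [← pow_two, ← hz, pow_orderOf_eq_one], ?_⟩
  rintro rfl
  rw [orderOf_one] at hz
  omega

theorem conj_sq {z : G} (hz : z * z = 1) (g : G) : g * z * g⁻¹ * (g * z * g⁻¹) = 1 := by
  calc g * z * g⁻¹ * (g * z * g⁻¹) = g * (z * z) * g⁻¹ := by group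
    _ = 1 := by rw [hz, mul_one, mul_inv_cancel]

theorem mul_sq {a b : G} (ha : a * a = 1) (hb : b * b = 1) (h : a * b = b * a) : a * b * (a * b) = 1 := by
  calc a * b * (a * b) = a * (b * a) * b := by group
    _ = 1 := by rw [← h, ← mul_assoc, ha, one_mul, hb]

theorem mul_ne {a b : G} (ha : a * a = 1) (h : b ≠ a) : a * b ≠ 1 := fun e =>
  h (mul_left_cancel (e.trans ha.symm))

end zstar

variable {D : ChevalleyDatum} {l : ℕ} {M : CoxeterMatrix (Fin l)} {hp : IsType D l M} {p : ℕ} [Fact p.Prime]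

/-- the core of `P8` for an `A₁`-component of the centralizer of an involution -/
def OneA : Prop := ∀ (D : ChevalleyDatum) (l : ℕ) (M : CoxeterMatrix (Fin l)) (hp : IsType D l M), l ≤ 7 → D ≠ chevB2 →
  ∀ (p : ℕ) [Fact p.Prime] (d : ℕ) (g0 : Lat l ≃+ Lat l) (L : Type) [Group L] [Finite L] (E : Frame hp p d g0 L)
    (U : Type) [Group U] [Finite U] (τ α β : U →* L) (R R' : Subgroup L), Core τ α β R R' → p ≠ 2 → 5 ≤ E.q →
    ∀ (u : U) (φ : Lat l →+ ZMod 2), Chi hp (-1) (E.ι (τ u)) φ → ∀ c, A1c hp (Psi hp φ) c →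
    (E.g c = c ∨ E.g c = -c) → ¬ Cen E R {c, -c}

theorem OneA.of (one : BoxOne) : OneA := fun D l M hp hl hB2 p _ d g0 L _ _ E U _ _ τ α β R R' co hp2 hq u φ _ c hc hg =>
  one D l M hp hl hB2 p d g0 L E U τ α β R R' co hp2 hq c hc.1.1 hg

theorem prim2 (hp2 : p ≠ 2) : IsPrimitiveRoot (-1 : kb p) 2 := IsPrimitiveRoot.neg_one p hp2

theorem z2 (x : ZMod 2) : x = 0 ∨ x = 1 := by revert x; decide

/-- `S` has a component `A₁` -/
def Rho (hp : IsType D l M) (S : Set (Lat l)) : Prop := ∃ c, A1c hp S c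

theorem rho_conj {s y : YY D p} (hs : s ∈ TT D (kb p)) (hy : y * s * y⁻¹ ∈ TT D (kb p)) (h : Rho hp (PsiS hp {s})) :
    Rho hp (PsiS hp {y * s * y⁻¹}) := by
  obtain ⟨w, hw⟩ := exists_weyl (hp := hp) boxChi y
  have key : ∀ a, Rt hp a → (wa hp w a ∈ PsiS hp {y * s * y⁻¹} ↔ a ∈ PsiS hp {s}) := fun a ha => by
    constructor
    · rintro ⟨-, h1⟩
      refine ⟨ha, ?_⟩
      rintro _ rfl
      rw [← hw _ hs hy a ha]
      exact h1 _ rfl
    · rintro ⟨-, h1⟩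
      refine ⟨ha.wa' w, ?_⟩
      rintro _ rfl
      rw [hw s hs hy a ha]
      exact h1 _ rfl
  obtain ⟨c, hc, hc'⟩ := h
  refine ⟨wa hp w c, (key c hc.1).2 hc, fun a ha => ?_⟩
  have h1 : Rt hp (wa hp w⁻¹ a) := ha.1.wa' _
  rcases hc' _ ((key _ h1).1 (by rwa [wa_wa_inv])) with h2 | h2 | h2
  · left
    rw [← h2, wa_wa_inv]
  · right; left
    rw [← wa_neg, ← h2, wa_wa_inv]
  · right; right
    rw [← cp_wa w _ hc.1, wa_wa_inv] at h2
    exact h2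

open Classical in
/-- the type of an element -/
noncomputable def lam (hp : IsType D l M) (y : YY D p) : ZMod 2 :=
  if ∃ g : YY D p, g * y * g⁻¹ ∈ TT D (kb p) ∧ Rho hp (PsiS hp {g * y * g⁻¹}) then 1 else 0

theorem lam_conj (z y : YY D p) : lam hp (z * y * z⁻¹) = lam hp y := by
  classical
  unfold lam
  refine if_congr ⟨?_, ?_⟩ rfl rfl
  · rintro ⟨g, h⟩
    refine ⟨g * z, ?_⟩
    rwa [show g * z * y * (g * z)⁻¹ = g * (z * y * z⁻¹) * g⁻¹ by group]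
  · rintro ⟨g, h⟩
    refine ⟨g * z⁻¹, ?_⟩
    rwa [show g * z⁻¹ * (z * y * z⁻¹) * (g * z⁻¹)⁻¹ = g * y * g⁻¹ by group]

theorem lam_eq_one {t : YY D p} (ht : t ∈ TT D (kb p)) : lam hp t = 1 ↔ Rho hp (PsiS hp {t}) := by
  unfold lam
  split_ifs with h
  · refine iff_of_true rfl ?_
    obtain ⟨g, h1, h2⟩ := h
    have e : g⁻¹ * (g * t * g⁻¹) * g⁻¹⁻¹ = t := by group
    have h3 := rho_conj (y := g⁻¹) h1 (by rwa [e]) h2
    rwa [e] at h3
  · refine iff_of_false zero_ne_one fun h1 => h ⟨1, ?_⟩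
    rw [inv_one, one_mul, mul_one]
    exact ⟨ht, h1⟩

/-- the type is a quadratic form of Witt index at most two on the admissible characters -/
structure QD (hp : IsType D l M) (S : (Lat l →+ ZMod 2) → Prop) (Q : (Lat l →+ ZMod 2) → ZMod 2) : Prop where
  rho : ∀ φ, S φ → (Q φ = 1 ↔ Rho hp (Psi hp φ))
  tri : ∀ φ ψ χ, Q (φ + ψ + χ) + Q (φ + ψ) + Q (φ + χ) + Q (ψ + χ) + Q φ + Q ψ + Q χ = 0
  k3 : ∀ φ ψ, S φ → S ψ → ∀ c, A1c hp (Psi hp φ) c → ψ c = 0 → Q (φ + ψ) = Q φ + Q ψ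
  witt : ∀ φ ψ χ, S φ → S ψ → S χ → Q φ = 0 → Q ψ = 0 → Q (φ + ψ) = 0 → Q χ = 0 → Q (φ + χ) = 0 → Q (ψ + χ) = 0 →
    Q (φ + ψ + χ) = 0 → φ = 0 ∨ ψ = 0 ∨ φ + ψ = 0 ∨ χ = 0 ∨ φ + χ = 0 ∨ ψ + χ = 0 ∨ φ + ψ + χ = 0

theorem QD.lam {S : (Lat l →+ ZMod 2) → Prop} {Q : (Lat l →+ ZMod 2) → ZMod 2} (qd : QD hp S Q) (hp2 : p ≠ 2)
    {t : YY D p} {φ : Lat l →+ ZMod 2} (h : Chi hp (-1) t φ) (hS : S φ) : lam hp t = Q φ := by
  have h1 := lam_eq_one (hp := hp) h.1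
  rw [h.psiS (prim2 hp2), ← qd.rho φ hS] at h1
  rcases z2 (Low.lam hp t) with h2 | h2 <;> rcases z2 (Q φ) with h3 | h3
  · rw [h2, h3]
  · exact h1.2 h3 ▸ h3.symm
  · exact h1.1 h2 ▸ h2
  · rw [h2, h3]

variable {d : ℕ} {g0 : Lat l ≃+ Lat l} {L : Type} [Group L]

theorem cj_trans {E E' E'' : Frame hp p d g0 L} (h : E.Cj E') (h' : E'.Cj E'') : E.Cj E'' := by
  obtain ⟨e, z, hz⟩ := h
  obtain ⟨e', z', hz'⟩ := h'
  exact ⟨e'.trans e, z * z', fun x => by rw [hz', hz]; group⟩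

theorem cj_q {E E' : Frame hp p d g0 L} (h : E.Cj E') : E'.q = E.q := by
  unfold Frame.q
  rw [h.1]

theorem cj_lam {E E' : Frame hp p d g0 L} (h : E.Cj E') (x : L) : lam hp (E'.ι x) = lam hp (E.ι x) := by
  obtain ⟨-, z, hz⟩ := h
  rw [hz, ← lam_conj z⁻¹ (E.ι x), inv_inv]

theorem lam_conj' (E : Frame hp p d g0 L) (z x : L) : lam hp (E.ι (z * x * z⁻¹)) = lam hp (E.ι x) := by
  rw [map_mul, map_mul, map_inv, lam_conj]

/-- the centralizer of `x` in `L` lies in the connected centralizer -/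
def Conn (E : Frame hp p d g0 L) (x : L) : Prop := ∀ y : L, y * x = x * y → E.ι y ∈ DZ hp p {E.ι x}

theorem sq_ι (E : Frame hp p d g0 L) {x : L} (hx : x * x = 1) : E.ι x ^ 2 = 1 := by
  rw [← map_pow, pow_two, hx, map_one]

theorem exists_one (hp2 : p ≠ 2) (E : Frame hp p d g0 L) {x : L} (hx : x * x = 1) :
    ∃ E' : Frame hp p d g0 L, E.Cj E' ∧ E'.ι x ∈ TT D (kb p) := by
  obtain ⟨g, hg⟩ := DS.Nt.exists_conj_T hp (x := E.ι x) Nat.prime_two hp2.symm (n := 1) (by rw [pow_one, sq_ι E hx])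
  obtain ⟨E', h1, h2⟩ := E.exists_cj (Set.finite_singleton x) (g := g) (by rintro _ rfl; exact hg)
  exact ⟨E', h1, by rw [h2 x rfl]; exact hg⟩

/-- one more toral involution -/
theorem exists_step (hp2 : p ≠ 2) (E : Frame hp p d g0 L) {Z : Set L} (hfin : Z.Finite)
    (hZ : ∀ x ∈ Z, E.ι x ∈ TT D (kb p) ∧ x * x = 1) {y : L} (hy : E.ι y ∈ DZ hp p (E.ι '' Z)) (hy2 : y * y = 1) :
    ∃ E' : Frame hp p d g0 L, E.Cj E' ∧ E'.ι y ∈ TT D (kb p) ∧ ∀ x ∈ Z, E'.ι x ∈ TT D (kb p) := by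
  have hT : E.ι '' Z ⊆ TT D (kb p) := by
    rintro _ ⟨x, hx, rfl⟩
    exact (hZ x hx).1
  have h2 : IsPGroup 2 (closure (insert (E.ι y) (E.ι '' Z))) := by
    refine DS.Nt.isPGroup_of_comm ?_ ?_
    · rintro a (rfl | ha) b (rfl | hb)
      · rfl
      · exact DS.Nt.DZ_comm hT hy hb
      · exact (DS.Nt.DZ_comm hT hy ha).symm
      · exact T_comm hp (hT ha) (hT hb)
    · rintro a (rfl | ⟨x, hx, rfl⟩)
      · exact ⟨1, by rw [pow_one, sq_ι E hy2]⟩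
      · exact ⟨1, by rw [pow_one, sq_ι E (hZ x hx).2]⟩
  obtain ⟨g, hg⟩ := DS.Nt.toral_step (n := 1) Nat.prime_two hp2.symm (hfin.image E.ι) hT hy
    (by rw [pow_one, sq_ι E hy2]) h2 le_rfl
  have h3 : ∀ x ∈ insert y Z, g * E.ι x * g⁻¹ ∈ TT D (kb p) := by
    rintro x (rfl | hx)
    · exact hg _ (subset_closure (Set.mem_insert _ _))
    · exact hg _ (subset_closure (Set.mem_insert_of_mem _ ⟨x, hx, rfl⟩))
  obtain ⟨E', h1, h4⟩ := E.exists_cj (hfin.insert y) h3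
  refine ⟨E', h1, ?_, fun x hx => ?_⟩
  · rw [h4 y (Set.mem_insert _ _)]
    exact h3 y (Set.mem_insert _ _)
  · rw [h4 x (Set.mem_insert_of_mem _ hx)]
    exact h3 x (Set.mem_insert_of_mem _ hx)

/-- all toral involutions have connected centralizers -/
def ConnAll (hp : IsType D l M) (p : ℕ) [Fact p.Prime] (d : ℕ) (g0 : Lat l ≃+ Lat l) (L : Type) [Group L] : Prop :=
  ∀ (E : Frame hp p d g0 L) (x : L), x * x = 1 → E.ι x ∈ TT D (kb p) → Conn E x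

theorem exists_two (hp2 : p ≠ 2) (E : Frame hp p d g0 L) {x y : L} (hx : x * x = 1) (hy : y * y = 1)
    (hxy : x * y = y * x) (hc : ∀ E' : Frame hp p d g0 L, E.Cj E' → E'.ι x ∈ TT D (kb p) → Conn E' x) :
    ∃ E' : Frame hp p d g0 L, E.Cj E' ∧ E'.ι x ∈ TT D (kb p) ∧ E'.ι y ∈ TT D (kb p) := by
  obtain ⟨E₁, h1, h2⟩ := exists_one hp2 E hx
  obtain ⟨E₂, h3, h4, h5⟩ := exists_step hp2 E₁ (Set.finite_singleton x) (by rintro _ rfl; exact ⟨h2, hx⟩) (y := y)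
    (by rw [Set.image_singleton]; exact hc E₁ h1 h2 y hxy.symm) hy
  exact ⟨E₂, cj_trans h1 h3, h5 x rfl, h4⟩

/-- a toral pair and an involution of a perfect group centralizing the pair -/
theorem exists_three (hp2 : p ≠ 2) (E : Frame hp p d g0 L) {x y z : L} (hx : x * x = 1) (hy : y * y = 1)
    (hz : z * z = 1) (hx' : E.ι x ∈ TT D (kb p)) (hy' : E.ι y ∈ TT D (kb p)) {J : Subgroup L} (hJ : ⁅J, J⁆ = J)
    (hzJ : z ∈ J) (hxJ : ∀ j ∈ J, x * j = j * x) (hyJ : ∀ j ∈ J, y * j = j * y) :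
    ∃ E' : Frame hp p d g0 L, E.Cj E' ∧ E'.ι x ∈ TT D (kb p) ∧ E'.ι y ∈ TT D (kb p) ∧ E'.ι z ∈ TT D (kb p) := by
  have hZ : ∀ a ∈ ({x, y} : Set L), E.ι a ∈ TT D (kb p) ∧ a * a = 1 := by
    rintro a (rfl | rfl)
    · exact ⟨hx', hx⟩
    · exact ⟨hy', hy⟩
  have h1 := E.perf_le (Q := E.ι '' {x, y}) Nat.prime_two
    (by rintro _ ⟨a, ha, rfl⟩; exact ⟨(hZ a ha).1, sq_ι E (hZ a ha).2⟩) hJ (by
      rintro _ ⟨a, rfl | rfl, rfl⟩ j hj
      · rw [← map_mul, hxJ j hj, map_mul]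
      · rw [← map_mul, hyJ j hj, map_mul]) (mem_map_of_mem _ hzJ)
  obtain ⟨E', h2, h3, h4⟩ := exists_step hp2 E (Set.toFinite {x, y}) hZ (DS.Nt.Mz_le_DZ h1) hz
  exact ⟨E', h2, h4 x (Or.inl rfl), h4 y (Or.inr rfl), h3⟩

theorem exists_chi (hp2 : p ≠ 2) (E : Frame hp p d g0 L) {x : L} (hx : x * x = 1) (h : E.ι x ∈ TT D (kb p)) :
    ∃ φ : Lat l →+ ZMod 2, Chi hp (-1) (E.ι x) φ := chi_ex hp (prim2 hp2) two_pos h (sq_ι E hx)

theorem chi_mul (hp2 : p ≠ 2) {E : Frame hp p d g0 L} {x y : L} {φ ψ : Lat l →+ ZMod 2} (h : Chi hp (-1) (E.ι x) φ)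
    (h' : Chi hp (-1) (E.ι y) ψ) : Chi hp (-1) (E.ι (x * y)) (φ + ψ) := by
  rw [map_mul]
  exact h.mul (prim2 hp2) h'

theorem chi_zero (hp2 : p ≠ 2) {E : Frame hp p d g0 L} {x : L} {φ : Lat l →+ ZMod 2} (h : Chi hp (-1) (E.ι x) φ)
    (h0 : φ = 0) : x = 1 := by
  by_contra h1
  exact h.ne_zero (prim2 hp2) boxChi (fun h2 => h1 (E.inj (by rw [h2, map_one]))) h0

variable [Finite L] {U : Type} [Group U] [Finite U] {τ α β : U →* L} {R R' : Subgroup L}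

/-- **`K3` for involutions**: a toral element of `T` commuting with the toral involution `τ u` centralizes the
`A₁`-components -/
theorem k3_tau (one : OneA) (hl : l ≤ 7) (hB2 : D ≠ chevB2) (hp2 : p ≠ 2) (E : Frame hp p d g0 L) (hq : 5 ≤ E.q)
    (co : Core τ α β R R') {u v : U} (hu : u * u = 1) (hu' : E.ι (τ u) ∈ TT D (kb p)) (hv : E.ι (τ v) ∈ TT D (kb p))
    {c : Lat l} (hc : A1c hp (PsiS hp {E.ι (τ u)}) c) (hg : E.g c = c ∨ E.g c = -c) : ch hp c (E.ι (τ v)) = 1 := by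
  have hτ : τ u * τ u = 1 := by rw [← map_mul, hu, map_one]
  obtain ⟨φ, hφ⟩ := exists_chi hp2 E hτ hu'
  have h1 : R.map E.ι ≤ MS D l p (PsiS hp {E.ι (τ u)}) := by
    refine E.perf_le Nat.prime_two ?_ co.pair.perfect ?_
    · rintro _ rfl
      exact ⟨hu', sq_ι E hτ⟩
    · rintro _ rfl y hy
      rw [← map_mul, co.pair.comm u y hy, map_mul]
  rw [hφ.psiS (prim2 hp2)] at hc h1
  have hcen := one D l M hp hl hB2 p d g0 L E U τ α β R R' co hp2 hq u φ hφ c hc hg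
  have hS := spl_psi (p := p) hc.1.1 hc
  obtain ⟨a, -, -, ha⟩ := inn_T hc.1.1 hv
  refine (cz_T hc.1.1 hv).1 ((sl_ck hc.1.1).cz_of_perfect (map_perf _ co.pair.perfect) (fun y hy => hS.inn _ (h1 hy))
    (fun h => hcen ((cen_iff E hc.1.1).2 h)) ha ?_)
  rintro _ ⟨y, hy, rfl⟩
  rw [← map_mul, co.pair.comm v y hy, map_mul]

/-- `K3` for the homomorphism `f` in all frames -/
def K3P (hp : IsType D l M) (p : ℕ) [Fact p.Prime] (d : ℕ) (g0 : Lat l ≃+ Lat l) (f : U →* L) : Prop :=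
  ∀ E : Frame hp p d g0 L, 5 ≤ E.q → ∀ u v : U, u * u = 1 → E.ι (f u) ∈ TT D (kb p) → E.ι (f v) ∈ TT D (kb p) →
    ∀ c, A1c hp (PsiS hp {E.ι (f u)}) c → (E.g c = c ∨ E.g c = -c) → ch hp c (E.ι (f v)) = 1

theorem k3p_tau (one : OneA) (hl : l ≤ 7) (hB2 : D ≠ chevB2) (hp2 : p ≠ 2) (co : Core τ α β R R') : K3P hp p d g0 τ :=
  fun E hq u v hu hu' hv c hc hg => k3_tau one hl hB2 hp2 E hq co hu hu' hv hc hg

theorem k3p_alpha (one : OneA) (hl : l ≤ 7) (hB2 : D ≠ chevB2) (hp2 : p ≠ 2) (co : Core τ α β R R') :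
    K3P hp p d g0 α := by
  obtain ⟨θ, ψ, -, h⟩ := exists_cmp co
  intro E hq u v hu hu' hv c hc hg
  rw [← h] at hu' hv hc ⊢
  exact k3p_tau one hl hB2 hp2 (co.map θ) E hq (ψ u) (ψ v) (by rw [← map_mul, hu, map_one]) hu' hv c hc hg

variable {S : (Lat l →+ ZMod 2) → Prop} {Q : (Lat l →+ ZMod 2) → ZMod 2}

/-- the characters of the involutions of `L` are admissible, and some `A₁`-component is stable -/
def Adm (hp : IsType D l M) (p : ℕ) [Fact p.Prime] (d : ℕ) (g0 : Lat l ≃+ Lat l) (L : Type) [Group L]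
    (S : (Lat l →+ ZMod 2) → Prop) : Prop :=
  ∀ (E : Frame hp p d g0 L) (x : L) (φ : Lat l →+ ZMod 2), Chi hp (-1) (E.ι x) φ →
    S φ ∧ (Rho hp (Psi hp φ) → ∃ c, A1c hp (Psi hp φ) c ∧ (E.g c = c ∨ E.g c = -c))

theorem add_of_k3 (qd : QD hp S Q) (hp2 : p ≠ 2) (hS : Adm hp p d g0 L S) {f : U →* L}
    (k3 : K3P hp p d g0 f) (E : Frame hp p d g0 L) (hq : 5 ≤ E.q) {u v : U} (hu : u * u = 1)
    {φ ψ : Lat l →+ ZMod 2} (h : Chi hp (-1) (E.ι (f u)) φ) (h' : Chi hp (-1) (E.ι (f v)) ψ) (h1 : Q φ = 1) :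
    Q (φ + ψ) = Q φ + Q ψ := by
  obtain ⟨c, hc', hg⟩ := (hS E _ φ h).2 ((qd.rho φ (hS E _ φ h).1).1 h1)
  refine qd.k3 φ ψ (hS E _ φ h).1 (hS E _ ψ h').1 c hc' ?_
  have h2 := k3 E hq u v hu h.1 h'.1 c (by rwa [h.psiS (prim2 hp2)]) hg
  rw [h'.2 c hc'.1.1] at h2
  exact (zeta_eq_one (prim2 hp2)).1 h2

/-- **The type is additive** on commuting involutions -/
theorem lam_mul (qd : QD hp S Q) (hp2 : p ≠ 2) (hS : Adm hp p d g0 L S) (hc : ConnAll hp p d g0 L) {f : U →* L}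
    (k3 : K3P hp p d g0 f) (E : Frame hp p d g0 L) (hq : 5 ≤ E.q) {u v : U} (hu : u * u = 1) (hv : v * v = 1)
    (huv : u * v = v * u) : lam hp (E.ι (f u * f v)) = lam hp (E.ι (f u)) + lam hp (E.ι (f v)) := by
  have hu' : f u * f u = 1 := by rw [← map_mul, hu, map_one]
  have hv' : f v * f v = 1 := by rw [← map_mul, hv, map_one]
  obtain ⟨E', h1, h2, h3⟩ := exists_two hp2 E hu' hv' (by rw [← map_mul, huv, map_mul]) fun E' _ h => hc E' _ hu' h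
  obtain ⟨φ, hφ⟩ := exists_chi hp2 E' hu' h2
  obtain ⟨ψ, hψ⟩ := exists_chi hp2 E' hv' h3
  have hq' : 5 ≤ E'.q := by rwa [cj_q h1]
  have h4 := chi_mul hp2 hφ hψ
  rw [← cj_lam h1, ← cj_lam h1, ← cj_lam h1, qd.lam hp2 hφ (hS E' _ _ hφ).1, qd.lam hp2 hψ (hS E' _ _ hψ).1,
    qd.lam hp2 h4 (hS E' _ _ h4).1]
  rcases z2 (Q φ) with h5 | h5
  · rcases z2 (Q ψ) with h6 | h6
    · rcases z2 (Q (φ + ψ)) with h7 | h7
      · rw [h5, h6, h7, add_zero]
      · rw [← map_mul f] at h4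
        have h8 := add_of_k3 qd hp2 hS k3 E' hq' (mul_sq hu hv huv) h4 hψ h7
        have h9 : φ + ψ + ψ = φ := by
          refine AddMonoidHom.ext fun a => ?_
          rw [AddMonoidHom.add_apply, AddMonoidHom.add_apply, add_assoc, CharTwo.add_self_eq_zero, add_zero]
        rw [h9, h5, h6, h7] at h8
        exact absurd h8 (by decide)
    · rw [add_comm φ, add_comm (Q φ)]
      exact add_of_k3 qd hp2 hS k3 E' hq' hv hψ hφ h6
  · exact add_of_k3 qd hp2 hS k3 E' hq' hu hφ hψ h5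

/-- toral triples -/
theorem triple (qd : QD hp S Q) (hp2 : p ≠ 2) (hS : Adm hp p d g0 L S) (hc : ConnAll hp p d g0 L)
    (E : Frame hp p d g0 L) {x y z : L} (hx : x * x = 1) (hy : y * y = 1) (hz : z * z = 1) (hxy : x * y = y * x)
    {J : Subgroup L} (hJ : ⁅J, J⁆ = J) (hzJ : z ∈ J) (hxJ : ∀ j ∈ J, x * j = j * x) (hyJ : ∀ j ∈ J, y * j = j * y) :
    lam hp (E.ι (x * y * z)) + lam hp (E.ι (x * y)) + lam hp (E.ι (x * z)) + lam hp (E.ι (y * z)) + lam hp (E.ι x) +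
      lam hp (E.ι y) + lam hp (E.ι z) = 0 ∧
    (lam hp (E.ι x) = 0 → lam hp (E.ι y) = 0 → lam hp (E.ι (x * y)) = 0 → lam hp (E.ι z) = 0 →
      lam hp (E.ι (x * z)) = 0 → lam hp (E.ι (y * z)) = 0 → lam hp (E.ι (x * y * z)) = 0 →
      x = 1 ∨ y = 1 ∨ x * y = 1 ∨ z = 1 ∨ x * z = 1 ∨ y * z = 1 ∨ x * y * z = 1) := by
  obtain ⟨E₁, h1, h2, h3⟩ := exists_two hp2 E hx hy hxy fun E' _ h => hc E' _ hx h
  obtain ⟨E₂, h4, h5, h6, h7⟩ := exists_three hp2 E₁ hx hy hz h2 h3 hJ hzJ hxJ hyJ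
  have h8 := cj_trans h1 h4
  obtain ⟨φ, hφ⟩ := exists_chi hp2 E₂ hx h5
  obtain ⟨ψ, hψ⟩ := exists_chi hp2 E₂ hy h6
  obtain ⟨χ, hχ⟩ := exists_chi hp2 E₂ hz h7
  have c1 := chi_mul hp2 hφ hψ
  have c2 := chi_mul hp2 hφ hχ
  have c3 := chi_mul hp2 hψ hχ
  have c4 := chi_mul hp2 c1 hχ
  simp only [← cj_lam h8]
  rw [qd.lam hp2 hφ (hS E₂ _ _ hφ).1, qd.lam hp2 hψ (hS E₂ _ _ hψ).1, qd.lam hp2 hχ (hS E₂ _ _ hχ).1,
    qd.lam hp2 c1 (hS E₂ _ _ c1).1, qd.lam hp2 c2 (hS E₂ _ _ c2).1, qd.lam hp2 c3 (hS E₂ _ _ c3).1,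
    qd.lam hp2 c4 (hS E₂ _ _ c4).1]
  refine ⟨qd.tri φ ψ χ, fun e1 e2 e3 e4 e5 e6 e7 => ?_⟩
  rcases qd.witt φ ψ χ (hS E₂ _ _ hφ).1 (hS E₂ _ _ hψ).1 (hS E₂ _ _ hχ).1 e1 e2 e3 e4 e5 e6 e7 with
    h | h | h | h | h | h | h
  · exact Or.inl (chi_zero hp2 hφ h)
  · exact Or.inr (Or.inl (chi_zero hp2 hψ h))
  · exact Or.inr (Or.inr (Or.inl (chi_zero hp2 c1 h)))
  · exact Or.inr (Or.inr (Or.inr (Or.inl (chi_zero hp2 hχ h))))
  · exact Or.inr (Or.inr (Or.inr (Or.inr (Or.inl (chi_zero hp2 c2 h)))))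
  · exact Or.inr (Or.inr (Or.inr (Or.inr (Or.inr (Or.inl (chi_zero hp2 c3 h))))))
  · exact Or.inr (Or.inr (Or.inr (Or.inr (Or.inr (Or.inr (chi_zero hp2 c4 h))))))

theorem ab_eq_one (co : Core τ α β R R') {x y : U} (h : α x * β y = 1) : y = 1 := by
  have h1 : α x = β y⁻¹ := by rw [map_inv, eq_inv_iff_mul_eq_one, h]
  have h2 : x = 1 := co.pair'.eq_one_of_mem co.simple co.noncomm (h1 ▸ co.bmem _)
  rw [h2, map_one, one_mul] at h
  exact co.binj (by rw [h, map_one])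

/-- **The abstract argument.** -/
theorem noCore_of (one : OneA) (hl : l ≤ 7) (hB2 : D ≠ chevB2) (qd : QD hp S Q) (hp2 : p ≠ 2) (hS : Adm hp p d g0 L S)
    (hc : ConnAll hp p d g0 L) (E : Frame hp p d g0 L) (hq : 5 ≤ E.q) : NoCore L := by
  intro U _ _ τ α β R R' co
  have kt := fun {u v : U} => lam_mul qd hp2 hS hc (k3p_tau one hl hB2 hp2 co) E hq (u := u) (v := v)
  have ka := fun {u v : U} => lam_mul qd hp2 hS hc (k3p_alpha one hl hB2 hp2 co) E hq (u := u) (v := v)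
  have cj : ∀ (f : U →* L) (g u : U), lam hp (E.ι (f (g * u * g⁻¹))) = lam hp (E.ι (f u)) := fun f g u => by
    rw [map_mul f, map_mul f, map_inv f, lam_conj']
  obtain ⟨e, he, he1⟩ := exists_inv co.simple co.noncomm
  obtain ⟨g, hg1, hg2⟩ := exists_commuting co.simple co.noncomm he he1
  have hx := mul_sq he (conj_sq he g) hg2
  have hx1 := mul_ne he hg1
  have tx := kt he (conj_sq he g) hg2
  have ax := ka he (conj_sq he g) hg2
  rw [cj, CharTwo.add_self_eq_zero, ← map_mul] at tx ax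
  generalize e * (g * e * g⁻¹) = x at hx hx1 tx ax
  obtain ⟨k, hk1, hk2⟩ := exists_commuting co.simple co.noncomm hx hx1
  have hy := conj_sq hx k
  have ty := (cj τ k x).trans tx
  have ay := (cj α k x).trans ax
  have by' := cj β k x
  have e1 : ∀ b : U, lam hp (E.ι (α (k * x * k⁻¹) * β b)) = lam hp (E.ι (α x * β b)) := fun b => by
    rw [← lam_conj' E (α k) (α x * β b), map_mul α, map_mul α, map_inv α, mul_assoc (α k * α x), ← map_inv α, co.ab,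
      map_inv α]
    congr 2
    group
  have e2 : lam hp (E.ι (β (k * x * k⁻¹) * α x)) = lam hp (E.ι (β x * α x)) := by
    rw [← lam_conj' E (β k) (β x * α x), map_mul β, map_mul β, map_inv β, mul_assoc (β k * β x), ← map_inv β, ← co.ab,
      map_inv β]
    congr 2
    group
  have hy1 : k * x * k⁻¹ ≠ 1 := fun h => hx1 (by rwa [conj_eq_one_iff] at h)
  generalize k * x * k⁻¹ = y at hk1 hk2 hy ty ay by' e1 e2 hy1
  have hz := mul_sq hx hy hk2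
  have hz1 := mul_ne hx hk1
  have tz := kt hx hy hk2
  have az := ka hx hy hk2
  rw [tx, ty, add_zero, ← map_mul, co.eq, map_mul α] at tz
  rw [ax, ay, add_zero] at az
  have sq : ∀ (f : U →* L) {u : U}, u * u = 1 → f u * f u = 1 := fun f u hu => by rw [← map_mul, hu, map_one]
  obtain ⟨t1, t2⟩ := triple qd hp2 hS hc E (sq α hx) (sq α hy) (sq β hz) (by rw [← map_mul, hk2, map_mul])
    (range_perfect co.simple co.noncomm β) ⟨_, rfl⟩ (by rintro _ ⟨j, rfl⟩; exact co.ab _ j)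
    (by rintro _ ⟨j, rfl⟩; exact co.ab _ j)
  obtain ⟨t3, -⟩ := triple qd hp2 hS hc E (sq β hx) (sq β hy) (sq α hx) (by rw [← map_mul, hk2, map_mul])
    (range_perfect co.simple co.noncomm α) ⟨_, rfl⟩ (by rintro _ ⟨j, rfl⟩; exact (co.ab j _).symm)
    (by rintro _ ⟨j, rfl⟩; exact (co.ab j _).symm)
  rw [tz, az, e1, ax, ay, zero_add, zero_add, CharTwo.add_self_eq_zero, zero_add, zero_add, zero_add] at t1
  rw [e2, by', ← map_mul β, t1, ← co.ab x x, ← co.eq, tx, ax, add_zero, add_zero, add_zero, add_zero, add_assoc,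
    CharTwo.add_self_eq_zero, add_zero, ← co.ab] at t3
  rcases t2 ax ay az t1 t3 ((e1 _).trans t3) tz with h | h | h | h | h | h | h
  · exact hx1 (co.pair'.inj (by rw [h, map_one]))
  · exact hy1 (co.pair'.inj (by rw [h, map_one]))
  · exact hz1 (co.pair'.inj (by rw [map_mul, h, map_one]))
  · exact hz1 (co.binj (by rw [h, map_one]))
  · exact hz1 (ab_eq_one co h)
  · exact hz1 (ab_eq_one co h)
  · exact hz1 (ab_eq_one co (by rwa [← map_mul] at h))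

end Cfsg.Agent.Cam.Odd.Low
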