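import Cfsg.Agent.Cam.Odd.LowA
import Cfsg.Agent.Cam.Ex.CbT

/-!
# S3689, S3690, exceptional rows: involutions, the quadratic forms (helper70)
-/

set_option autoImplicit false
set_option linter.unusedVariables false
set_option linter.unusedSectionVars false
set_option maxRecDepth 100000
set_option synthInstance.maxSize 4096

namespace Cfsg.Agent.Cam.Odd.Low

open CoxeterSystem Cfsg Cfsg.Lie
open Cfsg.Agent.ChevalleyStructure.CoxeterGeom Cfsg.Agent.ChevalleyStructure.CoxeterGeomTypes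
open Cfsg.Agent.Tits.Roots Cfsg.Agent.Nodes.RGDChev Cfsg.Agent.Nodes.Coroot
open Cfsg.Agent.Cam.Ex
open Cfsg.Agent.Cam.Ex.Cb (V gt dot toF Ent Dt Tab toF_inj psi_toF eq_sum dG2 dD4 dF4 dE6 tabG2 tabD4 tabF4 tabE6)

variable {D : ChevalleyDatum} {l : ℕ} {M : CoxeterMatrix (Fin l)} {hp : IsType D l M} {d : Dt}

/-- the value of a character on a list -/
noncomputable def ev (n : Fin l → ZMod 2) (x : V) : ZMod 2 := ∑ i : Fin l, ((gt x i : ℤ) : ZMod 2) * n i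

/-- the coordinates of a character -/
def co (φ : Lat l →+ ZMod 2) : Fin l → ZMod 2 := fun i => φ (sr i)

theorem ev_co (φ : Lat l →+ ZMod 2) (x : V) : ev (co φ) x = φ (toF l x) := (eq_sum φ (toF l x)).symm

theorem co_add (φ ψ : Lat l →+ ZMod 2) : co (φ + ψ) = co φ + co ψ := rfl

theorem co_eq_zero {φ : Lat l →+ ZMod 2} (h : co φ = 0) : φ = 0 := by
  refine AddMonoidHom.ext fun a => ?_
  rw [eq_sum φ a]
  exact Finset.sum_eq_zero fun i _ => by rw [show φ (sr i) = 0 from congrFun h i, mul_zero]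

/-- the check for an `A₁`-component -/
def a1k (d : Dt) (n : Fin l → ZMod 2) (e : Ent) : Prop :=
  ev n e.b = 0 ∧ ∀ e' ∈ d.T, ev n e'.b = 0 → e'.b = e.b ∨ dot e'.b e.cv = 0

theorem psi_neg' {φ : Lat l →+ ZMod 2} {c : Lat l} (h : c ∈ Psi hp φ) : -c ∈ Psi hp φ :=
  ⟨h.1.neg', by rw [map_neg, h.2, neg_zero]⟩

theorem a1c_neg {φ : Lat l →+ ZMod 2} {c : Lat l} (h : A1c hp (Psi hp φ) c) : A1c hp (Psi hp φ) (-c) := by
  refine ⟨psi_neg' h.1, fun a ha => ?_⟩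
  rcases h.2 a ha with h1 | h1 | h1
  · exact Or.inr (Or.inl (by rw [neg_neg, h1]))
  · exact Or.inl h1
  · exact Or.inr (Or.inr (by rw [cp_neg_right _ h.1.1, h1, neg_zero]))

theorem psi_ex (hT : Tab hp d) {φ : Lat l →+ ZMod 2} {c : Lat l} (h : c ∈ Psi hp φ) :
    ∃ e ∈ d.T, ev (co φ) e.b = 0 ∧ (c = toF l e.b ∨ c = -toF l e.b) := by
  obtain ⟨e, he, h1⟩ := hT.sur c h.1
  refine ⟨e, he, ?_, h1⟩
  rw [ev_co]
  rcases h1 with h1 | h1
  · rw [← h1, h.2]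
  · rw [← neg_eq_iff_eq_neg.2 h1, map_neg, h.2, neg_zero]

theorem cp_toF (hT : Tab hp d) {e e' : Ent} (he : e ∈ d.T) (he' : e' ∈ d.T) :
    cp hp (toF l e'.b) (toF l e.b) = dot e'.b e.cv := by
  rw [hT.cpe e he, psi_toF (hT.lb e' he')]

theorem ne_neg_toF (hT : Tab hp d) {e e' : Ent} (he : e ∈ d.T) (he' : e' ∈ d.T) : toF l e'.b ≠ -toF l e.b := fun h =>
  (hT.rt e he).ne_zero' (le_antisymm (neg_nonneg.1 (h ▸ hT.pos e' he')) (hT.pos e he))

theorem a1c_iff (hT : Tab hp d) {φ : Lat l →+ ZMod 2} {e : Ent} (he : e ∈ d.T) :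
    A1c hp (Psi hp φ) (toF l e.b) ↔ a1k d (co φ) e := by
  constructor
  · intro h
    refine ⟨by rw [ev_co, h.1.2], fun e' he' h1 => ?_⟩
    rcases h.2 _ ⟨hT.rt e' he', by rwa [ev_co] at h1⟩ with h2 | h2 | h2
    · exact Or.inl (toF_inj (hT.lb e' he') (hT.lb e he) h2)
    · exact absurd h2 (ne_neg_toF hT he he')
    · exact Or.inr (by rwa [cp_toF hT he he'] at h2)
  · intro h
    refine ⟨⟨hT.rt e he, by rw [← ev_co, h.1]⟩, fun a ha => ?_⟩
    obtain ⟨e', he', h1, h2⟩ := psi_ex hT ha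
    rcases h.2 e' he' h1 with h3 | h3
    · rw [h3] at h2
      exact h2.imp_right Or.inl
    · right; right
      rcases h2 with rfl | rfl
      · rw [cp_toF hT he he', h3]
      · rw [cp_neg _ (hT.rt e he), cp_toF hT he he', h3, neg_zero]

theorem a1c_ex (hT : Tab hp d) {φ : Lat l →+ ZMod 2} {c : Lat l} (h : A1c hp (Psi hp φ) c) :
    ∃ e ∈ d.T, a1k d (co φ) e ∧ (c = toF l e.b ∨ c = -toF l e.b) := by
  obtain ⟨e, he, -, h1⟩ := psi_ex hT h.1
  refine ⟨e, he, (a1c_iff hT he).1 ?_, h1⟩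
  rcases h1 with h1 | h1
  · rwa [← h1]
  · rw [← neg_eq_iff_eq_neg.2 h1]
    exact a1c_neg h

theorem tri_of {X : Type} [AddCommGroup X] (B : X → X → ZMod 2) (h1 : ∀ x y z, B (x + y) z = B x z + B y z)
    (h2 : ∀ x y z, B x (y + z) = B x y + B x z) (x y z : X) :
    B (x + y + z) (x + y + z) + B (x + y) (x + y) + B (x + z) (x + z) + B (y + z) (y + z) + B x x + B y y + B z z = 0 := by
  simp only [h1, h2]
  have h : (2 : ZMod 2) = 0 := rfl
  linear_combination (2 * B x x + 2 * B y y + 2 * B z z + B x y + B y x + B x z + B z x + B y z + B z y) * h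

/-- the three finite checks -/
structure QK (d : Dt) (S : (Fin l → ZMod 2) → Prop) (B : (Fin l → ZMod 2) → (Fin l → ZMod 2) → ZMod 2) : Prop where
  b1 : ∀ x y z, B (x + y) z = B x z + B y z
  b2 : ∀ x y z, B x (y + z) = B x y + B x z
  rho : ∀ n, S n → (B n n = 1 ↔ ∃ e ∈ d.T, a1k d n e)
  k3 : ∀ n, S n → ∀ e ∈ d.T, a1k d n e → ∀ m, S m → ev m e.b = 0 → B (n + m) (n + m) = B n n + B m m
  witt : ∀ x, S x → B x x = 0 → x = 0 ∨ ∀ y, S y → B y y = 0 → B (x + y) (x + y) = 0 → y = 0 ∨ x + y = 0 ∨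
    ∀ z, S z → B z z = 0 → B (x + z) (x + z) = 0 → B (y + z) (y + z) = 0 → B (x + y + z) (x + y + z) = 0 →
      z = 0 ∨ x + z = 0 ∨ y + z = 0 ∨ x + y + z = 0

theorem QK.qd (hT : Tab hp d) {S : (Fin l → ZMod 2) → Prop} {B : (Fin l → ZMod 2) → (Fin l → ZMod 2) → ZMod 2}
    (h : QK d S B) : QD hp (fun φ => S (co φ)) (fun φ => B (co φ) (co φ)) where
  rho φ hφ := by
    rw [h.rho _ hφ]
    constructor
    · rintro ⟨e, he, h1⟩
      exact ⟨_, (a1c_iff hT he).2 h1⟩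
    · rintro ⟨c, hc⟩
      obtain ⟨e, he, h1, -⟩ := a1c_ex hT hc
      exact ⟨e, he, h1⟩
  tri φ ψ χ := tri_of B h.b1 h.b2 (co φ) (co ψ) (co χ)
  k3 φ ψ hφ hψ c hc h0 := by
    obtain ⟨e, he, h1, h2⟩ := a1c_ex hT hc
    refine h.k3 (co φ) hφ e he h1 (co ψ) hψ ?_
    rw [ev_co]
    rcases h2 with h2 | h2
    · rw [← h2, h0]
    · rw [← neg_eq_iff_eq_neg.2 h2, map_neg, h0, neg_zero]
  witt φ ψ χ h1 h2 h3 e1 e2 e3 e4 e5 e6 e7 := by
    rcases h.witt _ h1 e1 with h4 | h4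
    · exact Or.inl (co_eq_zero h4)
    rcases h4 _ h2 e2 e3 with h5 | h5 | h5
    · exact Or.inr (Or.inl (co_eq_zero h5))
    · exact Or.inr (Or.inr (Or.inl (co_eq_zero h5)))
    rcases h5 _ h3 e4 e5 e6 e7 with h6 | h6 | h6 | h6
    · exact Or.inr (Or.inr (Or.inr (Or.inl (co_eq_zero h6))))
    · exact Or.inr (Or.inr (Or.inr (Or.inr (Or.inl (co_eq_zero h6)))))
    · exact Or.inr (Or.inr (Or.inr (Or.inr (Or.inr (Or.inl (co_eq_zero h6))))))
    · exact Or.inr (Or.inr (Or.inr (Or.inr (Or.inr (Or.inr (co_eq_zero h6))))))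

/-- uniqueness of the `A₁`-component -/
theorem uniq_of (hT : Tab hp d) (h : ∀ n : Fin l → ZMod 2, ∀ e ∈ d.T, a1k d n e → ∀ e' ∈ d.T, a1k d n e' → e'.b = e.b)
    {φ : Lat l →+ ZMod 2} {c c' : Lat l} (hc : A1c hp (Psi hp φ) c) (hc' : A1c hp (Psi hp φ) c') :
    c' = c ∨ c' = -c := by
  obtain ⟨e, he, h1, h2⟩ := a1c_ex hT hc
  obtain ⟨e', he', h3, h4⟩ := a1c_ex hT hc'
  rw [h _ e he h1 e' he' h3] at h4
  rcases h2 with rfl | rfl
  · exact h4
  · rw [neg_neg]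
    exact h4.symm

/-- `G₂` -/
def b2 (n m : Fin 2 → ZMod 2) : ZMod 2 := n 0 * m 0 + n 0 * m 1 + n 1 * m 1

/-- `D₄` -/
def bd (n m : Fin 4 → ZMod 2) : ZMod 2 := n 0 * m 0 + n 0 * m 1 + n 1 * m 1

/-- `F₄` -/
def b4 (n m : Fin 4 → ZMod 2) : ZMod 2 := n 2 * m 2 + n 2 * m 3 + n 3 * m 3

/-- `E₆` -/
def b6 (n m : Fin 6 → ZMod 2) : ZMod 2 :=
  n 0 * m 1 + n 0 * m 2 + n 1 * m 1 + n 1 * m 3 + n 1 * m 5 + n 2 * m 2 + n 3 * m 3 + n 4 * m 4 + n 4 * m 5

/-- the characters of `D₄` that are fixed by a twisted triality -/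
def Sd (n : Fin 4 → ZMod 2) : Prop := n 0 = n 2 ∧ n 0 = n 3

theorem qk2 : QK dG2 (fun _ => True) b2 where
  b1 x y z := by simp only [b2, Pi.add_apply]; ring
  b2 x y z := by simp only [b2, Pi.add_apply]; ring
  rho := by unfold a1k; decide +kernel
  k3 := by unfold a1k; decide +kernel
  witt := by decide +kernel

theorem qkd : QK dD4 Sd bd where
  b1 x y z := by simp only [bd, Pi.add_apply]; ring
  b2 x y z := by simp only [bd, Pi.add_apply]; ring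
  rho := by unfold a1k Sd; decide +kernel
  k3 := by unfold a1k Sd; decide +kernel
  witt := by unfold Sd; decide +kernel

theorem qk4 : QK dF4 (fun _ => True) b4 where
  b1 x y z := by simp only [b4, Pi.add_apply]; ring
  b2 x y z := by simp only [b4, Pi.add_apply]; ring
  rho := by unfold a1k; decide +kernel
  k3 := by unfold a1k; decide +kernel
  witt := by decide +kernel

theorem qk6 : QK dE6 (fun _ => True) b6 where
  b1 x y z := by simp only [b6, Pi.add_apply]; ring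
  b2 x y z := by simp only [b6, Pi.add_apply]; ring
  rho := by unfold a1k; decide +kernel
  k3 := by unfold a1k; decide +kernel
  witt := by decide +kernel

theorem un4 : ∀ n : Fin 4 → ZMod 2, ∀ e ∈ dF4.T, a1k dF4 n e → ∀ e' ∈ dF4.T, a1k dF4 n e' → e'.b = e.b := by
  unfold a1k
  decide +kernel

theorem un6 : ∀ n : Fin 6 → ZMod 2, ∀ e ∈ dE6.T, a1k dE6 n e → ∀ e' ∈ dE6.T, a1k dE6 n e' → e'.b = e.b := by
  unfold a1k
  decide +kernel

end Cfsg.Agent.Cam.Odd.Low
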